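import Mathlib

/-!
A group with the binary icosahedral relations has at most 120 elements, by a coset enumeration.
-/

set_option autoImplicit false

namespace Cfsg.Agent.FPF25.IcosPres

variable {P : Type*} [Group P] {x y z : P}

theorem zero_pow {w : P} {n : ℕ} [NeZero n] (hw : w ^ n = 1) (a b : ZMod n) :
    w ^ (a + b).val = w ^ a.val * w ^ b.val := by
  rw [ZMod.val_add, ← pow_add, ← pow_eq_pow_mod _ hw]

theorem comp (hz : Commute y z) (hy : y ^ 5 = 1) (hz2 : z ^ 2 = 1) {u v p q r : P} {a c : ZMod 5} {b d : ZMod 2}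
    (e : u * p = q * (y ^ a.val * z ^ b.val)) (f : v * q = r * (y ^ c.val * z ^ d.val)) :
    (v * u) * p = r * (y ^ (c + a).val * z ^ (d + b).val) := by
  rw [zero_pow hy, zero_pow hz2, mul_assoc v, e, ← mul_assoc v, f, mul_assoc r]
  congr 1
  rw [mul_assoc, ← mul_assoc (z ^ d.val), ((hz.pow_pow a.val d.val).symm).eq, mul_assoc (y ^ a.val),
    ← mul_assoc (y ^ c.val)]

theorem inv (hz : Commute y z) (hy : y ^ 5 = 1) (hz2 : z ^ 2 = 1) {u p q : P} {a : ZMod 5} {b : ZMod 2}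
    (e : u * p = q * (y ^ a.val * z ^ b.val)) :
    u⁻¹ * q = p * (y ^ (-a).val * z ^ (-b).val) := by
  have ha : y ^ (-a).val = (y ^ a.val)⁻¹ := eq_inv_of_mul_eq_one_left (by
    rw [← zero_pow hy, neg_add_cancel, ZMod.val_zero, pow_zero])
  have hb : z ^ (-b).val = (z ^ b.val)⁻¹ := eq_inv_of_mul_eq_one_left (by
    rw [← zero_pow hz2, neg_add_cancel, ZMod.val_zero, pow_zero])
  rw [ha, hb, ((hz.pow_pow a.val b.val).inv_inv).eq, ← mul_inv_rev, eq_mul_inv_iff_mul_eq, mul_assoc, ← e,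
    inv_mul_cancel_left]

theorem mem_list (hzc : ∀ g : P, Commute g z) (hz2 : z ^ 2 = 1) (hx : x ^ 3 = 1) (hy : y ^ 5 = 1)
    (hxy : (x * y) ^ 2 = z) :
    ∃ f : Fin 12 × ZMod 5 × ZMod 2 → P, ∀ g ∈ Subgroup.closure {x, y}, ∃ k, f k = g := by
  have hc : Commute y z := hzc y
  have hzi : z⁻¹ = z := inv_eq_of_mul_eq_one_left (by rw [← pow_two, hz2])
  have hsq : x * y * (x * y) = z := by rw [← pow_two, hxy]
  have hsq' : y * x * (y * x) = z := by
    calc y * x * (y * x) = x⁻¹ * (x * y * (x * y)) * x := by group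
      _ = z := by rw [hsq, mul_assoc, ← (hzc x).eq, inv_mul_cancel_left]
  have r0 : x = x⁻¹ * x⁻¹ := by
    rw [← mul_inv_rev, eq_inv_iff_mul_eq_one, ← pow_two, ← pow_succ', hx]
  have r1 : x = (y⁻¹ * (x⁻¹ * y⁻¹)) * z := by
    rw [(hzc _).eq]; conv_rhs => rw [← hsq]
    group
  have r2 : y = (x⁻¹ * (y⁻¹ * x⁻¹)) * z := by
    rw [(hzc _).eq]; conv_rhs => rw [← hsq']
    group
  have r3 : y = y⁻¹ * (y⁻¹ * (y⁻¹ * y⁻¹)) := by
    rw [← mul_inv_rev, ← mul_inv_rev, ← mul_inv_rev, eq_inv_iff_mul_eq_one, ← pow_two, ← pow_succ,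
      ← pow_succ, ← pow_succ', hy]
  have hzm : ∀ {u p q : P} {a : ZMod 5} {b : ZMod 2}, u * p = q * (y ^ a.val * z ^ b.val) →
      (u * z) * p = q * (y ^ a.val * z ^ (b + 1).val) := fun {u p q a b} e => by
    rw [zero_pow hz2, mul_assoc u, ← (hzc p).eq, ← mul_assoc u, e, mul_assoc, mul_assoc, show (1 : ZMod 2).val = 1 from rfl, pow_one]
  have adj : ∀ {u p q : P} {a a' : ZMod 5} {b b' : ZMod 2}, u * p = q * (y ^ a.val * z ^ b.val) → a = a' → b = b' →
      u * p = q * (y ^ a'.val * z ^ b'.val) := fun e ha hb => ha ▸ hb ▸ e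
  have hh : y ^ (0 : ZMod 5).val * z ^ (0 : ZMod 2).val = (1 : P) := by simp
  let w0 : P := 1
  let w1 : P := x * w0
  let w2 : P := x * w1
  let w3 : P := y * w2
  let w4 : P := x * w3
  let w5 : P := y * w3
  let w6 : P := x * w4
  let w7 : P := x * w5
  let w8 : P := y * w6
  let w9 : P := y * w8
  let w10 : P := x * w9
  let w11 : P := x * w10
  have ey0 : y * w0 = w0 * (y ^ (1 : ZMod 5).val * z ^ (0 : ZMod 2).val) := by rw [ZMod.val_zero, pow_zero, mul_one, show (1 : ZMod 5).val = 1 from rfl, pow_one, show w0 = 1 from rfl, mul_one, one_mul]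
  have ex0 : x * w0 = w1 * (y ^ (0 : ZMod 5).val * z ^ (0 : ZMod 2).val) := by rw [hh]; exact (mul_one _).symm
  have ex1 : x * w1 = w2 * (y ^ (0 : ZMod 5).val * z ^ (0 : ZMod 2).val) := by rw [hh]; exact (mul_one _).symm
  have ex2 : x * w2 = w0 * (y ^ (0 : ZMod 5).val * z ^ (0 : ZMod 2).val) := by
    have h := adj (comp hc hy hz2 (inv hc hy hz2 ex1) (inv hc hy hz2 ex0)) (show _ = (0 : ZMod 5) by decide) (show _ = (0 : ZMod 2) by decide)
    rwa [← r0] at h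
  have ey1 : y * w1 = w2 * (y ^ (4 : ZMod 5).val * z ^ (1 : ZMod 2).val) := by
    have h := adj (hzm (comp hc hy hz2 (comp hc hy hz2 (inv hc hy hz2 ex0) (inv hc hy hz2 ey0)) (inv hc hy hz2 ex2))) (show _ = (4 : ZMod 5) by decide) (show _ = (1 : ZMod 2) by decide)
    rwa [← r2] at h
  have ey2 : y * w2 = w3 * (y ^ (0 : ZMod 5).val * z ^ (0 : ZMod 2).val) := by rw [hh]; exact (mul_one _).symm
  have ex3 : x * w3 = w4 * (y ^ (0 : ZMod 5).val * z ^ (0 : ZMod 2).val) := by rw [hh]; exact (mul_one _).symm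
  have ey4 : y * w4 = w1 * (y ^ (0 : ZMod 5).val * z ^ (1 : ZMod 2).val) := by
    have h := adj (hzm (comp hc hy hz2 (comp hc hy hz2 (inv hc hy hz2 ex3) (inv hc hy hz2 ey2)) (inv hc hy hz2 ex1))) (show _ = (0 : ZMod 5) by decide) (show _ = (1 : ZMod 2) by decide)
    rwa [← r2] at h
  have ey3 : y * w3 = w5 * (y ^ (0 : ZMod 5).val * z ^ (0 : ZMod 2).val) := by rw [hh]; exact (mul_one _).symm
  have ey5 : y * w5 = w4 * (y ^ (1 : ZMod 5).val * z ^ (0 : ZMod 2).val) := by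
    have h := adj (comp hc hy hz2 (comp hc hy hz2 (comp hc hy hz2 (inv hc hy hz2 ey3) (inv hc hy hz2 ey2)) (inv hc hy hz2 ey1)) (inv hc hy hz2 ey4)) (show _ = (1 : ZMod 5) by decide) (show _ = (0 : ZMod 2) by decide)
    rwa [← r3] at h
  have ex4 : x * w4 = w6 * (y ^ (0 : ZMod 5).val * z ^ (0 : ZMod 2).val) := by rw [hh]; exact (mul_one _).symm
  have ex6 : x * w6 = w3 * (y ^ (0 : ZMod 5).val * z ^ (0 : ZMod 2).val) := by
    have h := adj (comp hc hy hz2 (inv hc hy hz2 ex4) (inv hc hy hz2 ex3)) (show _ = (0 : ZMod 5) by decide) (show _ = (0 : ZMod 2) by decide)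
    rwa [← r0] at h
  have ex5 : x * w5 = w7 * (y ^ (0 : ZMod 5).val * z ^ (0 : ZMod 2).val) := by rw [hh]; exact (mul_one _).symm
  have ey7 : y * w7 = w6 * (y ^ (0 : ZMod 5).val * z ^ (1 : ZMod 2).val) := by
    have h := adj (hzm (comp hc hy hz2 (comp hc hy hz2 (inv hc hy hz2 ex5) (inv hc hy hz2 ey3)) (inv hc hy hz2 ex6))) (show _ = (0 : ZMod 5) by decide) (show _ = (1 : ZMod 2) by decide)
    rwa [← r2] at h
  have ey6 : y * w6 = w8 * (y ^ (0 : ZMod 5).val * z ^ (0 : ZMod 2).val) := by rw [hh]; exact (mul_one _).symm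
  have ex8 : x * w8 = w5 * (y ^ (4 : ZMod 5).val * z ^ (1 : ZMod 2).val) := by
    have h := adj (hzm (comp hc hy hz2 (comp hc hy hz2 (inv hc hy hz2 ey6) (inv hc hy hz2 ex4)) (inv hc hy hz2 ey5))) (show _ = (4 : ZMod 5) by decide) (show _ = (1 : ZMod 2) by decide)
    rwa [← r1] at h
  have ex7 : x * w7 = w8 * (y ^ (1 : ZMod 5).val * z ^ (1 : ZMod 2).val) := by
    have h := adj (comp hc hy hz2 (inv hc hy hz2 ex5) (inv hc hy hz2 ex8)) (show _ = (1 : ZMod 5) by decide) (show _ = (1 : ZMod 2) by decide)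
    rwa [← r0] at h
  have ey8 : y * w8 = w9 * (y ^ (0 : ZMod 5).val * z ^ (0 : ZMod 2).val) := by rw [hh]; exact (mul_one _).symm
  have ex9 : x * w9 = w10 * (y ^ (0 : ZMod 5).val * z ^ (0 : ZMod 2).val) := by rw [hh]; exact (mul_one _).symm
  have ey10 : y * w10 = w7 * (y ^ (4 : ZMod 5).val * z ^ (0 : ZMod 2).val) := by
    have h := adj (hzm (comp hc hy hz2 (comp hc hy hz2 (inv hc hy hz2 ex9) (inv hc hy hz2 ey8)) (inv hc hy hz2 ex7))) (show _ = (4 : ZMod 5) by decide) (show _ = (0 : ZMod 2) by decide)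
    rwa [← r2] at h
  have ey9 : y * w9 = w10 * (y ^ (1 : ZMod 5).val * z ^ (1 : ZMod 2).val) := by
    have h := adj (comp hc hy hz2 (comp hc hy hz2 (comp hc hy hz2 (inv hc hy hz2 ey8) (inv hc hy hz2 ey6)) (inv hc hy hz2 ey7)) (inv hc hy hz2 ey10)) (show _ = (1 : ZMod 5) by decide) (show _ = (1 : ZMod 2) by decide)
    rwa [← r3] at h
  have ex10 : x * w10 = w11 * (y ^ (0 : ZMod 5).val * z ^ (0 : ZMod 2).val) := by rw [hh]; exact (mul_one _).symm
  have ex11 : x * w11 = w9 * (y ^ (0 : ZMod 5).val * z ^ (0 : ZMod 2).val) := by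
    have h := adj (comp hc hy hz2 (inv hc hy hz2 ex10) (inv hc hy hz2 ex9)) (show _ = (0 : ZMod 5) by decide) (show _ = (0 : ZMod 2) by decide)
    rwa [← r0] at h
  have ey11 : y * w11 = w11 * (y ^ (4 : ZMod 5).val * z ^ (0 : ZMod 2).val) := by
    have h := adj (hzm (comp hc hy hz2 (comp hc hy hz2 (inv hc hy hz2 ex10) (inv hc hy hz2 ey9)) (inv hc hy hz2 ex11))) (show _ = (4 : ZMod 5) by decide) (show _ = (0 : ZMod 2) by decide)
    rwa [← r2] at h
  refine ⟨fun k => ![w0, w1, w2, w3, w4, w5, w6, w7, w8, w9, w10, w11] k.1 * (y ^ k.2.1.val * z ^ k.2.2.val), fun g hg => ?_⟩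
  have step : ∀ {u : P} (i : Fin 12) (j : Fin 12) {c : ZMod 5} {d : ZMod 2} (pi pj : P),
      u * pi = pj * (y ^ c.val * z ^ d.val) → ∀ (a : ZMod 5) (b : ZMod 2),
      (![w0, w1, w2, w3, w4, w5, w6, w7, w8, w9, w10, w11] : Fin 12 → P) j = pj → ∃ k : Fin 12 × ZMod 5 × ZMod 2,
        (![w0, w1, w2, w3, w4, w5, w6, w7, w8, w9, w10, w11] : Fin 12 → P) k.1 * (y ^ k.2.1.val * z ^ k.2.2.val) = u * (pi * (y ^ a.val * z ^ b.val)) := by
    intro u i j c d pi pj e a b hj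
    refine ⟨(j, c + a, d + b), ?_⟩
    rw [hj, ← comp hc hy hz2 (show (y ^ a.val * z ^ b.val) * 1 = 1 * (y ^ a.val * z ^ b.val) by rw [one_mul, mul_one]) (show (u * pi) * 1 = pj * (y ^ c.val * z ^ d.val) by rw [mul_one, e]), mul_one, mul_assoc]
  induction hg using Subgroup.closure_induction_left with
  | one => exact ⟨(0, 0, 0), by simp [w0]⟩
  | mul_left u hu v _ ih =>
    obtain ⟨⟨i, a, b⟩, rfl⟩ := ih
    rcases hu with rfl | rfl <;> fin_cases i
    · exact step 0 1 w0 w1 ex0 a b rfl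
    · exact step 1 2 w1 w2 ex1 a b rfl
    · exact step 2 0 w2 w0 ex2 a b rfl
    · exact step 3 4 w3 w4 ex3 a b rfl
    · exact step 4 6 w4 w6 ex4 a b rfl
    · exact step 5 7 w5 w7 ex5 a b rfl
    · exact step 6 3 w6 w3 ex6 a b rfl
    · exact step 7 8 w7 w8 ex7 a b rfl
    · exact step 8 5 w8 w5 ex8 a b rfl
    · exact step 9 10 w9 w10 ex9 a b rfl
    · exact step 10 11 w10 w11 ex10 a b rfl
    · exact step 11 9 w11 w9 ex11 a b rfl
    · exact step 0 0 w0 w0 ey0 a b rfl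
    · exact step 1 2 w1 w2 ey1 a b rfl
    · exact step 2 3 w2 w3 ey2 a b rfl
    · exact step 3 5 w3 w5 ey3 a b rfl
    · exact step 4 1 w4 w1 ey4 a b rfl
    · exact step 5 4 w5 w4 ey5 a b rfl
    · exact step 6 8 w6 w8 ey6 a b rfl
    · exact step 7 6 w7 w6 ey7 a b rfl
    · exact step 8 9 w8 w9 ey8 a b rfl
    · exact step 9 10 w9 w10 ey9 a b rfl
    · exact step 10 7 w10 w7 ey10 a b rfl
    · exact step 11 11 w11 w11 ey11 a b rfl
  | inv_mul_cancel u hu v _ ih =>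
    obtain ⟨⟨i, a, b⟩, rfl⟩ := ih
    rcases hu with rfl | rfl <;> fin_cases i
    · exact step 0 2 w0 w2 (inv hc hy hz2 ex2) a b rfl
    · exact step 1 0 w1 w0 (inv hc hy hz2 ex0) a b rfl
    · exact step 2 1 w2 w1 (inv hc hy hz2 ex1) a b rfl
    · exact step 3 6 w3 w6 (inv hc hy hz2 ex6) a b rfl
    · exact step 4 3 w4 w3 (inv hc hy hz2 ex3) a b rfl
    · exact step 5 8 w5 w8 (inv hc hy hz2 ex8) a b rfl
    · exact step 6 4 w6 w4 (inv hc hy hz2 ex4) a b rfl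
    · exact step 7 5 w7 w5 (inv hc hy hz2 ex5) a b rfl
    · exact step 8 7 w8 w7 (inv hc hy hz2 ex7) a b rfl
    · exact step 9 11 w9 w11 (inv hc hy hz2 ex11) a b rfl
    · exact step 10 9 w10 w9 (inv hc hy hz2 ex9) a b rfl
    · exact step 11 10 w11 w10 (inv hc hy hz2 ex10) a b rfl
    · exact step 0 0 w0 w0 (inv hc hy hz2 ey0) a b rfl
    · exact step 1 4 w1 w4 (inv hc hy hz2 ey4) a b rfl
    · exact step 2 1 w2 w1 (inv hc hy hz2 ey1) a b rfl
    · exact step 3 2 w3 w2 (inv hc hy hz2 ey2) a b rfl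
    · exact step 4 5 w4 w5 (inv hc hy hz2 ey5) a b rfl
    · exact step 5 3 w5 w3 (inv hc hy hz2 ey3) a b rfl
    · exact step 6 7 w6 w7 (inv hc hy hz2 ey7) a b rfl
    · exact step 7 10 w7 w10 (inv hc hy hz2 ey10) a b rfl
    · exact step 8 6 w8 w6 (inv hc hy hz2 ey6) a b rfl
    · exact step 9 8 w9 w8 (inv hc hy hz2 ey8) a b rfl
    · exact step 10 9 w10 w9 (inv hc hy hz2 ey9) a b rfl
    · exact step 11 11 w11 w11 (inv hc hy hz2 ey11) a b rfl

theorem card_closure_le (hzc : ∀ g : P, Commute g z) (hz2 : z ^ 2 = 1) (hx : x ^ 3 = 1) (hy : y ^ 5 = 1)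
    (hxy : (x * y) ^ 2 = z) (htop : Subgroup.closure {x, y} = ⊤) : Finite P ∧ Nat.card P ≤ 120 := by
  obtain ⟨f, hf⟩ := mem_list hzc hz2 hx hy hxy
  have hs : Function.Surjective f := fun g => hf g (htop ▸ Subgroup.mem_top g)
  refine ⟨Finite.of_surjective f hs, (Nat.card_le_card_of_surjective f hs).trans ?_⟩
  simp

end Cfsg.Agent.FPF25.IcosPres
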