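import Cfsg.Agent.FPF25.Rep
import Cfsg.Agent.Core.FPF
import Cfsg.Agent.Fusion.FixedPointFree
import Cfsg.Agent.Fusion.Frobenius
import Cfsg.Agent.FGS.AutFrattini

/-!
Groups with a fixed-point-free representation in coprime characteristic: where they come from and
their elementary properties.
-/

set_option autoImplicit false

namespace Cfsg.Agent.FPF25

open Subgroup
open scoped IsMulCommutative

section Make

variable {G : Type*} [Group G] [Finite G]

theorem hasFPF_of_module {q : ℕ} [Fact q.Prime] {A : Type*} [AddCommGroup A] [Finite A] [Nontrivial A]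
    [Module (ZMod q) A] (hco : ¬ q ∣ Nat.card G) (f : G → A →+ A) (hone : ∀ w, f 1 w = w)
    (hmul : ∀ a b w, f (a * b) w = f a (f b w)) (hfree : ∀ g w, g ≠ 1 → f g w = w → w = 0) :
    HasFPF G := by
  have : Module.Finite (ZMod q) A := Module.Finite.of_finite
  let ρ0 : G →* Module.End (ZMod q) A :=
    { toFun := fun g => AddMonoidHom.toZModLinearMap q (f g)
      map_one' := LinearMap.ext hone
      map_mul' := fun a b => LinearMap.ext (hmul a b) }
  let b := Module.finBasis (ZMod q) A
  refine ⟨q, Module.finrank (ZMod q) A, inferInstance,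
    ((LinearMap.toMatrixAlgEquiv b).toAlgHom.toMonoidHom.comp ρ0).toHomUnits, Module.finrank_pos, hco,
    fun g v hg hv => ?_⟩
  obtain ⟨w, rfl⟩ : ∃ w, ⇑(b.repr w) = v :=
    ⟨b.equivFun.symm v, by rw [← Module.Basis.equivFun_apply, LinearEquiv.apply_symm_apply]⟩
  have hv' : (LinearMap.toMatrix b b (ρ0 g)).mulVec (b.repr w) = b.repr w := hv
  rw [LinearMap.toMatrix_mulVec_repr] at hv'
  have hw : ρ0 g w = w := b.repr.injective (DFunLike.coe_injective hv')
  rw [hfree g w hg hw, map_zero]
  rfl

theorem hasFPF_of_isFPF {V : Type*} [CommGroup V] [Finite V] [Nontrivial V] {φ : G →* MulAut V}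
    (h : Core.IsFPF φ) : HasFPF G := by
  obtain ⟨q, hq, hqV⟩ := Nat.exists_prime_and_dvd (Finite.one_lt_card (α := V)).ne'
  have : Fact q.Prime := ⟨hq⟩
  have hco : ¬ q ∣ Nat.card G := fun hd =>
    hq.one_lt.ne' (Nat.eq_one_of_dvd_coprimes h.coprime hqV hd)
  let W : Subgroup V := (powMonoidHom q).ker
  have hW : ∀ w : V, w ∈ W ↔ w ^ q = 1 := fun w => Iff.rfl
  obtain ⟨v0, hv0⟩ := exists_prime_orderOf_dvd_card' (G := V) q hqV
  letI : Module (ZMod q) (Additive W) := AddCommGroup.zmodModule (n := q) fun w => by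
    obtain ⟨⟨w, hw⟩, rfl⟩ := Additive.ofMul.surjective w
    show Additive.ofMul (⟨w, hw⟩ ^ q : W) = Additive.ofMul 1
    exact congrArg _ (Subtype.ext (by rw [SubmonoidClass.coe_pow, OneMemClass.coe_one]; exact (hW w).mp hw))
  let act : G → (Additive W →+ Additive W) := fun g =>
      { toFun := fun w => Additive.ofMul ⟨φ g (Additive.toMul w).1,
          (hW _).mpr (by rw [← map_pow, (hW _).mp (Additive.toMul w).2, map_one])⟩
        map_zero' := congrArg Additive.ofMul (Subtype.ext (map_one (φ g)))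
        map_add' := fun w w' => congrArg Additive.ofMul (Subtype.ext (map_mul (φ g) _ _)) }
  have hact : ∀ (g : G) (w : Additive W), ((Additive.toMul (act g w) : W) : V) = φ g (Additive.toMul w).1 :=
    fun g w => rfl
  have : Nontrivial (Additive W) := by
    refine ⟨⟨Additive.ofMul ⟨v0, (hW _).mpr (hv0 ▸ pow_orderOf_eq_one v0)⟩, 0, fun e => ?_⟩⟩
    have e' : v0 = 1 := congrArg Subtype.val (Additive.ofMul.injective e)
    rw [e', orderOf_one] at hv0
    exact hq.one_lt.ne hv0
  refine hasFPF_of_module hco act (fun w => Additive.toMul.injective (Subtype.ext ?_))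
    (fun a b w => Additive.toMul.injective (Subtype.ext ?_)) fun g w hg hw => ?_
  · rw [hact, map_one, MulAut.one_apply]
  · rw [hact, hact, hact, map_mul, MulAut.mul_apply]
  · refine Additive.toMul.injective (Subtype.ext (h g hg _ ?_))
    rw [← hact, hw]

theorem hasFPF_of_subsingleton [Subsingleton G] : HasFPF G := by
  refine ⟨2, 1, ⟨Nat.prime_two⟩, 1, Nat.one_pos, ?_, fun g v hg => absurd (Subsingleton.elim g 1) hg⟩
  rw [Nat.card_of_subsingleton (1 : G)]
  decide

/-- A fixed-point-free group of automorphisms. -/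
theorem hasFPF_of_fpf {K : Type*} [Group K] [Finite K] [Nontrivial K] (ψ : G →* MulAut K)
    (h : ∀ g : G, g ≠ 1 → ∀ k : K, ψ g k = k → k = 1) : HasFPF G := by
  rcases subsingleton_or_nontrivial G with hG | hG
  · exact hasFPF_of_subsingleton
  obtain ⟨q, hq, hqG⟩ := Nat.exists_prime_and_dvd (Finite.one_lt_card (α := G)).ne'
  have : Fact q.Prime := ⟨hq⟩
  obtain ⟨g, hg⟩ := exists_prime_orderOf_dvd_card' (G := G) q hqG
  have hg1 : g ≠ 1 := fun e => by rw [e, orderOf_one] at hg; exact hq.one_lt.ne hg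
  have : Finite (K ⋊[ψ] G) := Finite.of_equiv _ SemidirectProduct.equivProd.symm
  set L : Subgroup (K ⋊[ψ] G) := (SemidirectProduct.inl : K →* K ⋊[ψ] G).range with hL
  have hLn : L.Normal := by
    rw [hL, SemidirectProduct.range_inl_eq_ker_rightHom]
    exact MonoidHom.normal_ker _
  have hnil : Group.IsNilpotent L := by
    refine Fusion.isNilpotent_of_fpf_prime hq (c := SemidirectProduct.inr g) ?_ ?_ ?_
    · rw [← map_pow, ← hg, pow_orderOf_eq_one, map_one]
    · rw [normalizer_eq_top]; exact mem_top _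
    · refine eq_bot_iff.mpr fun x hx => mem_bot.mpr ?_
      obtain ⟨⟨k, rfl⟩, hxc⟩ := hx
      have h1 : SemidirectProduct.inl k * SemidirectProduct.inr g =
          SemidirectProduct.inr g * (SemidirectProduct.inl k : K ⋊[ψ] G) :=
        mem_centralizer_singleton_iff.mp hxc
      have h2 : (SemidirectProduct.inl (ψ g k) : K ⋊[ψ] G) = SemidirectProduct.inl k := by
        rw [SemidirectProduct.inl_aut, ← h1, mul_assoc, ← map_mul, mul_inv_cancel, map_one, mul_one]
      rw [h g hg1 k (SemidirectProduct.inl_injective h2), map_one]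
  have : Group.IsNilpotent K := Group.nilpotent_of_mulEquiv
    (MonoidHom.ofInjective (SemidirectProduct.inl_injective (φ := ψ))).symm
  have hZ : Nontrivial (center K) := (center K).nontrivial_iff_ne_bot.mpr (Group.IsNilpotent.center_ne_bot K)
  let ψc : G →* MulAut (center K) :=
    { toFun := fun g =>
        { toFun := fun z => ⟨ψ g z, MulEquivClass.apply_mem_center (ψ g) z.2⟩
          invFun := fun z => ⟨(ψ g).symm z, MulEquivClass.apply_mem_center (ψ g).symm z.2⟩
          left_inv := fun z => Subtype.ext ((ψ g).symm_apply_apply _)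
          right_inv := fun z => Subtype.ext ((ψ g).apply_symm_apply _)
          map_mul' := fun z z' => Subtype.ext (map_mul (ψ g) _ _) }
      map_one' := MulEquiv.ext fun z => Subtype.ext (by show ψ 1 z = z; rw [map_one]; rfl)
      map_mul' := fun a b => MulEquiv.ext fun z => Subtype.ext (by
        show ψ (a * b) z = ψ a (ψ b z); rw [map_mul]; rfl) }
  refine hasFPF_of_isFPF (V := center K) (φ := ψc) fun a ha v hv => ?_
  have h1 : ψ a (v : K) = (v : K) := congrArg Subtype.val hv
  exact Subtype.ext (h a ha (v : K) h1)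

/-- A Frobenius complement. -/
theorem hasFPF_of_isFrobeniusComplement {L : Type*} [Group L] [Finite L] {H : Subgroup L}
    (hH : Cfsg.IsFrobeniusComplement H) : HasFPF H := by
  obtain ⟨N, -, hNn, hNc⟩ := Core.exists_frobeniusKernel hH
  have : Nontrivial N := by
    rw [← Finite.one_lt_card_iff_nontrivial, ← hNc.index_eq_card]
    exact one_lt_index_of_ne_top hH.2.1
  let ψ : H →* MulAut N := (MulAut.conjNormal (H := N)).comp H.subtype
  refine hasFPF_of_fpf ψ fun a ha k hk => ?_
  have h1 : (a : L) * k * (a : L)⁻¹ = k := congrArg Subtype.val hk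
  have h2 : (k : L) * a * (k : L)⁻¹ = a := by
    rw [mul_inv_eq_iff_eq_mul] at h1 ⊢
    exact h1.symm
  by_cases hkH : (k : L) ∈ H
  · have : (k : L) ∈ N ⊓ H := ⟨k.2, hkH⟩
    rw [hNc.disjoint.eq_bot, mem_bot] at this
    exact Subtype.ext this
  · exact absurd (Subtype.ext (Core.malnormal_of_isFrobeniusComplement hH _ hkH a a.2 (h2.symm ▸ a.2))) ha

end Make

section Facts

variable {G : Type*} [Group G] [Finite G]

theorem HasFPF.of_mulEquiv {H : Type*} [Group H] [Finite H] (h : HasFPF H) (e : G ≃* H) : HasFPF G :=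
  h.comap e.toMonoidHom e.injective

theorem HasFPF.subgroup (h : HasFPF G) (H : Subgroup G) : HasFPF H :=
  h.comap H.subtype H.subtype_injective

theorem HasFPF.exists_isFPF (h : HasFPF G) :
    ∃ (q n : ℕ) (_ : Fact q.Prime) (φ : G →* MulAut (Multiplicative (Fin n → ZMod q))),
      0 < n ∧ Core.IsFPF φ := by
  obtain ⟨q, n, hq, ρ, hn, -, hfree⟩ := h
  have key : ∀ g w, Matrix.mulVec (ρ g⁻¹ : Matrix (Fin n) (Fin n) (ZMod q))
      (Matrix.mulVec (ρ g : Matrix (Fin n) (Fin n) (ZMod q)) w) = w := fun g w => by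
    rw [Matrix.mulVec_mulVec, ← Units.val_mul, ← map_mul, inv_mul_cancel, map_one, Units.val_one,
      Matrix.one_mulVec]
  let act : G →* MulAut (Multiplicative (Fin n → ZMod q)) :=
    { toFun := fun g =>
        { toFun := fun w => Multiplicative.ofAdd
            (Matrix.mulVec (ρ g : Matrix (Fin n) (Fin n) (ZMod q)) (Multiplicative.toAdd w))
          invFun := fun w => Multiplicative.ofAdd
            (Matrix.mulVec (ρ g⁻¹ : Matrix (Fin n) (Fin n) (ZMod q)) (Multiplicative.toAdd w))
          left_inv := fun w => Multiplicative.toAdd.injective (key g _)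
          right_inv := fun w => Multiplicative.toAdd.injective (by
            have := key g⁻¹ (Multiplicative.toAdd w)
            rwa [inv_inv] at this)
          map_mul' := fun w w' => Multiplicative.toAdd.injective (by
            show Matrix.mulVec _ (Multiplicative.toAdd w + Multiplicative.toAdd w') = _
            exact Matrix.mulVec_add _ _ _) }
      map_one' := MulEquiv.ext fun w => Multiplicative.toAdd.injective (by
        show Matrix.mulVec (ρ 1 : Matrix (Fin n) (Fin n) (ZMod q)) (Multiplicative.toAdd w) = _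
        rw [map_one, Units.val_one, Matrix.one_mulVec]; rfl)
      map_mul' := fun a b => MulEquiv.ext fun w => Multiplicative.toAdd.injective (by
        show Matrix.mulVec (ρ (a * b) : Matrix (Fin n) (Fin n) (ZMod q)) (Multiplicative.toAdd w) =
          Matrix.mulVec (ρ a : Matrix (Fin n) (Fin n) (ZMod q))
            (Matrix.mulVec (ρ b : Matrix (Fin n) (Fin n) (ZMod q)) (Multiplicative.toAdd w))
        rw [map_mul, Units.val_mul, Matrix.mulVec_mulVec]) }
  refine ⟨q, n, hq, act, hn, fun a ha w hw => ?_⟩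
  exact Multiplicative.toAdd.injective (hfree a _ ha (congrArg Multiplicative.toAdd hw))

theorem HasFPF.eq_of_orderOf_two (h : HasFPF G) {s t : G} (hs : orderOf s = 2) (ht : orderOf t = 2) :
    s = t := by
  obtain ⟨Z⟩ := h.exists_setting
  have key : ∀ u : G, orderOf u = 2 → Z.ρ u = -1 := fun u hu =>
    Z.eq_neg_one (by rw [← pow_two, ← hu, pow_orderOf_eq_one]) fun e => by
      rw [e, orderOf_one] at hu; omega
  exact Z.injective ((key s hs).trans (key t ht).symm)

theorem HasFPF.mem_center_of_orderOf_two (h : HasFPF G) {t : G} (ht : orderOf t = 2) :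
    t ∈ center G :=
  mem_center_iff.mpr fun g => by
    have h1 : g * t * g⁻¹ = t := h.eq_of_orderOf_two (by rw [Setting.orderOf_conj', ht]) ht
    calc g * t = g * t * g⁻¹ * g := by group
      _ = t * g := by rw [h1]

theorem HasFPF.mem_zpowers_of_commute (h : HasFPF G) {p : ℕ} (hp : p.Prime) {u v : G}
    (hc : Commute u v) (hu : orderOf u = p) (hv : orderOf v = p) : u ∈ zpowers v := by
  obtain ⟨q, n, hq, φ, hn, hφ⟩ := h.exists_isFPF
  have : NeZero n := ⟨hn.ne'⟩
  have : NeZero q := ⟨hq.out.ne_zero⟩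
  exact hφ.mem_zpowers_of_commute hp hc hu hv

/-- `p`-subgroups are cyclic, or quaternion for `p = 2`. -/
theorem HasFPF.cyclic_or_quaternion (h : HasFPF G) {p : ℕ} [hp : Fact p.Prime] {P : Subgroup G}
    (hP : IsPGroup p P) :
    IsCyclic P ∨ (p = 2 ∧ ∃ k : ℕ, 1 ≤ k ∧ Nonempty (P ≃* QuaternionGroup (2 ^ k))) := by
  refine Fusion.cyclic_or_quaternion_of_unique hP fun H K hH hK => ?_
  have hP' := h.subgroup P
  have hnt : Nontrivial P := by
    by_contra hc
    rw [not_nontrivial_iff_subsingleton] at hc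
    exact hp.out.one_lt.ne ((Nat.card_of_subsingleton (1 : H)).symm.trans hH)
  have := hP.center_nontrivial
  obtain ⟨z, hz⟩ := exists_prime_orderOf_dvd_card' (G := center P) p
    ((hP.to_subgroup _).card_eq_or_dvd.resolve_left Finite.one_lt_card.ne')
  rw [← Subgroup.orderOf_coe] at hz
  have key : ∀ M : Subgroup P, Nat.card M = p → M = zpowers (z : P) := by
    intro M hM
    obtain ⟨w, hw⟩ := exists_prime_orderOf_dvd_card' (G := M) p (dvd_of_eq hM.symm)
    rw [← Subgroup.orderOf_coe] at hw
    obtain ⟨k, hk⟩ := mem_zpowers_iff.mp (hP'.mem_zpowers_of_commute hp.out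
      (show Commute (z : P) (w : P) from (mem_center_iff.mp z.2 (w : P)).symm) hz hw)
    have hzM : (z : P) ∈ M := hk ▸ M.zpow_mem w.2 k
    exact (eq_of_le_of_card_ge (zpowers_le.mpr hzM) (by rw [hM, Nat.card_zpowers, hz])).symm
  rw [key H hH, key K hK]

theorem HasFPF.isCyclic_of_odd (h : HasFPF G) {p : ℕ} [Fact p.Prime] (hp : p ≠ 2) {P : Subgroup G}
    (hP : IsPGroup p P) : IsCyclic P :=
  (h.cyclic_or_quaternion hP).resolve_right fun h' => hp h'.1

theorem HasFPF.isZGroup_of_odd (h : HasFPF G) (h2 : ¬ 2 ∣ Nat.card G) : IsZGroup G :=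
  ⟨fun p hp P => by
    have := Fact.mk hp
    refine (h.cyclic_or_quaternion P.isPGroup').resolve_right fun h' => ?_
    obtain ⟨rfl, k, -, ⟨e⟩⟩ := h'
    refine h2 (((Dvd.intro (2 * 2 ^ k) ?_ : 2 ∣ Nat.card (P : Subgroup G))).trans
      (card_subgroup_dvd_card _))
    rw [Nat.card_congr e.toEquiv, Nat.card_eq_fintype_card, QuaternionGroup.card]
    ring⟩

theorem HasFPF.exists_two_generators (h : HasFPF G) {P : Subgroup G} (hP : IsPGroup 2 P) :
    ∃ a b : P, closure ({a, b} : Set P) = ⊤ := by
  rcases h.cyclic_or_quaternion hP with hc | ⟨-, k, -, ⟨e⟩⟩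
  · obtain ⟨a, ha⟩ := isCyclic_iff_exists_zpowers_eq_top.mp hc
    exact ⟨a, a, by rw [Set.pair_eq_singleton, ← zpowers_eq_closure, ha]⟩
  · refine ⟨e.symm (QuaternionGroup.a 1), e.symm (QuaternionGroup.xa 0), top_le_iff.mp fun x _ => ?_⟩
    set C := closure ({e.symm (QuaternionGroup.a 1), e.symm (QuaternionGroup.xa 0)} : Set P) with hC
    have ha : e.symm (QuaternionGroup.a 1) ∈ C := subset_closure (Set.mem_insert _ _)
    have hb : e.symm (QuaternionGroup.xa 0) ∈ C := subset_closure (Set.mem_insert_of_mem _ rfl)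
    rw [← e.symm_apply_apply x]
    rcases e x with i | i
    · rw [← ZMod.natCast_zmod_val i, ← QuaternionGroup.a_one_pow, map_pow]
      exact C.pow_mem ha _
    · rw [show QuaternionGroup.xa i = QuaternionGroup.xa 0 * QuaternionGroup.a i by
        rw [QuaternionGroup.xa_mul_a, zero_add], map_mul, ← ZMod.natCast_zmod_val i,
        ← QuaternionGroup.a_one_pow, map_pow]
      exact C.mul_mem hb (C.pow_mem ha _)

/-- The automorphism group of a two-generator 2-group is a `{2, 3}`-group. -/
theorem card_mulAut_dvd_of_two_generators {P : Type*} [Group P] [Finite P] (hP : IsPGroup 2 P)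
    {a b : P} (hab : closure ({a, b} : Set P) = ⊤) : ∃ m : ℕ, Nat.card (MulAut P) ∣ 2 ^ m * 3 := by
  have : Fact (Nat.Prime 2) := ⟨Nat.prime_two⟩
  obtain ⟨n, hn⟩ := IsPGroup.iff_card.mp hP
  obtain ⟨r, -, hr⟩ := (Nat.dvd_prime_pow Nat.prime_two).mp
    (hn ▸ (frattini P).index_dvd_card : (frattini P).index ∣ 2 ^ n)
  obtain ⟨hcomm, hexp⟩ := FGS.frattini_quotient_props hn
  have hle := FGS.card_closure_le hcomm hexp 2 ![(a : P ⧸ frattini P), (b : P ⧸ frattini P)]
  have htop : closure (Set.range ![(a : P ⧸ frattini P), (b : P ⧸ frattini P)]) = ⊤ := by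
    have h1 : Set.range ![(a : P ⧸ frattini P), (b : P ⧸ frattini P)] =
        QuotientGroup.mk' (frattini P) '' ({a, b} : Set P) := by
      rw [Matrix.range_cons_cons_empty, Set.image_pair]
      rfl
    rw [h1, ← MonoidHom.map_closure, hab, ← MonoidHom.range_eq_map,
      MonoidHom.range_eq_top.mpr (QuotientGroup.mk'_surjective _)]
  rw [htop, card_top, ← index_eq_card, hr] at hle
  have hr2 : r ≤ 2 := (Nat.pow_le_pow_iff_right (by norm_num)).mp hle
  refine ⟨r * (n - r) + 1, (FGS.card_mulAut_dvd hn hr).trans ?_⟩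
  rw [pow_succ, mul_assoc]
  refine Nat.mul_dvd_mul_left _ ?_
  interval_cases r <;> decide

/-- Elements of order prime to six centralise the 2-subgroups they normalise. -/
theorem HasFPF.mem_centralizer_of_coprime_six (h : HasFPF G) {Q : Subgroup G} (hQ : IsPGroup 2 Q)
    {g : G} (hg : g ∈ normalizer (Q : Set G)) (ho : (orderOf g).Coprime 6) :
    g ∈ centralizer (Q : Set G) := by
  obtain ⟨a, b, hab⟩ := h.exists_two_generators hQ
  obtain ⟨m, hm⟩ := card_mulAut_dvd_of_two_generators hQ hab
  have h1 : Q.normalizerMonoidHom ⟨g, hg⟩ = 1 := by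
    rw [← orderOf_eq_one_iff]
    refine Nat.eq_one_of_dvd_coprimes (a := orderOf g) (b := 2 ^ m * 3)
      (Nat.Coprime.mul_right ((ho.coprime_dvd_right (by norm_num : 2 ∣ 6)).pow_right _)
        (ho.coprime_dvd_right (by norm_num : 3 ∣ 6))) ?_ ((_root_.orderOf_dvd_natCard _).trans hm)
    exact (orderOf_map_dvd _ _).trans (dvd_of_eq (Subgroup.orderOf_mk g hg))
  rw [mem_centralizer_iff]
  intro x hx
  have h2 : g * x * g⁻¹ = x := congrArg (fun f : MulAut Q => ((f ⟨x, hx⟩ : Q) : G)) h1
  calc x * g = g * x * g⁻¹ * g := by rw [h2]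
    _ = g * x := by group

end Facts

end Cfsg.Agent.FPF25
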