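import Cfsg.Agent.Classical.Linear2

/-!
A few facts about `SL(2, 5)`.
-/

set_option autoImplicit false

namespace Cfsg.Agent.FPF25

open Matrix Subgroup
open scoped commutatorElement

theorem card_sl25 : Nat.card (SpecialLinearGroup (Fin 2) (ZMod 5)) = 120 := by
  have : Fact (Nat.Prime 5) := ⟨Nat.prime_five⟩
  rw [Classical.card_sl2, ZMod.card]
  rfl

theorem sq_eq_one_of_central {x : SpecialLinearGroup (Fin 2) (ZMod 5)}
    (h : ∀ y, y * x = x * y) : x * x = 1 := by
  obtain ⟨r, hr, hrx⟩ := Matrix.SpecialLinearGroup.mem_center_iff.mp (mem_center_iff.mpr h)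
  refine Subtype.ext ?_
  show (x : Matrix (Fin 2) (Fin 2) (ZMod 5)) * x = 1
  rw [← hrx, ← map_mul, ← pow_two,
    show r ^ 2 = 1 by simpa using hr, map_one]

/-- An upper unipotent element. -/
def up (b : ZMod 5) : SpecialLinearGroup (Fin 2) (ZMod 5) :=
  ⟨!![1, b; 0, 1], by simp [Matrix.det_fin_two_of]⟩

/-- A lower unipotent element. -/
def low (b : ZMod 5) : SpecialLinearGroup (Fin 2) (ZMod 5) :=
  ⟨!![1, 0; b, 1], by simp [Matrix.det_fin_two_of]⟩

/-- A diagonal element written in root elements. -/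
def diagTwo : SpecialLinearGroup (Fin 2) (ZMod 5) := up 2 * low 2 * up 2 * (up 4 * low 1 * up 4)

theorem comm_up : ∀ b : ZMod 5, ⁅diagTwo, up b⁆ = up (3 * b) := by
  unfold diagTwo up low
  intro b
  apply Subtype.ext
  revert b
  decide +kernel

theorem comm_low : ∀ b : ZMod 5, ⁅diagTwo, low b⁆ = low (3 * b) := by
  unfold diagTwo up low
  intro b
  apply Subtype.ext
  revert b
  decide +kernel

theorem mem_derived : ∀ (n : ℕ) (b : ZMod 5),
    up b ∈ derivedSeries (SpecialLinearGroup (Fin 2) (ZMod 5)) n ∧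
      low b ∈ derivedSeries (SpecialLinearGroup (Fin 2) (ZMod 5)) n := by
  intro n
  induction n with
  | zero => exact fun b => ⟨mem_top _, mem_top _⟩
  | succ n ih =>
    intro b
    have hd : diagTwo ∈ derivedSeries (SpecialLinearGroup (Fin 2) (ZMod 5)) n :=
      mul_mem (mul_mem (mul_mem (ih 2).1 (ih 2).2) (ih 2).1) (mul_mem (mul_mem (ih 4).1 (ih 1).2) (ih 4).1)
    have h3 : ∀ b : ZMod 5, 3 * (2 * b) = b := by decide
    rw [derivedSeries_succ]
    refine ⟨?_, ?_⟩
    · rw [← h3 b, ← comm_up]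
      exact commutator_mem_commutator hd (ih _).1
    · rw [← h3 b, ← comm_low]
      exact commutator_mem_commutator hd (ih _).2

theorem not_isSolvable_sl25 : ¬ Group.IsSolvable (SpecialLinearGroup (Fin 2) (ZMod 5)) := by
  rintro ⟨⟨n, hn⟩⟩
  have h := (mem_derived n 1).1
  rw [hn, mem_bot] at h
  have h1 := congrArg (fun A : SpecialLinearGroup (Fin 2) (ZMod 5) => (A : Matrix (Fin 2) (Fin 2) (ZMod 5)) 0 1) h
  exact absurd (by simpa [up] using h1 : (1 : ZMod 5) = 0) (by decide)

theorem not_isSolvable_of_mulEquiv {K : Type*} [Group K]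
    (e : K ≃* SpecialLinearGroup (Fin 2) (ZMod 5)) : ¬ Group.IsSolvable K := fun h =>
  not_isSolvable_sl25 (Group.isSolvable_of_surjective (f := e.toMonoidHom) e.surjective)

end Cfsg.Agent.FPF25
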