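import Mathlib
import Cfsg.Agent.Core.Basics

/-!
Recognition of the symmetric and alternating groups of degree four and five among finite quotients, and
the normal subgroups of these groups with cyclic Sylow 2-subgroups.
-/

set_option autoImplicit false

namespace Cfsg.Agent.FPF25

open Subgroup

/-- A kernel of index `n!` or `n!/2` in a homomorphism into `Sₙ`. -/
theorem alternating_or_symmetric {G : Type*} [Group G] [Finite G] {n : ℕ}
    (f : G →* Equiv.Perm (Fin n))
    (h : f.ker.index = n.factorial ∨ 2 * f.ker.index = n.factorial) :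
    (∃ g : G →* alternatingGroup (Fin n), Function.Surjective g ∧ g.ker = f.ker) ∨
      ∃ g : G →* Equiv.Perm (Fin n), Function.Surjective g ∧ g.ker = f.ker := by
  have hcard : Nat.card f.range = f.ker.index := (index_ker f).symm
  have hperm : Nat.card (Equiv.Perm (Fin n)) = n.factorial := by
    rw [Nat.card_eq_fintype_card, Fintype.card_perm, Fintype.card_fin]
  rcases h with h | h
  · refine Or.inr ⟨f, MonoidHom.range_eq_top.mp (eq_top_of_card_eq _ ?_), rfl⟩
    rw [hcard, h, hperm]
  · have hidx : f.range.index = 2 := by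
      have h1 := f.range.card_mul_index
      rw [hcard, hperm, ← h, mul_comm 2] at h1
      exact Nat.eq_of_mul_eq_mul_left (Nat.pos_of_ne_zero index_ne_zero_of_finite) h1
    have he : f.range = alternatingGroup (Fin n) := Equiv.Perm.eq_alternatingGroup_of_index_eq_two hidx
    refine Or.inl ⟨f.codRestrict _ fun x => he ▸ ⟨x, rfl⟩, fun y => ?_, MonoidHom.ker_codRestrict f _ _⟩
    obtain ⟨x, hx⟩ := he.ge y.2
    exact ⟨x, Subtype.ext hx⟩

/-- Normal subgroups with cyclic Sylow 2-subgroups are trivial when there are enough involutions. -/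
def ManyInvolutions (Q : Type*) [Group Q] : Prop :=
  (∀ x : Q, x ≠ 1 → ∃ g : Q, g * x * g⁻¹ * x⁻¹ ≠ 1 ∧
    ((g * x * g⁻¹ * x⁻¹) * (g * x * g⁻¹ * x⁻¹) = 1 ∨
      ∃ k : Q, k * (g * x * g⁻¹ * x⁻¹) * k⁻¹ * (g * x * g⁻¹ * x⁻¹)⁻¹ ≠ 1 ∧
        k * (g * x * g⁻¹ * x⁻¹) * k⁻¹ * (g * x * g⁻¹ * x⁻¹)⁻¹ *
          (k * (g * x * g⁻¹ * x⁻¹) * k⁻¹ * (g * x * g⁻¹ * x⁻¹)⁻¹) = 1)) ∧
  ∀ a : Q, a ≠ 1 → a * a = 1 → ∃ h : Q, h * a * h⁻¹ ≠ a ∧ a * (h * a * h⁻¹) = h * a * h⁻¹ * a

/-- The conditions of `ManyInvolutions` with all witnesses taken from the list `L`. -/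
def manyInvolutionsCheck {Q : Type*} [Group Q] [DecidableEq Q] (L : List Q) (x : Q) : Bool :=
  x == 1 ||
    ((L.any fun g =>
      let c := g * x * g⁻¹ * x⁻¹
      c != 1 && (c * c == 1 || L.any fun k =>
        let d := k * c * k⁻¹ * c⁻¹
        d != 1 && d * d == 1)) &&
    (x * x != 1 || L.any fun h =>
      let b := h * x * h⁻¹
      b != x && x * b == b * x))

theorem manyInvolutions_of_check {Q : Type*} [Group Q] [DecidableEq Q] (L : List Q)
    (h : ∀ x : Q, manyInvolutionsCheck L x = true) : ManyInvolutions Q := by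
  constructor
  · intro x hx
    have hh := h x
    simp only [manyInvolutionsCheck, Bool.or_eq_true, beq_iff_eq, hx, false_or, Bool.and_eq_true,
      List.any_eq_true, bne_iff_ne, ne_eq] at hh
    obtain ⟨⟨g, -, hg1, hg2⟩, -⟩ := hh
    refine ⟨g, hg1, ?_⟩
    rcases hg2 with hg2 | ⟨k, -, hk⟩
    exacts [Or.inl hg2, Or.inr ⟨k, hk⟩]
  · intro x hx hx2
    have hh := h x
    simp only [manyInvolutionsCheck, Bool.or_eq_true, beq_iff_eq, hx, false_or, Bool.and_eq_true,
      List.any_eq_true, bne_iff_ne, ne_eq] at hh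
    obtain ⟨-, hh⟩ := hh
    rcases hh with hh | ⟨k, -, hk⟩
    exacts [absurd hx2 hh, ⟨k, hk⟩]

open Equiv in
/-- Witnesses in `S₄`. -/
def s4List : List (Perm (Fin 4)) :=
  [swap 0 1, swap 0 2, swap 0 3, swap 1 2, swap 1 3, swap 2 3, swap 0 1 * swap 2 3,
    swap 0 2 * swap 1 3]

open Equiv in
/-- Witnesses in `S₅`. -/
def s5List : List (Perm (Fin 5)) :=
  [swap 0 1, swap 0 2, swap 0 3, swap 0 4, swap 1 2, swap 1 3, swap 1 4, swap 2 3, swap 2 4,
    swap 3 4, swap 0 1 * swap 2 3, swap 0 2 * swap 1 3, swap 0 1 * swap 2 4,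
    swap 0 4 * swap 2 3, swap 1 4 * swap 2 3, swap 0 2 * swap 3 4, swap 1 2 * swap 3 4]

open Equiv in
/-- Witnesses in `A₄`. -/
def a4List : List (alternatingGroup (Fin 4)) :=
  [⟨swap 0 1 * swap 1 2, Equiv.Perm.mem_alternatingGroup.mpr (by decide)⟩, ⟨swap 0 1 * swap 1 3, Equiv.Perm.mem_alternatingGroup.mpr (by decide)⟩,
    ⟨swap 1 2 * swap 2 3, Equiv.Perm.mem_alternatingGroup.mpr (by decide)⟩, ⟨swap 0 2 * swap 2 3, Equiv.Perm.mem_alternatingGroup.mpr (by decide)⟩]

open Equiv in
/-- Witnesses in `A₅`. -/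
def a5List : List (alternatingGroup (Fin 5)) :=
  [⟨swap 0 1 * swap 1 2, Equiv.Perm.mem_alternatingGroup.mpr (by decide)⟩, ⟨swap 0 1 * swap 1 3, Equiv.Perm.mem_alternatingGroup.mpr (by decide)⟩,
    ⟨swap 0 1 * swap 1 4, Equiv.Perm.mem_alternatingGroup.mpr (by decide)⟩, ⟨swap 1 2 * swap 2 3, Equiv.Perm.mem_alternatingGroup.mpr (by decide)⟩,
    ⟨swap 2 3 * swap 3 4, Equiv.Perm.mem_alternatingGroup.mpr (by decide)⟩, ⟨swap 0 2 * swap 2 4, Equiv.Perm.mem_alternatingGroup.mpr (by decide)⟩]

theorem manyInvolutions_a4 : ManyInvolutions (alternatingGroup (Fin 4)) :=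
  manyInvolutions_of_check a4List (by decide +kernel)

theorem manyInvolutions_s4 : ManyInvolutions (Equiv.Perm (Fin 4)) :=
  manyInvolutions_of_check s4List (by decide +kernel)

theorem manyInvolutions_a5 : ManyInvolutions (alternatingGroup (Fin 5)) :=
  manyInvolutions_of_check a5List (by decide +kernel)

theorem manyInvolutions_s5 : ManyInvolutions (Equiv.Perm (Fin 5)) :=
  manyInvolutions_of_check s5List (by decide +kernel)

theorem ManyInvolutions.eq_bot {Q : Type*} [Group Q] [Finite Q] (h : ManyInvolutions Q) (T : Subgroup Q)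
    [T.Normal] [IsZGroup T] : T = ⊥ := by
  have : Fact (Nat.Prime 2) := ⟨Nat.prime_two⟩
  by_contra hne
  obtain ⟨x, hx, hx1⟩ := (bot_or_exists_ne_one T).resolve_left hne
  obtain ⟨a, haT, ha1, ha2⟩ : ∃ a ∈ T, a ≠ 1 ∧ a * a = 1 := by
    have hcomm : ∀ {x : Q} (g : Q), x ∈ T → g * x * g⁻¹ * x⁻¹ ∈ T := fun g hx =>
      T.mul_mem (Normal.conj_mem inferInstance _ hx g) (T.inv_mem hx)
    obtain ⟨g, hg1, hg2 | ⟨k, hk1, hk2⟩⟩ := h.1 x hx1
    · exact ⟨_, hcomm g hx, hg1, hg2⟩
    · exact ⟨_, hcomm k (hcomm g hx), hk1, hk2⟩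
  obtain ⟨k, hb1, hab⟩ := h.2 a ha1 ha2
  set b := k * a * k⁻¹ with hb
  have hbT : b ∈ T := Normal.conj_mem inferInstance a haT k
  have hb2 : b * b = 1 := by
    rw [hb, show k * a * k⁻¹ * (k * a * k⁻¹) = k * (a * a) * k⁻¹ by group, ha2, mul_one, mul_inv_cancel]
  set s : Subgroup Q := closure {a, b} with hs
  have hsT : s ≤ T := (closure_le _).mpr (by rintro y (rfl | rfl) <;> assumption)
  have hexp : ∀ y ∈ s, y * y = 1 ∧ Commute y a ∧ Commute y b := by
    intro y hy
    induction hy using closure_induction with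
    | mem z hz =>
      rcases hz with rfl | rfl
      · exact ⟨ha2, Commute.refl _, hab⟩
      · exact ⟨hb2, hab.symm, Commute.refl _⟩
    | one => exact ⟨one_mul 1, Commute.one_left _, Commute.one_left _⟩
    | mul u v hu hv iu iv =>
      refine ⟨?_, iu.2.1.mul_left iv.2.1, iu.2.2.mul_left iv.2.2⟩
      have hc : Commute u v := by
        refine (?_ : v ∈ centralizer {u}) |> fun hm => (mem_centralizer_singleton_iff.mp hm).symm
        refine (closure_le _).mpr ?_ hv
        rintro w (rfl | rfl)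
        · exact mem_centralizer_singleton_iff.mpr iu.2.1.symm.eq
        · exact mem_centralizer_singleton_iff.mpr iu.2.2.symm.eq
      rw [show u * v * (u * v) = u * (v * u) * v by group, ← hc.eq,
        show u * (u * v) * v = (u * u) * (v * v) by group, iu.1, iv.1, one_mul]
    | inv u hu iu => exact ⟨by rw [← mul_inv_rev, iu.1, inv_one], iu.2.1.inv_left, iu.2.2.inv_left⟩
  have hcyc : IsCyclic (s.subgroupOf T) := by
    refine IsPGroup.isCyclic_of_isZGroup (p := 2) fun y => ⟨1, ?_⟩
    apply Subtype.ext; apply Subtype.ext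
    simpa [pow_two] using (hexp _ (mem_subgroupOf.mp y.2)).1
  obtain ⟨c, hc⟩ := hcyc.exists_generator
  have hgen : ∀ y ∈ s, y = 1 ∨ y = ((c : T) : Q) := fun y hy => by
    obtain ⟨n, hn⟩ := mem_zpowers_iff.mp (hc ⟨⟨y, hsT hy⟩, mem_subgroupOf.mpr hy⟩)
    have hy' : (((c : T) : Q)) ^ n = y := congrArg (fun t : s.subgroupOf T => ((t : T) : Q)) hn
    have hc2 := (hexp _ (mem_subgroupOf.mp c.2)).1
    rcases Int.even_or_odd n with ⟨m, rfl⟩ | ⟨m, rfl⟩
    · left
      rw [← hy', ← two_mul, zpow_mul, zpow_two, hc2, one_zpow]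
    · right
      rw [← hy', zpow_add, zpow_mul, zpow_two, hc2, one_zpow, one_mul, zpow_one]
  have hb0 : b ≠ 1 := fun e => ha1 (by
    rw [hb, mul_inv_eq_one] at e
    exact mul_eq_left.mp e)
  rcases hgen a (subset_closure (Set.mem_insert _ _)) with e1 | e1
  · exact ha1 e1
  rcases hgen b (subset_closure (Set.mem_insert_of_mem _ rfl)) with e2 | e2
  · exact hb0 e2
  exact hb1 (e2.trans e1.symm)

/-- A group with a self-centralising normal subgroup of order four and order divisible by three. -/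
theorem exists_hom_perm_four {R : Type*} [Group R] [Finite R] (V : Subgroup R) [V.Normal]
    (hV : Nat.card V = 4) (hC : centralizer (V : Set R) ≤ V) (h3 : 3 ∣ Nat.card R) :
    (Nat.card R = 24 ∨ Nat.card R = 12) ∧
      ∃ f : R →* Equiv.Perm (Fin 4), Function.Injective f := by
  classical
  have : Fact (Nat.Prime 3) := ⟨Nat.prime_three⟩
  let Y := {v : V // v ≠ 1}
  have hY : Nat.card Y = 3 := by
    have h1 := Set.ncard_add_ncard_compl ({(1 : V)} : Set V)
    rw [Set.ncard_singleton, hV] at h1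
    rw [show Nat.card Y = (({(1 : V)} : Set V)ᶜ).ncard from Nat.card_coe_set_eq _]
    omega
  letI : MulAction R Y :=
    { smul := fun g v => ⟨MulAut.conjNormal g v.1, fun e => v.2 (MulEquiv.map_eq_one_iff _ |>.mp e)⟩
      one_smul := fun v => Subtype.ext (by show MulAut.conjNormal (1 : R) v.1 = v.1; rw [map_one]; rfl)
      mul_smul := fun g g' v => Subtype.ext (by
        show MulAut.conjNormal (g * g') v.1 = MulAut.conjNormal g (MulAut.conjNormal g' v.1)
        rw [map_mul]; rfl) }
  have hcen : ∀ g : R, (∀ v : Y, g • v = v) → g ∈ V := fun g hg => hC (mem_centralizer_iff.mpr fun y hy => by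
    rcases eq_or_ne (⟨y, hy⟩ : V) 1 with e | e
    · have : y = 1 := congrArg Subtype.val e
      rw [this, one_mul, mul_one]
    · have h1 : g * y * g⁻¹ = y := congrArg (fun v : Y => ((v.1 : V) : R)) (hg ⟨⟨y, hy⟩, e⟩)
      exact (mul_inv_eq_iff_eq_mul.mp h1).symm)
  let ψ := MulAction.toPermHom R Y
  have hker : ψ.ker ≤ V := fun g hg => hcen g fun v => by
    have := Equiv.Perm.congr_fun (MonoidHom.mem_ker.mp hg) v
    exact this
  have hidx : V.index ∣ 6 := by
    refine (Subgroup.index_dvd_of_le hker).trans ?_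
    rw [index_ker]
    refine (card_subgroup_dvd_card _).trans ?_
    rw [Nat.card_perm, hY]
    rfl
  have hR : Nat.card R = 4 * V.index := by rw [← hV, card_mul_index]
  have h3' : 3 ∣ V.index := by
    rw [hR] at h3
    exact (Nat.Coprime.dvd_of_dvd_mul_left (by norm_num) h3)
  obtain ⟨i, hi⟩ := h3'
  have hi2 : i = 1 ∨ i = 2 := by
    have : i ∣ 2 := by
      rw [hi] at hidx
      exact (Nat.mul_dvd_mul_iff_left (by norm_num : 0 < 3)).mp hidx
    exact (Nat.dvd_prime Nat.prime_two).mp this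
  obtain ⟨P⟩ := (inferInstance : Nonempty (Sylow 3 R))
  have hPc : Nat.card (P : Subgroup R) = 3 := by
    rw [P.card_eq_multiplicity, hR, hi]
    rcases hi2 with rfl | rfl
    · rw [show 4 * (3 * 1) = 3 ^ 1 * 4 by norm_num, Nat.factorization_mul (by norm_num) (by norm_num),
        Finsupp.add_apply, Nat.prime_three.factorization_pow, Finsupp.single_eq_same,
        Nat.factorization_eq_zero_of_not_dvd (by norm_num : ¬ 3 ∣ 4)]
      norm_num
    · rw [show 4 * (3 * 2) = 3 ^ 1 * 8 by norm_num, Nat.factorization_mul (by norm_num) (by norm_num),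
        Finsupp.add_apply, Nat.prime_three.factorization_pow, Finsupp.single_eq_same,
        Nat.factorization_eq_zero_of_not_dvd (by norm_num : ¬ 3 ∣ 8)]
      norm_num
  set N := normalizer ((P : Subgroup R) : Set R) with hN
  have hVP : V ⊓ P = ⊥ := inf_eq_bot_of_coprime (by rw [hV, hPc]; norm_num)
  -- the order three element moves every nontrivial element of `V`
  have hmove : V ⊓ N = ⊥ := by
    refine eq_bot_iff.mpr fun v ⟨hvV, hvN⟩ => mem_bot.mpr (by_contra fun hv1 => ?_)
    obtain ⟨⟨t, ht⟩, hto⟩ := exists_prime_orderOf_dvd_card' (G := P) 3 (dvd_of_eq hPc.symm)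
    rw [Subgroup.orderOf_mk] at hto
    have hvt : v * t * v⁻¹ * t⁻¹ ∈ V ⊓ (P : Subgroup R) := ⟨by
        rw [mul_assoc, mul_assoc]
        exact V.mul_mem hvV (by simpa [mul_assoc] using Normal.conj_mem inferInstance _ (V.inv_mem hvV) t),
      (P : Subgroup R).mul_mem ((mem_normalizer_iff.mp hvN t).mp ht) ((P : Subgroup R).inv_mem ht)⟩
    rw [hVP, mem_bot, mul_inv_eq_one, mul_inv_eq_iff_eq_mul] at hvt
    set w : Y := ⟨⟨v, hvV⟩, fun e => hv1 (congrArg Subtype.val e)⟩ with hw
    have hfix : t • w = w := Subtype.ext (Subtype.ext (by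
      show t * v * t⁻¹ = v
      rw [← hvt, mul_inv_cancel_right]))
    have ht3 : t ^ 3 = 1 := by rw [← hto, pow_orderOf_eq_one]
    have hall : ∀ u : Y, t • u = u := by
      intro u
      by_contra hne
      have e3 : t • t • t • u = u := by rw [← mul_smul, ← mul_smul, ← pow_three', ht3, one_smul]
      set u1 := t • u with hu1
      set u2 := t • u1 with hu2
      have n1 : u1 ≠ u := hne
      have n2 : u2 ≠ u1 := fun e => hne (MulAction.injective t e)
      have n3 : u2 ≠ u := fun e => hne (by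
        have := e3
        rw [e] at this
        exact this)
      have hwu : ∀ {z : Y}, t • z ≠ z → z ≠ w := fun h e => h (e ▸ hfix)
      have m0 : u ≠ w := hwu hne
      have m1 : u1 ≠ w := hwu n2
      have m2 : u2 ≠ w := hwu (by rw [e3]; exact n3.symm)
      have := Fintype.ofFinite Y
      have hc : ({u, u1, u2, w} : Finset Y).card = 4 := by
        rw [Finset.card_insert_of_notMem (by simp [n1.symm, n3.symm, m0]),
          Finset.card_insert_of_notMem (by simp [n2.symm, m1]),
          Finset.card_insert_of_notMem (by simp [m2]), Finset.card_singleton]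
      have h4 := Finset.card_le_univ ({u, u1, u2, w} : Finset Y)
      rw [hc, ← Nat.card_eq_fintype_card, hY] at h4
      omega
    have htV := hcen t hall
    have h1 : t ∈ V ⊓ (P : Subgroup R) := ⟨htV, ht⟩
    rw [hVP, mem_bot] at h1
    rw [h1, orderOf_one] at hto
    omega
  -- the index of the normaliser
  have hVN : Nat.card N * 4 ∣ Nat.card R ∧ N.index = 4 := by
    set L := V ⊔ (P : Subgroup R) with hL
    have hLc : Nat.card L = 12 := by
      rw [hL, sup_comm]
      have e1 := Core.card_sup_mul_card_inf (P : Subgroup R) V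
      rw [inf_comm, hVP, card_bot, mul_one, hPc, hV] at e1
      rw [e1]
    have hLn : L.Normal := by
      have hidx2 : L.index ∣ 2 := by
        have h1 := L.card_mul_index
        rw [hLc, hR, hi] at h1
        rcases hi2 with rfl | rfl
        · exact ⟨2, by omega⟩
        · exact ⟨1, by omega⟩
      rcases (Nat.dvd_prime Nat.prime_two).mp hidx2 with e | e
      · rw [index_eq_one] at e; rw [e]; infer_instance
      · exact normal_of_index_eq_two e
    have hfr := Sylow.normalizer_sup_eq_top' (N := L) P (le_sup_right : (P : Subgroup R) ≤ L)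
    have htop : N ⊔ V = ⊤ := top_le_iff.mp (hfr.ge.trans (sup_le le_sup_left
      (sup_le le_sup_right (le_normalizer.trans le_sup_left))))
    have hcompl : IsComplement' V N := isComplement'_of_disjoint_and_mul_eq_univ (disjoint_iff.mpr hmove) (by
      rw [← normal_mul, sup_comm, htop, coe_top])
    have hidxN : N.index = 4 := by rw [hcompl.index_eq_card, hV]
    exact ⟨dvd_of_eq (by rw [← hidxN, card_mul_index]), hidxN⟩
  let e : R ⧸ N ≃ Fin 4 := Finite.equivFinOfCardEq (by rw [← index_eq_card, hVN.2])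
  let f : R →* Equiv.Perm (Fin 4) := (e.permCongrHom.toMonoidHom).comp (MulAction.toPermHom R (R ⧸ N))
  refine ⟨?_, f, ?_⟩
  · rcases hi2 with rfl | rfl
    · right; omega
    · left; omega
  · rw [← MonoidHom.ker_eq_bot_iff]
    have hk : f.ker = N.normalCore := by
      rw [normalCore_eq_ker]
      ext x
      simp [f]
    rw [hk]
    have hcore : N.normalCore ⊓ V = ⊥ := le_bot_iff.mp ((inf_le_inf_right V (normalCore_le N)).trans
      (by rw [inf_comm, hmove]))
    have hle : N.normalCore ≤ centralizer (V : Set R) := fun x hx => mem_centralizer_iff.mpr fun v hv => by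
      have hm : x * v * x⁻¹ * v⁻¹ ∈ N.normalCore ⊓ V := ⟨by
          rw [mul_assoc, mul_assoc]
          exact mul_mem hx (by simpa [mul_assoc] using (normalCore_normal N).conj_mem _ (inv_mem hx) v),
        V.mul_mem (Normal.conj_mem inferInstance v hv x) (V.inv_mem hv)⟩
      rw [hcore, mem_bot, mul_inv_eq_one, mul_inv_eq_iff_eq_mul] at hm
      exact hm.symm
    refine eq_bot_iff.mpr fun x hx => ?_
    rw [← hcore]
    exact ⟨hx, hC (hle hx)⟩

end Cfsg.Agent.FPF25
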