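import Cfsg.Agent.FPF25.Zassenhaus
import Cfsg.Agent.FPF25.SmallQuotient
import Cfsg.Agent.Core.Fitting
import Cfsg.Agent.Core.PCore
import Cfsg.Agent.Fusion.Residual
import Cfsg.Agent.S3116

/-!
The small quotient of a Frobenius complement by a normal subgroup with cyclic Sylow subgroups.
-/

set_option autoImplicit false

namespace Cfsg.Agent.FPF25

open Subgroup

/-- The kernel of a map onto one of five small groups, or everything. -/
def IsSmallKer {G : Type*} [Group G] (N : Subgroup G) : Prop :=
  N = ⊤ ∨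
    (∃ f : G →* DihedralGroup 2, Function.Surjective f ∧ f.ker = N) ∨
    (∃ f : G →* alternatingGroup (Fin 4), Function.Surjective f ∧ f.ker = N) ∨
    (∃ f : G →* Equiv.Perm (Fin 4), Function.Surjective f ∧ f.ker = N) ∨
    (∃ f : G →* alternatingGroup (Fin 5), Function.Surjective f ∧ f.ker = N) ∨
    (∃ f : G →* Equiv.Perm (Fin 5), Function.Surjective f ∧ f.ker = N)

variable {G : Type*} [Group G] [Finite G]

theorem HasFPF.isZGroup_of_two (h : HasFPF G) (N : Subgroup G)
    (h2 : ∀ Q : Subgroup N, IsPGroup 2 Q → IsCyclic Q) : IsZGroup N :=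
  ⟨fun p hp P => by
    have := Fact.mk hp
    rcases eq_or_ne p 2 with rfl | hp2
    · exact h2 _ P.isPGroup'
    · exact (h.subgroup N).isCyclic_of_odd hp2 P.isPGroup'⟩

/-- The quaternion group maps onto the four-group with cyclic kernel. -/
theorem exists_quaternion_to_four (k : ℕ) (hk : 1 ≤ k) :
    ∃ f : QuaternionGroup (2 ^ k) →* DihedralGroup 2, Function.Surjective f ∧
      f.ker ≤ zpowers (QuaternionGroup.a 1) := by
  have : NeZero (2 * 2 ^ k) := ⟨by positivity⟩
  let c : ZMod (2 * 2 ^ k) →+* ZMod 2 := ZMod.castHom (Dvd.intro _ rfl) _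
  have hn : c (((2 ^ k : ℕ) : ZMod (2 * 2 ^ k))) = 0 := by
    rw [map_natCast, ZMod.natCast_eq_zero_iff]
    exact dvd_pow_self 2 (by omega)
  let g : QuaternionGroup (2 ^ k) → DihedralGroup 2 := fun x => match x with
    | QuaternionGroup.a i => DihedralGroup.r (c i)
    | QuaternionGroup.xa i => DihedralGroup.sr (c i)
  have hmul : ∀ x y, g (x * y) = g x * g y := by
    intro x y
    cases x with
    | a i => cases y with
      | a j => simp [g, QuaternionGroup.a_mul_a, DihedralGroup.r_mul_r]
      | xa j => simp [g, QuaternionGroup.a_mul_xa, DihedralGroup.r_mul_sr, map_sub]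
    | xa i => cases y with
      | a j => simp [g, QuaternionGroup.xa_mul_a, DihedralGroup.sr_mul_r]
      | xa j =>
        show DihedralGroup.r (c (((2 ^ k : ℕ) : ZMod (2 * 2 ^ k)) + j - i)) = DihedralGroup.sr (c i) * DihedralGroup.sr (c j)
        rw [DihedralGroup.sr_mul_sr, map_sub, map_add, hn, zero_add]
  refine ⟨MonoidHom.mk' g hmul, fun y => ?_, fun x hx => ?_⟩
  · cases y with
    | r i =>
      obtain ⟨j, hj⟩ := ZMod.castHom_surjective (Dvd.intro _ rfl : 2 ∣ 2 * 2 ^ k) i
      exact ⟨QuaternionGroup.a j, congrArg DihedralGroup.r hj⟩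
    | sr i =>
      obtain ⟨j, hj⟩ := ZMod.castHom_surjective (Dvd.intro _ rfl : 2 ∣ 2 * 2 ^ k) i
      exact ⟨QuaternionGroup.xa j, congrArg DihedralGroup.sr hj⟩
  · cases x with
    | a i => exact ⟨(i.val : ℤ), by
        show (QuaternionGroup.a 1 : QuaternionGroup (2 ^ k)) ^ ((i.val : ℕ) : ℤ) = _
        rw [zpow_natCast, QuaternionGroup.a_one_pow, ZMod.natCast_zmod_val]⟩
    | xa i =>
      have h1 : DihedralGroup.sr (c i) = 1 := hx
      rw [DihedralGroup.one_def] at h1
      cases h1

omit [Finite G] in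
theorem injective_restrict_of_odd_ker {H : Type*} [Group H] (f : G →* H) (hodd : ¬ 2 ∣ Nat.card f.ker)
    {Q : Subgroup G} (hQ : IsPGroup 2 Q) : Function.Injective (f.comp Q.subtype) := by
  rw [← MonoidHom.ker_eq_bot_iff, eq_bot_iff]
  intro x hx
  have h1 : (x : G) ∈ f.ker := hx
  obtain ⟨j, hj⟩ := IsPGroup.iff_orderOf.mp hQ x
  have h2 : orderOf x ∣ Nat.card f.ker := by
    rw [← orderOf_coe, ← Subgroup.orderOf_mk (x : G) h1]
    exact _root_.orderOf_dvd_natCard _
  rw [hj] at h2
  rcases j with _ | j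
  · rw [pow_zero] at hj
    exact mem_bot.mpr (orderOf_eq_one_iff.mp hj)
  · exact absurd ((dvd_pow_self 2 j.succ_ne_zero).trans h2) hodd

/-- A normal 2-complement. -/
theorem HasFPF.smallKer_of_normalPComplement (h : HasFPF G) (hc : Cfsg.HasNormalPComplement 2 G)
    (P : Sylow 2 G) {k : ℕ} (hk : 1 ≤ k) (e : (P : Subgroup G) ≃* QuaternionGroup (2 ^ k)) :
    ∃ N : Subgroup G, N.Normal ∧ IsZGroup N ∧ IsSmallKer N := by
  have : Fact (Nat.Prime 2) := ⟨Nat.prime_two⟩
  obtain ⟨P', M, hMn, hMP⟩ := hc
  have hModd : ¬ 2 ∣ Nat.card M := by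
    rw [← hMP.index_eq_card]; exact P'.not_dvd_index
  let π : G →* (P' : Subgroup G) := (hMP.symm.QuotientMulEquiv).toMonoidHom.comp (QuotientGroup.mk' M)
  have hπs : Function.Surjective π := fun y => by
    obtain ⟨a, rfl⟩ := hMP.symm.QuotientMulEquiv.surjective y
    obtain ⟨b, rfl⟩ := QuotientGroup.mk'_surjective M a
    exact ⟨b, rfl⟩
  have hπk : π.ker = M := by
    ext x
    show hMP.symm.QuotientMulEquiv (QuotientGroup.mk' M x) = 1 ↔ _
    rw [MulEquiv.map_eq_one_iff]
    exact QuotientGroup.eq_one_iff x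
  obtain ⟨φ, hφs, hφk⟩ := exists_quaternion_to_four k hk
  let ψ : (P' : Subgroup G) →* QuaternionGroup (2 ^ k) := ((Sylow.equiv P' P).trans e).toMonoidHom
  refine ⟨(φ.comp (ψ.comp π)).ker, inferInstance, h.isZGroup_of_two _ fun Q hQ => ?_, Or.inr (Or.inl
    ⟨_, hφs.comp (((Sylow.equiv P' P).trans e).surjective.comp hπs), rfl⟩)⟩
  let Q' : Subgroup G := Q.map (φ.comp (ψ.comp π)).ker.subtype
  have hinj := injective_restrict_of_odd_ker π (hπk ▸ hModd) (Q := Q') (hQ.map _)
  have hmem : ∀ x : Q', ψ (π x) ∈ zpowers (QuaternionGroup.a 1 : QuaternionGroup (2 ^ k)) := fun x => by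
    obtain ⟨y, -, hy⟩ := x.2
    exact hφk (show φ (ψ (π (x : G))) = 1 by rw [← hy]; exact y.2)
  let χ : Q' →* zpowers (QuaternionGroup.a 1 : QuaternionGroup (2 ^ k)) :=
    ((ψ.comp (π.comp Q'.subtype)).codRestrict _ hmem)
  have hQ' : IsCyclic Q' := isCyclic_of_injective χ fun x y hxy =>
    hinj (((Sylow.equiv P' P).trans e).injective (congrArg Subtype.val hxy))
  let ι := Q.equivMapOfInjective _ (φ.comp (ψ.comp π)).ker.subtype_injective
  exact isCyclic_of_surjective ι.symm.toMonoidHom ι.symm.surjective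

/-- The solvable case without normal 2-complement. -/
theorem HasFPF.smallKer_of_solvable (h : HasFPF G) [Group.IsSolvable G]
    (hnc : ¬ Cfsg.HasNormalPComplement 2 G) :
    ∃ N : Subgroup G, N.Normal ∧ IsZGroup N ∧ IsSmallKer N := by
  classical
  have : Fact (Nat.Prime 2) := ⟨Nat.prime_two⟩
  set O := Cfsg.pPrimeCore 2 G with hO
  have hOodd : ¬ 2 ∣ Nat.card O := Core.not_dvd_card_pPrimeCore
  let mk : G →* G ⧸ O := QuotientGroup.mk' O
  have hmk : Function.Surjective mk := QuotientGroup.mk'_surjective O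
  have hmkk : ¬ 2 ∣ Nat.card mk.ker := by rw [QuotientGroup.ker_mk']; exact hOodd
  have hO1 : Cfsg.pPrimeCore 2 (G ⧸ O) = ⊥ := Core.pPrimeCore_quotient_eq_bot
  set F := Cfsg.pCore 2 (G ⧸ O) with hF
  obtain ⟨P⟩ := (inferInstance : Nonempty (Sylow 2 G))
  let eP : (P : Subgroup G) ≃* (mk.comp (P : Subgroup G).subtype).range :=
    MonoidHom.ofInjective (injective_restrict_of_odd_ker mk hmkk P.isPGroup')
  have hFle : F ≤ (mk.comp (P : Subgroup G).subtype).range := by
    rw [MonoidHom.range_comp, range_subtype]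
    exact Core.pCore_le_sylow (P.mapSurjective hmk)
  have hFfpf : HasFPF F :=
    ((h.subgroup P).of_mulEquiv eP.symm).comap (inclusion hFle) (inclusion_injective hFle)
  have hF2 : IsPGroup 2 F := Core.pCore_isPGroup
  have hfit : Cfsg.fittingSubgroup (G ⧸ O) = F := by
    refine le_antisymm ?_ (Core.pCore_le_fittingSubgroup 2)
    rw [Core.fittingSubgroup_eq_iSup_pCore]
    refine iSup_le fun q => ?_
    by_cases hq : (q : ℕ) = 2
    · rw [hq]
    · have : Fact (Nat.Prime q) := ⟨q.2⟩
      exact (Core.pCore_le_pPrimeCore (q := (q : ℕ)) (p := 2) hq).trans (hO1 ▸ bot_le)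
  have hCF : centralizer (F : Set (G ⧸ O)) ≤ F := hfit ▸ Core.centralizer_fittingSubgroup_le
  have hn2 : ¬ IsPGroup 2 (G ⧸ O) := fun hp =>
    hnc (Fusion.hasNormalPComplement_of_normal_isPGroup_quotient O Core.coprime_card_pPrimeCore hp)
  have hAut : ¬ IsPGroup 2 (MulAut F) := fun hA => by
    refine hn2 fun x => ?_
    obtain ⟨a, ha⟩ := hA (MulAut.conjNormal (H := F) x)
    have hmem : x ^ 2 ^ a ∈ F := hCF (mem_centralizer_iff.mpr fun y hy => by
      have h1 : MulAut.conjNormal (x ^ 2 ^ a) (⟨y, hy⟩ : F) = ⟨y, hy⟩ := by rw [map_pow, ha]; rfl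
      have h2 : x ^ 2 ^ a * y * (x ^ 2 ^ a)⁻¹ = y := congrArg Subtype.val h1
      exact (mul_inv_eq_iff_eq_mul.mp h2).symm)
    obtain ⟨b, hb⟩ := hF2 ⟨_, hmem⟩
    exact ⟨a + b, by rw [pow_add, pow_mul]; exact congrArg Subtype.val hb⟩
  have hF8 : Nat.card F = 8 := by
    rcases hFfpf.cyclic_or_quaternion (P := ⊤) (hF2.of_equiv topEquiv.symm) with hc | ⟨-, k, hk, ⟨e⟩⟩
    · have : IsCyclic F := isCyclic_of_surjective topEquiv.toMonoidHom topEquiv.surjective
      refine absurd ?_ hAut
      obtain ⟨j, hj⟩ := IsPGroup.iff_card.mp hF2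
      rcases j with _ | j
      · refine IsPGroup.of_card (n := 0) ?_
        rw [IsCyclic.card_mulAut, hj]; rfl
      · refine IsPGroup.of_card (n := j) ?_
        rw [IsCyclic.card_mulAut, hj, Nat.totient_prime_pow_succ Nat.prime_two]
        simp
    · let e' : F ≃* QuaternionGroup (2 ^ k) := topEquiv.symm.trans e
      have hcard : Nat.card F = 4 * 2 ^ k := by
        rw [Nat.card_congr e'.toEquiv, Nat.card_eq_fintype_card, QuaternionGroup.card]
      rcases (show k = 1 ∨ 2 ≤ k by omega) with rfl | hk2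
      · rw [hcard]; rfl
      · refine absurd ?_ hAut
        refine S3116.isPGroup_mulAut (e'.symm (QuaternionGroup.a 1)) (k := k + 1) ?_ ?_ fun y hy => ?_
        · rw [e'.symm.orderOf_eq, QuaternionGroup.orderOf_a_one, pow_succ']
        · rw [hcard, pow_succ']; ring
        · cases hey : e' y with
          | a i =>
            refine absurd ⟨(i.val : ℤ), ?_⟩ hy
            show e'.symm (QuaternionGroup.a 1) ^ (i.val : ℤ) = y
            rw [zpow_natCast, ← map_pow, QuaternionGroup.a_one_pow, ZMod.natCast_zmod_val, ← hey, e'.symm_apply_apply]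
          | xa i =>
            rw [← e'.orderOf_eq y, hey, QuaternionGroup.orderOf_xa]
            calc 4 = 2 ^ 2 := rfl
              _ < 2 ^ (k + 1) := Nat.pow_lt_pow_right one_lt_two (by omega)
  -- the central involution
  obtain ⟨⟨z, hz⟩, hzo⟩ := exists_prime_orderOf_dvd_card' (G := F) 2 (by rw [hF8]; norm_num)
  rw [Subgroup.orderOf_mk] at hzo
  have hzc : ∀ x : G ⧸ O, x * z * x⁻¹ = z := fun x => by
    have := hFfpf.eq_of_orderOf_two (s := ⟨x * z * x⁻¹, Normal.conj_mem inferInstance z hz x⟩) (t := ⟨z, hz⟩)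
      (by rw [Subgroup.orderOf_mk, Setting.orderOf_conj', hzo]) (by rw [Subgroup.orderOf_mk, hzo])
    exact congrArg Subtype.val this
  set K := zpowers z with hK
  have hKn : K.Normal := ⟨fun a ha x => by
    obtain ⟨j, rfl⟩ := mem_zpowers_iff.mp ha
    rw [← conj_zpow, hzc]
    exact zpow_mem (mem_zpowers z) j⟩
  have hKc : Nat.card K = 2 := by rw [hK, Nat.card_zpowers, hzo]
  let q : G ⧸ O →* (G ⧸ O) ⧸ K := QuotientGroup.mk' K
  have hq : Function.Surjective q := QuotientGroup.mk'_surjective K
  set V := F.map q with hV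
  have hVn : V.Normal := (inferInstance : F.Normal).map q hq
  have hVc : Nat.card V = 4 := by
    let r := q.comp F.subtype
    have hr : r.range = V := by rw [MonoidHom.range_comp, range_subtype]
    have h1 := r.ker.card_mul_index
    rw [index_ker, hr, hF8] at h1
    have h2 : Nat.card r.ker = 2 := by
      refine Eq.trans ?_ ((Coprime.card_subgroupOf (zpowers_le.mpr hz : K ≤ F)).trans hKc)
      congr 2
      ext x
      show q (x : G ⧸ O) = 1 ↔ _
      rw [QuotientGroup.mk'_apply, QuotientGroup.eq_one_iff]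
      exact Iff.rfl
    rw [h2] at h1
    omega
  have hVC : centralizer (V : Set ((G ⧸ O) ⧸ K)) ≤ V := by
    set D := (centralizer (V : Set ((G ⧸ O) ⧸ K))).comap q with hD
    have hDn : D.Normal := (inferInstance : (centralizer (V : Set _)).Normal).comap q
    have hD2 : IsPGroup 2 D := by
      rw [IsPGroup.iff_card]
      refine ⟨_, Nat.eq_prime_pow_of_unique_prime_dvd Nat.card_pos.ne' fun {r} hr hrd => ?_⟩
      by_contra hr2
      have := Fact.mk hr
      obtain ⟨⟨d, hd⟩, hdo⟩ := exists_prime_orderOf_dvd_card' r hrd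
      rw [Subgroup.orderOf_mk] at hdo
      have hfix : d ∈ centralizer (F : Set (G ⧸ O)) := mem_centralizer_iff.mpr fun y hy => by
        have h1 : q y * q d = q d * q y := mem_centralizer_iff.mp hd _ (mem_map_of_mem q hy)
        have hex : ∀ (d : G ⧸ O), q y * q d = q d * q y → ∃ j : ℤ, d * y * d⁻¹ = y * z ^ j := fun d h1 => by
          have h2 : y⁻¹ * (d * y * d⁻¹) ∈ K := by
            rw [← QuotientGroup.eq_one_iff]
            show q (y⁻¹ * (d * y * d⁻¹)) = 1
            rw [map_mul, map_mul, map_mul, ← h1, map_inv, map_inv]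
            group
          obtain ⟨j, hj⟩ := mem_zpowers_iff.mp h2
          exact ⟨j, by rw [hj, mul_inv_cancel_left]⟩
        obtain ⟨j, hj⟩ := hex d h1
        have hit : ∀ i : ℕ, d ^ i * y * (d ^ i)⁻¹ = y * z ^ (j * i) := by
          intro i
          induction i with
          | zero => simp
          | succ i ih =>
            rw [pow_succ', mul_inv_rev, show d * d ^ i * y * ((d ^ i)⁻¹ * d⁻¹) = d * (d ^ i * y * (d ^ i)⁻¹) * d⁻¹ by group,
              ih, show d * (y * z ^ (j * i)) * d⁻¹ = (d * y * d⁻¹) * (d * z * d⁻¹) ^ (j * i) by rw [conj_zpow]; group,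
              hj, hzc, mul_assoc, ← zpow_add]
            congr 2
            push_cast
            ring
        have h3 := hit r
        rw [← hdo, pow_orderOf_eq_one, one_mul, inv_one, mul_one, hdo, left_eq_mul,
          ← orderOf_dvd_iff_zpow_eq_one, hzo] at h3
        have h4 : (2 : ℤ) ∣ j := by
          rcases Int.Prime.dvd_mul' Nat.prime_two h3 with h5 | h5
          · exact h5
          · exact absurd ((Nat.prime_dvd_prime_iff_eq Nat.prime_two hr).mp (Int.natCast_dvd_natCast.mp h5)).symm hr2
        have h5 : z ^ j = 1 := by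
          rw [← orderOf_dvd_iff_zpow_eq_one, hzo]; exact h4
        rw [h5, mul_one] at hj
        exact (mul_inv_eq_iff_eq_mul.mp hj).symm
      have h6 : d ∈ F := hCF hfix
      obtain ⟨j, hj⟩ := IsPGroup.iff_orderOf.mp hF2 ⟨d, h6⟩
      rw [Subgroup.orderOf_mk, hdo] at hj
      exact hr2 ((Nat.prime_dvd_prime_iff_eq hr Nat.prime_two).mp
        (hr.dvd_of_dvd_pow (dvd_of_eq hj)))
    intro x hx
    obtain ⟨x, rfl⟩ := hq x
    exact mem_map_of_mem q (Core.le_pCore hD2 hx)
  have h3 : 3 ∣ Nat.card ((G ⧸ O) ⧸ K) := by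
    by_contra h3
    have hnot : ¬ IsPGroup 2 ((G ⧸ O) ⧸ K) := fun hp => hn2 fun x => by
      obtain ⟨a, ha⟩ := hp (q x)
      rw [← map_pow, QuotientGroup.mk'_apply, QuotientGroup.eq_one_iff] at ha
      obtain ⟨b, hb⟩ := (IsPGroup.of_card (p := 2) (n := 1) (G := K) hKc) ⟨_, ha⟩
      exact ⟨a + b, by rw [pow_add, pow_mul]; exact congrArg Subtype.val hb⟩
    apply hnot
    -- the quotient acts on the three nontrivial elements of `V`
    let A := MulAut.conjNormal (H := V)
    have hAV : IsPGroup 2 A.range := by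
      have hd : Nat.card A.range ∣ 6 := by
        let toP : MulAut V →* Equiv.Perm {v : V // v ≠ 1} :=
          { toFun := fun σ => Equiv.subtypeEquiv σ.toEquiv fun v => (MulEquiv.map_ne_one_iff σ).symm
            map_one' := Equiv.ext fun v => rfl
            map_mul' := fun σ τ => Equiv.ext fun v => rfl }
        have hinj : Function.Injective toP := fun σ τ he => MulEquiv.ext fun v => by
          rcases eq_or_ne v 1 with rfl | hv
          · rw [map_one, map_one]
          · exact congrArg Subtype.val (Equiv.Perm.congr_fun he ⟨v, hv⟩)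
        refine (card_subgroup_dvd_card _).trans ((card_dvd_of_injective toP hinj).trans ?_)
        have hY : Nat.card {v : V // v ≠ 1} = 3 := by
          have h1 := Set.ncard_add_ncard_compl ({(1 : V)} : Set V)
          rw [Set.ncard_singleton, hVc] at h1
          rw [show Nat.card {v : V // v ≠ 1} = (({(1 : V)} : Set V)ᶜ).ncard from Nat.card_coe_set_eq _]
          omega
        rw [Nat.card_perm, hY]
        rfl
      have h3' : ¬ 3 ∣ Nat.card A.range := fun e => h3 (e.trans (card_range_dvd A))
      have : Nat.card A.range ∣ 2 := by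
        refine Nat.Coprime.dvd_of_dvd_mul_right ?_ (show Nat.card A.range ∣ 2 * 3 from hd)
        exact ((Nat.Prime.coprime_iff_not_dvd Nat.prime_three).mpr h3').symm
      rcases (Nat.dvd_prime Nat.prime_two).mp this with e | e
      · exact IsPGroup.of_card (n := 0) e
      · exact IsPGroup.of_card (n := 1) e
    intro x
    obtain ⟨a, ha⟩ := hAV ⟨A x, ⟨x, rfl⟩⟩
    have hmem : x ^ 2 ^ a ∈ V := hVC (mem_centralizer_iff.mpr fun y hy => by
      have h1 : A (x ^ 2 ^ a) (⟨y, hy⟩ : V) = ⟨y, hy⟩ := by
        rw [map_pow, show A x ^ 2 ^ a = 1 from congrArg Subtype.val ha]; rfl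
      have h2 : x ^ 2 ^ a * y * (x ^ 2 ^ a)⁻¹ = y := congrArg Subtype.val h1
      exact (mul_inv_eq_iff_eq_mul.mp h2).symm)
    obtain ⟨b, hb⟩ := (IsPGroup.of_card (p := 2) (n := 2) (G := V) hVc) ⟨_, hmem⟩
    exact ⟨a + b, by rw [pow_add, pow_mul]; exact congrArg Subtype.val hb⟩
  obtain ⟨hcard, f, hf⟩ := exists_hom_perm_four V hVc hVC h3
  let π : G →* (G ⧸ O) ⧸ K := q.comp mk
  have hker : (f.comp π).ker = π.ker := by
    rw [← MonoidHom.comap_ker, (MonoidHom.ker_eq_bot_iff f).mpr hf]; rfl
  have hidx : (f.comp π).ker.index = Nat.card ((G ⧸ O) ⧸ K) := by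
    rw [hker, index_ker, MonoidHom.range_eq_top.mpr (show Function.Surjective π from fun y => by
      obtain ⟨a, rfl⟩ := hq y; obtain ⟨b, rfl⟩ := hmk a; exact ⟨b, rfl⟩), card_top]
  refine ⟨(f.comp π).ker, inferInstance, h.isZGroup_of_two _ fun Q hQ => ?_, ?_⟩
  · let Q' : Subgroup G := Q.map (f.comp π).ker.subtype
    have hinj := injective_restrict_of_odd_ker mk hmkk (Q := Q') (hQ.map _)
    have hmem : ∀ x : Q', mk x ∈ K := fun x => by
      obtain ⟨y, -, hy⟩ := x.2
      have h1 : (y : G) ∈ π.ker := hker ▸ y.2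
      rw [← hy]
      exact (QuotientGroup.eq_one_iff _).mp h1
    have : IsCyclic Q' := isCyclic_of_injective ((mk.comp Q'.subtype).codRestrict K hmem)
      fun x y hxy => hinj (congrArg Subtype.val hxy)
    let ι := Q.equivMapOfInjective _ (f.comp π).ker.subtype_injective
    exact isCyclic_of_surjective ι.symm.toMonoidHom ι.symm.surjective
  · rcases alternating_or_symmetric (f.comp π) (by
      rw [hidx]
      rcases hcard with e | e <;> rw [e] <;> [left; right] <;> rfl) with ha | hs
    · exact Or.inr (Or.inr (Or.inl ha))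
    · exact Or.inr (Or.inr (Or.inr (Or.inl hs)))

/-- The nonsolvable case. -/
theorem HasFPF.smallKer_of_not_solvable (h : HasFPF G) (hns : ¬ Group.IsSolvable G) :
    ∃ N : Subgroup G, N.Normal ∧ IsZGroup N ∧ IsSmallKer N := by
  classical
  obtain ⟨D, hDne, hD⟩ := exists_perfect_of_not_isSolvable hns
  obtain ⟨Z⟩ := h.exists_setting
  obtain ⟨I⟩ := h.exists_ico Z D hD
  have hSn := I.normal_S
  set C := centralizer (I.S : Set G) with hC
  have : Fact (Nat.Prime 2) := ⟨Nat.prime_two⟩
  have hsyl : Nat.card (I.Q8.subgroupOf I.S) = 2 ^ (Nat.card I.S).factorization 2 := by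
    let P : Sylow 2 I.S := default
    rw [← P.card_eq_multiplicity, Classical.card_sylow_eq_of_card_eq P (a := 3) (r := 15) I.card_S (by norm_num),
      Coprime.card_subgroupOf I.Q8_le, I.card_Q8 h]
    norm_num
  have hfr := Sylow.normalizer_sup_eq_top (Sylow.ofCard (I.Q8.subgroupOf I.S) hsyl)
  rw [Sylow.coe_ofCard, map_subgroupOf_eq_of_le I.Q8_le] at hfr
  set N := normalizer (I.Q8 : Set G) with hN
  -- the normaliser in the perfect group
  set NS := N ⊓ I.S with hNS
  have hQNS : I.Q8 ≤ NS := le_inf le_normalizer I.Q8_le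
  have hsmall : Nat.card (C ⊓ I.S : Subgroup G) = 2 := by
    have hz : orderOf (I.F.g1 * I.F.g1) = 2 := by
      rw [← pow_two, orderOf_pow' _ two_ne_zero, I.orderOf_g1]; rfl
    rw [← hz, ← Nat.card_zpowers]
    congr 2
    refine le_antisymm (fun x hx => ?_) (zpowers_le.mpr ⟨?_, mul_mem I.g1_mem I.g1_mem⟩)
    · rcases eq_or_ne x 1 with rfl | hx1
      · exact one_mem _
      · rw [h.eq_of_orderOf_two (orderOf_eq_prime (by rw [pow_two]; exact I.sq_eq_one hx.2 hx.1) hx1) hz]
        exact mem_zpowers _
    · exact mem_centralizer_iff.mpr fun y _ => mem_center_iff.mp (h.mem_center_of_orderOf_two hz) y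
  have hdvd24 : Nat.card NS ∣ 24 := by
    let ψ := I.Q8.normalizerMonoidHom.comp (inclusion (inf_le_left : NS ≤ N))
    have h48 : Nat.card NS ∣ 2 * 24 := by
      rw [← ψ.ker.card_mul_index, index_ker]
      refine Nat.mul_dvd_mul ?_ ((card_subgroup_dvd_card _).trans ?_)
      · rw [← hsmall]
        refine (dvd_of_eq (Nat.card_congr (ψ.ker.equivMapOfInjective _ NS.subtype_injective).toEquiv)).trans
          (card_dvd_of_le ?_)
        rintro _ ⟨x, hx, rfl⟩
        have hx' : inclusion (inf_le_left : NS ≤ N) x ∈ I.Q8.normalizerMonoidHom.ker := hx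
        rw [normalizerMonoidHom_ker] at hx'
        exact ⟨I.centralizer_Q8_le hx', x.2.2⟩
      · have hQ : IsPGroup 2 I.Q8 := IsPGroup.of_card (n := 3) (by rw [I.card_Q8 h]; norm_num)
        exact I.card_mulAut_Q8_dvd h
    have h120 : Nat.card NS ∣ 120 := I.card_S ▸ card_dvd_of_le inf_le_right
    exact (Nat.dvd_gcd h48 h120).trans (by norm_num)
  have hcardNS : Nat.card NS = 24 := by
    refine Nat.dvd_antisymm hdvd24 ?_
    have h8 : 8 ∣ Nat.card NS := I.card_Q8 h ▸ card_dvd_of_le hQNS
    have h3 : 3 ∣ Nat.card NS := by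
      rw [← I.F.o1, ← Nat.card_zpowers]
      exact card_dvd_of_le (zpowers_le.mpr ⟨I.p1_mem_normalizer, I.p1_mem⟩)
    exact Nat.Coprime.mul_dvd_of_dvd_of_dvd (by norm_num : Nat.Coprime 8 3) h8 h3
  have hidxN : N.index = 5 := by
    have h1 := Core.card_sup_mul_card_inf N I.S
    rw [hfr, card_top, ← hNS, hcardNS, I.card_S, ← N.card_mul_index, mul_assoc] at h1
    have := Nat.eq_of_mul_eq_mul_left Nat.card_pos h1
    omega
  let e : G ⧸ N ≃ Fin 5 := Finite.equivFinOfCardEq (by rw [← index_eq_card, hidxN])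
  let f : G →* Equiv.Perm (Fin 5) := (e.permCongrHom.toMonoidHom).comp (MulAction.toPermHom G (G ⧸ N))
  have hk : f.ker = N.normalCore := by
    rw [normalCore_eq_ker]
    ext x
    simp [f]
  have hCN : C ≤ N := (centralizer_le (SetLike.coe_subset_coe.mpr I.Q8_le)).trans (centralizer_le_normalizer _)
  have hker : f.ker = C := by
    refine le_antisymm ?_ (hk ▸ normal_le_normalCore.mpr hCN)
    rw [hk]
    set X := N.normalCore with hX
    have hXn : X.Normal := normalCore_normal N
    set T := X ⊓ I.S with hT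
    have hTle : T ≤ NS := inf_le_inf_right _ (normalCore_le N)
    have hTn : T.Normal := inferInstance
    have hTsq : ∀ t ∈ T, t ∈ C := by
      by_cases h3 : 3 ∣ Nat.card T
      · exfalso
        -- all elements of order three would lie in `T`
        have hall : ∀ d : G, orderOf d = 3 → d ∈ T := by
          have : Fact (Nat.Prime 3) := ⟨Nat.prime_three⟩
          obtain ⟨R⟩ := (inferInstance : Nonempty (Sylow 3 T))
          have hRc : Nat.card ((R : Subgroup T).map T.subtype) = 3 := by
            rw [← Nat.card_congr ((R : Subgroup T).equivMapOfInjective _ T.subtype_injective).toEquiv,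
              R.card_eq_multiplicity]
            have hd : Nat.card T ∣ 24 := (card_dvd_of_le hTle).trans (dvd_of_eq hcardNS)
            obtain ⟨m, hm⟩ := h3
            have hm3 : ¬ 3 ∣ m := fun h9 => by
              obtain ⟨l, rfl⟩ := h9
              have : 9 ∣ 24 := (Dvd.intro l (by rw [hm]; ring)).trans hd
              norm_num at this
            rw [hm, Nat.factorization_mul (by norm_num) (fun e => by rw [e] at hm3; exact hm3 (dvd_zero 3)),
              Finsupp.add_apply, Nat.prime_three.factorization_self, Nat.factorization_eq_zero_of_not_dvd hm3]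
            rfl
          intro d hd
          set R' := ((R : Subgroup T).map T.subtype) with hR'
          have hR'S : R' ≤ I.S := (map_subtype_le _).trans inf_le_right
          have hsyl3 : Nat.card (R'.subgroupOf I.S) = 3 ^ (Nat.card I.S).factorization 3 := by
            let P3 : Sylow 3 I.S := default
            rw [Coprime.card_subgroupOf hR'S, hRc, ← P3.card_eq_multiplicity,
              Classical.card_sylow_eq_of_card_eq P3 (a := 1) (r := 40) I.card_S (by norm_num)]
            norm_num
          have hp : IsPGroup 3 (zpowers (⟨d, I.mem_S hd⟩ : I.S)) :=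
            IsPGroup.of_card (n := 1) (by rw [Nat.card_zpowers, Subgroup.orderOf_mk, hd, pow_one])
          obtain ⟨P3, hP3⟩ := hp.exists_le_sylow
          obtain ⟨g, hg⟩ := MulAction.exists_smul_eq I.S (Sylow.ofCard (R'.subgroupOf I.S) hsyl3) P3
          have h1 : (⟨d, I.mem_S hd⟩ : I.S) ∈ (g • Sylow.ofCard (R'.subgroupOf I.S) hsyl3 : Sylow 3 I.S) := by
            rw [hg]; exact hP3 (mem_zpowers _)
          replace h1 : (⟨d, I.mem_S hd⟩ : I.S) ∈
              ((g • Sylow.ofCard (R'.subgroupOf I.S) hsyl3 : Sylow 3 I.S) : Subgroup I.S) := h1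
          rw [Sylow.coe_subgroup_smul, Sylow.coe_ofCard] at h1
          obtain ⟨r, hr, hrd⟩ := h1
          have h2 : (g : G) * (r : G) * (g : G)⁻¹ = d := congrArg Subtype.val hrd
          rw [← h2]
          exact hTn.conj_mem _ (map_subtype_le _ (mem_subgroupOf.mp hr)) _
        have hle : I.S ≤ T := (closure_le _).mpr (by
          rintro y (rfl | rfl | rfl)
          exacts [hall _ I.F.o1, hall _ I.F.o2, hall _ I.hc])
        have := (card_dvd_of_le (hle.trans hTle)).trans (dvd_of_eq hcardNS)
        rw [I.card_S] at this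
        norm_num at this
      · intro t ht
        -- a normal subgroup inside the quaternion group
        have hTQ : T ≤ I.Q8 := by
          have h8 : Nat.card T ∣ 8 := by
            refine Nat.Coprime.dvd_of_dvd_mul_right ?_
              (show Nat.card T ∣ 8 * 3 from (card_dvd_of_le hTle).trans (dvd_of_eq hcardNS))
            exact ((Nat.Prime.coprime_iff_not_dvd Nat.prime_three).mpr h3).symm
          have hT2 : IsPGroup 2 (T.subgroupOf I.S) := by
            obtain ⟨j, -, hj⟩ := (Nat.dvd_prime_pow Nat.prime_two).mp (show Nat.card T ∣ 2 ^ 3 from h8)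
            exact IsPGroup.of_card (n := j) (by rw [Coprime.card_subgroupOf inf_le_right, hj])
          have := hT2.le_sylow_of_normal (Sylow.ofCard (I.Q8.subgroupOf I.S) hsyl)
          rw [Sylow.coe_ofCard] at this
          intro x hx
          exact mem_subgroupOf.mp (this (mem_subgroupOf.mpr hx : (⟨x, hx.2⟩ : I.S) ∈ T.subgroupOf I.S))
        have h8 : Nat.card T ∣ 8 := I.card_Q8 h ▸ card_dvd_of_le hTQ
        obtain ⟨j, hj, hjT⟩ := (Nat.dvd_prime_pow Nat.prime_two).mp (show Nat.card T ∣ 2 ^ 3 from h8)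
        have hcentral : ∀ d : G, orderOf d = 3 → d * t = t * d := by
          intro d hd
          rcases (show j ≤ 1 ∨ j = 2 ∨ j = 3 by omega) with h1 | rfl | rfl
          · rcases eq_or_ne t 1 with rfl | ht1
            · rw [mul_one, one_mul]
            · have h2 : orderOf t = 2 := by
                have h3' : orderOf t ∣ 2 ^ j := hjT ▸ Subgroup.orderOf_dvd_natCard T ht
                rcases (Nat.dvd_prime Nat.prime_two).mp (h3'.trans (by
                  simpa using pow_dvd_pow 2 h1)) with e | e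
                · exact absurd (orderOf_eq_one_iff.mp e) ht1
                · exact e
              exact mem_center_iff.mp (h.mem_center_of_orderOf_two h2) d
          · have hcyc : IsCyclic T := by
              refine (h.cyclic_or_quaternion (P := T) (IsPGroup.of_card (p := 2) (n := 2) hjT)).resolve_right ?_
              rintro ⟨-, k, hk, ⟨e⟩⟩
              have := Nat.card_congr e.toEquiv
              rw [hjT, Nat.card_eq_fintype_card, QuaternionGroup.card] at this
              have h2k : 2 ≤ 2 ^ k := Nat.le_self_pow (by omega) 2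
              omega
            have hdn : d ∈ normalizer (T : Set G) := by rw [normalizer_eq_top]; exact mem_top d
            have h1 : T.normalizerMonoidHom ⟨d, hdn⟩ = 1 := by
              rw [← orderOf_eq_one_iff]
              refine Nat.eq_one_of_dvd_coprimes (a := 3) (b := 2) (by norm_num) ?_ ?_
              · exact hd ▸ (orderOf_map_dvd _ _).trans (dvd_of_eq (Subgroup.orderOf_mk d hdn))
              · refine (_root_.orderOf_dvd_natCard _).trans (dvd_of_eq ?_)
                rw [IsCyclic.card_mulAut, hjT, Nat.totient_prime_pow_succ Nat.prime_two]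
                rfl
            have h2 : d * t * d⁻¹ = t := congrArg (fun f : MulAut T => ((f ⟨t, ht⟩ : T) : G)) h1
            exact mul_inv_eq_iff_eq_mul.mp h2
          · have hTQ' : T = I.Q8 := eq_of_le_of_card_ge hTQ (by rw [hjT, I.card_Q8 h]; norm_num)
            have hQn : N = ⊤ := by rw [hN, ← hTQ', normalizer_eq_top]
            rw [hQn, index_top] at hidxN
            norm_num at hidxN
        have hle : I.S ≤ centralizer ({t} : Set G) := (closure_le _).mpr (by
          rintro y (rfl | rfl | rfl)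
          exacts [mem_centralizer_singleton_iff.mpr (hcentral _ I.F.o1),
            mem_centralizer_singleton_iff.mpr (hcentral _ I.F.o2),
            mem_centralizer_singleton_iff.mpr (hcentral _ I.hc)])
        exact mem_centralizer_iff.mpr fun y hy => mem_centralizer_singleton_iff.mp (hle hy)
    intro x hx
    refine mem_centralizer_iff.mpr fun y hy => ?_
    have hle : I.S ≤ centralizer ({x} : Set G) := by
      refine (closure_le _).mpr ?_
      have key : ∀ d : G, orderOf d = 3 → d ∈ centralizer ({x} : Set G) := fun d hd => by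
        set w := d⁻¹ * (x * d * x⁻¹) with hw
        have hwT : w ∈ T := ⟨by
            rw [hw, show d⁻¹ * (x * d * x⁻¹) = (d⁻¹ * x * d) * x⁻¹ by group]
            exact X.mul_mem (by simpa using hXn.conj_mem x hx d⁻¹) (X.inv_mem hx),
          I.S.mul_mem (I.S.inv_mem (I.mem_S hd)) (hSn.conj_mem d (I.mem_S hd) x)⟩
        have hwC := hTsq w hwT
        have hw2 : w * w = 1 := I.sq_eq_one hwT.2 hwC
        have hd3 : d ^ 3 = 1 := by rw [← hd, pow_orderOf_eq_one]
        have e : (x * d * x⁻¹) = d * w := by rw [hw, mul_inv_cancel_left]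
        have hc : Commute d w := (mem_centralizer_iff.mp hwC d (I.mem_S hd))
        have e3 : (d * w) ^ 3 = 1 := by rw [← e, conj_pow, hd3, mul_one, mul_inv_cancel]
        rw [hc.mul_pow, hd3, one_mul, pow_three, hw2, mul_one] at e3
        rw [e3, mul_one, mul_inv_eq_iff_eq_mul] at e
        exact mem_centralizer_singleton_iff.mpr e.symm
      rintro z (rfl | rfl | rfl)
      exacts [key _ I.F.o1, key _ I.F.o2, key _ I.hc]
    exact mem_centralizer_singleton_iff.mp (hle hy)
  have hidxC : C.index = 60 ∨ C.index = 120 := by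
    have h1 := Core.card_sup_mul_card_inf C I.S
    have h2 := (C ⊔ I.S).card_mul_index
    have h3 := C.card_mul_index
    rw [hsmall, I.card_S] at h1
    have h4 := I.index_dvd_two h
    rw [sup_comm, ← hC] at h4
    have hpos : 0 < Nat.card C := Nat.card_pos
    rw [show Nat.card (C ⊔ I.S : Subgroup G) = Nat.card C * 60 by omega, mul_assoc] at h2
    have h5 := Nat.eq_of_mul_eq_mul_left hpos (h2.trans h3.symm)
    rcases (Nat.dvd_prime Nat.prime_two).mp h4 with e | e <;> rw [e] at h5
    · left; omega
    · right; omega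
  refine ⟨f.ker, inferInstance, ?_, ?_⟩
  · rw [hker]; exact I.isZGroup_centralizer h
  · rcases alternating_or_symmetric f (by
      rw [hker]
      rcases hidxC with e | e <;> rw [e] <;> [right; left] <;> rfl) with ha | hs
    · exact Or.inr (Or.inr (Or.inr (Or.inr (Or.inl ha))))
    · exact Or.inr (Or.inr (Or.inr (Or.inr (Or.inr hs))))

end Cfsg.Agent.FPF25
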