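import Cfsg.Agent.FPF25.Setting

/-!
A frame: three quaternion units realised by group elements, and four tetrahedral axes. Coordinates
of an operator with respect to a frame.
-/

set_option autoImplicit false

namespace Cfsg.Agent.FPF25

variable {G M : Type*} [Group G] [AddCommGroup M] [Module ℚ M]

/-- The signed sum of three operators. -/
def vec (e1 e2 e3 : Module.End ℚ M) (s1 s2 s3 : ℚ) : Module.End ℚ M := s1 • e1 + s2 • e2 + s3 • e3

/-- Quaternion units from two axes with anticommutator two. -/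
theorem quat_of_pair {X Y : Module.End ℚ M} (hX : X * X = (-3 : ℚ) • 1) (hY : Y * Y = (-3 : ℚ) • 1)
    (hYX : Y * X = (2 : ℚ) • 1 - X * Y) (e1 e2 e3 : Module.End ℚ M)
    (h1 : e1 = (1 / 2 : ℚ) • (X + Y)) (h2 : e2 = (1 / 4 : ℚ) • (X * Y - 1 + X - Y))
    (h3 : e3 = (1 / 4 : ℚ) • (X - Y - X * Y + 1)) :
    e1 * e1 = -1 ∧ e2 * e2 = -1 ∧ e3 * e3 = -1 ∧ e1 * e2 = e3 ∧ e2 * e3 = e1 ∧ e3 * e1 = e2 := by
  have tX : ∀ x, X * (X * x) = (-3 : ℚ) • x := fun x => by rw [← mul_assoc, hX, smul_mul_assoc, one_mul]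
  have tY : ∀ x, Y * (Y * x) = (-3 : ℚ) • x := fun x => by rw [← mul_assoc, hY, smul_mul_assoc, one_mul]
  have tYX : ∀ x, Y * (X * x) = (2 : ℚ) • x - X * (Y * x) := fun x => by
    rw [← mul_assoc, hYX, sub_mul, smul_mul_assoc, one_mul, mul_assoc]
  subst h1 h2 h3
  refine ⟨?_, ?_, ?_, ?_, ?_, ?_⟩ <;>
  · simp only [mul_add, add_mul, mul_sub, sub_mul, smul_add, smul_sub, smul_mul_assoc, mul_smul_comm,
      mul_one, one_mul, mul_assoc, hX, hY, hYX, tX, tY, tYX]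
    module

namespace Setting

variable (Z : Setting G M)

/-- A frame of quaternion units with its four axes. -/
structure Frame where
  g1 : G
  g2 : G
  g3 : G
  p1 : G
  p2 : G
  p3 : G
  p4 : G
  o1 : orderOf p1 = 3
  o2 : orderOf p2 = 3
  o3 : orderOf p3 = 3
  o4 : orderOf p4 = 3
  q11 : Z.ρ g1 * Z.ρ g1 = -1
  q22 : Z.ρ g2 * Z.ρ g2 = -1
  q33 : Z.ρ g3 * Z.ρ g3 = -1
  q12 : Z.ρ g1 * Z.ρ g2 = Z.ρ g3
  q23 : Z.ρ g2 * Z.ρ g3 = Z.ρ g1
  q31 : Z.ρ g3 * Z.ρ g1 = Z.ρ g2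
  u1 : Z.U p1 = vec (Z.ρ g1) (Z.ρ g2) (Z.ρ g3) 1 1 1
  u2 : Z.U p2 = vec (Z.ρ g1) (Z.ρ g2) (Z.ρ g3) 1 (-1) (-1)
  u3 : Z.U p3 = vec (Z.ρ g1) (Z.ρ g2) (Z.ρ g3) (-1) 1 (-1)
  u4 : Z.U p4 = vec (Z.ρ g1) (Z.ρ g2) (Z.ρ g3) (-1) (-1) 1

variable {Z} (F : Frame Z)

namespace Frame

/-- The cyclically relabelled frame. -/
def cycle : Frame Z where
  g1 := F.g2
  g2 := F.g3
  g3 := F.g1
  p1 := F.p1
  p2 := F.p3
  p3 := F.p4
  p4 := F.p2
  o1 := F.o1
  o2 := F.o3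
  o3 := F.o4
  o4 := F.o2
  q11 := F.q22
  q22 := F.q33
  q33 := F.q11
  q12 := F.q23
  q23 := F.q31
  q31 := F.q12
  u1 := by rw [F.u1]; simp only [vec]; module
  u2 := by rw [F.u3]; simp only [vec]; module
  u3 := by rw [F.u4]; simp only [vec]; module
  u4 := by rw [F.u2]; simp only [vec]; module

/-- The three units. -/
abbrev e1 : Module.End ℚ M := Z.ρ F.g1
/-- The three units. -/
abbrev e2 : Module.End ℚ M := Z.ρ F.g2
/-- The three units. -/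
abbrev e3 : Module.End ℚ M := Z.ρ F.g3

theorem q21 : F.e2 * F.e1 = -F.e3 := by
  show Z.ρ F.g2 * Z.ρ F.g1 = -Z.ρ F.g3
  conv_lhs => rw [← F.q23, ← mul_assoc, F.q22, neg_one_mul]

theorem q32 : F.e3 * F.e2 = -F.e1 := by
  show Z.ρ F.g3 * Z.ρ F.g2 = -Z.ρ F.g1
  conv_lhs => rw [← F.q31, ← mul_assoc, F.q33, neg_one_mul]

theorem q13 : F.e1 * F.e3 = -F.e2 := by
  show Z.ρ F.g1 * Z.ρ F.g3 = -Z.ρ F.g2
  conv_lhs => rw [← F.q12, ← mul_assoc, F.q11, neg_one_mul]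

theorem t11 (x : Module.End ℚ M) : F.e1 * (F.e1 * x) = -x := by rw [← mul_assoc, F.q11, neg_one_mul]
theorem t22 (x : Module.End ℚ M) : F.e2 * (F.e2 * x) = -x := by rw [← mul_assoc, F.q22, neg_one_mul]
theorem t33 (x : Module.End ℚ M) : F.e3 * (F.e3 * x) = -x := by rw [← mul_assoc, F.q33, neg_one_mul]
theorem t12 (x : Module.End ℚ M) : F.e1 * (F.e2 * x) = F.e3 * x := by rw [← mul_assoc, F.q12]
theorem t23 (x : Module.End ℚ M) : F.e2 * (F.e3 * x) = F.e1 * x := by rw [← mul_assoc, F.q23]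
theorem t31 (x : Module.End ℚ M) : F.e3 * (F.e1 * x) = F.e2 * x := by rw [← mul_assoc, F.q31]
theorem t21 (x : Module.End ℚ M) : F.e2 * (F.e1 * x) = -(F.e3 * x) := by rw [← mul_assoc, F.q21, neg_mul]
theorem t32 (x : Module.End ℚ M) : F.e3 * (F.e2 * x) = -(F.e1 * x) := by rw [← mul_assoc, F.q32, neg_mul]
theorem t13 (x : Module.End ℚ M) : F.e1 * (F.e3 * x) = -(F.e2 * x) := by rw [← mul_assoc, F.q13, neg_mul]

theorem inv1 : Z.ρ F.g1⁻¹ = -F.e1 := by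
  have h : Z.ρ F.g1⁻¹ * Z.ρ F.g1 = 1 := by rw [← map_mul, inv_mul_cancel, map_one]
  calc Z.ρ F.g1⁻¹ = Z.ρ F.g1⁻¹ * -(Z.ρ F.g1 * Z.ρ F.g1) := by rw [F.q11, neg_neg, mul_one]
    _ = -F.e1 := by rw [mul_neg, ← mul_assoc, h, one_mul]

theorem inv2 : Z.ρ F.g2⁻¹ = -F.e2 := F.cycle.inv1

theorem inv3 : Z.ρ F.g3⁻¹ = -F.e3 := F.cycle.cycle.inv1

/-- Operators commuting with the three units. -/
structure Cen (x : Module.End ℚ M) : Prop where
  c1 : x * F.e1 = F.e1 * x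
  c2 : x * F.e2 = F.e2 * x
  c3 : x * F.e3 = F.e3 * x

variable {F} in
theorem Cen.s1 {x : Module.End ℚ M} (h : F.Cen x) (y : Module.End ℚ M) :
    x * (F.e1 * y) = F.e1 * (x * y) := by rw [← mul_assoc, h.c1, mul_assoc]

variable {F} in
theorem Cen.s2 {x : Module.End ℚ M} (h : F.Cen x) (y : Module.End ℚ M) :
    x * (F.e2 * y) = F.e2 * (x * y) := by rw [← mul_assoc, h.c2, mul_assoc]

variable {F} in
theorem Cen.s3 {x : Module.End ℚ M} (h : F.Cen x) (y : Module.End ℚ M) :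
    x * (F.e3 * y) = F.e3 * (x * y) := by rw [← mul_assoc, h.c3, mul_assoc]

variable {F} in
theorem Cen.mul {x y : Module.End ℚ M} (hx : F.Cen x) (hy : F.Cen y) : F.Cen (x * y) :=
  ⟨by rw [mul_assoc, hy.c1, hx.s1], by rw [mul_assoc, hy.c2, hx.s2], by rw [mul_assoc, hy.c3, hx.s3]⟩

variable {F} in
theorem Cen.add {x y : Module.End ℚ M} (hx : F.Cen x) (hy : F.Cen y) : F.Cen (x + y) :=
  ⟨by rw [add_mul, mul_add, hx.c1, hy.c1], by rw [add_mul, mul_add, hx.c2, hy.c2],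
    by rw [add_mul, mul_add, hx.c3, hy.c3]⟩

variable {F} in
theorem Cen.sub {x y : Module.End ℚ M} (hx : F.Cen x) (hy : F.Cen y) : F.Cen (x - y) :=
  ⟨by rw [sub_mul, mul_sub, hx.c1, hy.c1], by rw [sub_mul, mul_sub, hx.c2, hy.c2],
    by rw [sub_mul, mul_sub, hx.c3, hy.c3]⟩

variable {F} in
theorem Cen.smul {x : Module.End ℚ M} (r : ℚ) (hx : F.Cen x) : F.Cen (r • x) :=
  ⟨by rw [smul_mul_assoc, mul_smul_comm, hx.c1], by rw [smul_mul_assoc, mul_smul_comm, hx.c2],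
    by rw [smul_mul_assoc, mul_smul_comm, hx.c3]⟩

theorem cen_one : F.Cen 1 := ⟨by simp, by simp, by simp⟩

theorem cen_zero : F.Cen 0 := ⟨by simp, by simp, by simp⟩

/-- Projection to the centraliser of the units. -/
noncomputable def proj (Y : Module.End ℚ M) : Module.End ℚ M :=
  (1 / 4 : ℚ) • (Y - F.e1 * (Y * F.e1) - F.e2 * (Y * F.e2) - F.e3 * (Y * F.e3))

theorem cen_proj (Y : Module.End ℚ M) : F.Cen (F.proj Y) := by
  refine ⟨?_, ?_, ?_⟩ <;>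
  · simp only [proj, mul_sub, sub_mul, smul_sub, smul_mul_assoc, mul_smul_comm, mul_assoc, F.q11, F.q22,
      F.q33, F.q12, F.q23, F.q31, F.q21, F.q32, F.q13, F.t11, F.t22, F.t33, F.t12, F.t23, F.t31, F.t21,
      F.t32, F.t13, mul_neg, neg_mul, mul_one]
    module

theorem proj_mul_comm1 (Y : Module.End ℚ M) : F.proj (Y * F.e1) = F.proj (F.e1 * Y) := by
  simp only [proj, mul_sub, sub_mul, smul_sub, smul_mul_assoc, mul_smul_comm, mul_assoc, F.q11, F.q22,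
    F.q33, F.q12, F.q23, F.q31, F.q21, F.q32, F.q13, F.t11, F.t22, F.t33, F.t12, F.t23, F.t31, F.t21,
    F.t32, F.t13, mul_neg, neg_mul, mul_one]
  module

theorem proj_cycle (Y : Module.End ℚ M) : F.cycle.proj Y = F.proj Y := by
  simp only [proj, cycle, e1, e2, e3]
  module

theorem proj_mul_comm2 (Y : Module.End ℚ M) : F.proj (Y * F.e2) = F.proj (F.e2 * Y) := by
  rw [← F.proj_cycle, ← F.proj_cycle]
  exact F.cycle.proj_mul_comm1 Y

theorem proj_mul_comm3 (Y : Module.End ℚ M) : F.proj (Y * F.e3) = F.proj (F.e3 * Y) := by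
  rw [← F.proj_cycle, ← F.proj_cycle, ← F.cycle.proj_cycle, ← F.cycle.proj_cycle]
  exact F.cycle.cycle.proj_mul_comm1 Y

/-- Combination with given coordinates. -/
def comb (x0 x1 x2 x3 : Module.End ℚ M) : Module.End ℚ M := x0 + F.e1 * x1 + F.e2 * x2 + F.e3 * x3

/-- Every operator is a combination. -/
theorem comb_proj (Y : Module.End ℚ M) :
    F.comb (F.proj Y) (-F.proj (F.e1 * Y)) (-F.proj (F.e2 * Y)) (-F.proj (F.e3 * Y)) = Y := by
  simp only [comb, proj, mul_sub, sub_mul, smul_sub, smul_mul_assoc, mul_smul_comm, mul_assoc, F.q11,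
    F.q22, F.q33, F.q12, F.q23, F.q31, F.q21, F.q32, F.q13, F.t11, F.t22, F.t33, F.t12, F.t23, F.t31,
    F.t21, F.t32, F.t13, mul_neg, neg_mul, mul_one, neg_sub]
  module

variable {F} in
/-- Coordinates are unique. -/
theorem comb_eq_zero {a0 a1 a2 a3 : Module.End ℚ M} (h0 : F.Cen a0) (h1 : F.Cen a1) (h2 : F.Cen a2)
    (h3 : F.Cen a3) (h : F.comb a0 a1 a2 a3 = 0) : a0 = 0 ∧ a1 = 0 ∧ a2 = 0 ∧ a3 = 0 := by
  have key : ∀ Y, Y = F.comb a0 a1 a2 a3 → F.proj Y = a0 ∧ F.proj (F.e1 * Y) = -a1 ∧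
      F.proj (F.e2 * Y) = -a2 ∧ F.proj (F.e3 * Y) = -a3 := by
    rintro Y rfl
    refine ⟨?_, ?_, ?_, ?_⟩ <;>
    · simp only [comb, proj, mul_add, add_mul, mul_sub, sub_mul, smul_add, smul_sub, smul_mul_assoc,
        mul_smul_comm, mul_assoc, F.q11, F.q22, F.q33, F.q12, F.q23, F.q31, F.q21, F.q32, F.q13, F.t11,
        F.t22, F.t33, F.t12, F.t23, F.t31, F.t21, F.t32, F.t13, mul_neg, neg_mul, mul_one, h0.c1, h0.c2,
        h0.c3, h1.c1, h1.c2, h1.c3, h2.c1, h2.c2, h2.c3, h3.c1, h3.c2, h3.c3]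
      module
  obtain ⟨k0, k1, k2, k3⟩ := key 0 h.symm
  simp only [mul_zero] at k1 k2 k3
  have hz : F.proj 0 = 0 := by simp [proj]
  rw [hz] at k0 k1 k2 k3
  exact ⟨k0.symm, neg_eq_zero.mp k1.symm, neg_eq_zero.mp k2.symm, neg_eq_zero.mp k3.symm⟩

variable {F} in
theorem comb_inj {a0 a1 a2 a3 b0 b1 b2 b3 : Module.End ℚ M} (h0 : F.Cen a0) (h1 : F.Cen a1)
    (h2 : F.Cen a2) (h3 : F.Cen a3) (k0 : F.Cen b0) (k1 : F.Cen b1) (k2 : F.Cen b2) (k3 : F.Cen b3)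
    (h : F.comb a0 a1 a2 a3 = F.comb b0 b1 b2 b3) : a0 = b0 ∧ a1 = b1 ∧ a2 = b2 ∧ a3 = b3 := by
  obtain ⟨r0, r1, r2, r3⟩ := comb_eq_zero (h0.sub k0) (h1.sub k1) (h2.sub k2) (h3.sub k3) (by
    rw [show F.comb (a0 - b0) (a1 - b1) (a2 - b2) (a3 - b3) =
      F.comb a0 a1 a2 a3 - F.comb b0 b1 b2 b3 by simp only [comb, mul_sub]; abel, h, sub_self])
  exact ⟨sub_eq_zero.mp r0, sub_eq_zero.mp r1, sub_eq_zero.mp r2, sub_eq_zero.mp r3⟩

variable {F} in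
theorem comb_mul {a0 a1 a2 a3 b0 b1 b2 b3 : Module.End ℚ M} (h0 : F.Cen a0) (h1 : F.Cen a1)
    (h2 : F.Cen a2) (h3 : F.Cen a3) :
    F.comb a0 a1 a2 a3 * F.comb b0 b1 b2 b3 =
      F.comb (a0 * b0 - a1 * b1 - a2 * b2 - a3 * b3) (a0 * b1 + a1 * b0 + a2 * b3 - a3 * b2)
        (a0 * b2 + a2 * b0 + a3 * b1 - a1 * b3) (a0 * b3 + a3 * b0 + a1 * b2 - a2 * b1) := by
  simp only [comb, mul_add, add_mul, mul_sub, sub_mul, mul_assoc, h0.s1, h0.s2, h0.s3, h1.s1, h1.s2,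
    h1.s3, h2.s1, h2.s2, h2.s3, h3.s1, h3.s2, h3.s3, F.t11, F.t22, F.t33, F.t12, F.t23, F.t31, F.t21,
    F.t32, F.t13, mul_neg, neg_mul]
  module

theorem vec_eq (s1 s2 s3 : ℚ) :
    vec F.e1 F.e2 F.e3 s1 s2 s3 = F.comb 0 (s1 • 1) (s2 • 1) (s3 • 1) := by
  simp [vec, comb]

/-! Adjoints of the projection. -/

theorem adj1 (u v : M) : Z.form (F.e1 u) v = -Z.form u (F.e1 v) := by
  have h := Z.adjoint F.g1 u v
  rw [F.inv1, LinearMap.neg_apply, map_neg] at h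
  exact h

theorem adj2 (u v : M) : Z.form (F.e2 u) v = -Z.form u (F.e2 v) := F.cycle.adj1 u v

theorem adj3 (u v : M) : Z.form (F.e3 u) v = -Z.form u (F.e3 v) := F.cycle.cycle.adj1 u v

theorem adjoint_proj {Y Y' : Module.End ℚ M} (h : ∀ u v, Z.form (Y u) v = Z.form u (Y' v)) (u v : M) :
    Z.form (F.proj Y u) v = Z.form u (F.proj Y' v) := by
  simp only [proj, LinearMap.smul_apply, LinearMap.sub_apply, Module.End.mul_apply, map_smul, map_sub,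
    F.adj1, F.adj2, F.adj3, h, smul_eq_mul, map_neg]
  simp only [neg_neg]

theorem skew_proj {X : Module.End ℚ M} (hX : Z.Skew X) : Z.Skew (F.proj X) := by
  intro u v
  have h := F.adjoint_proj (Y := X) (Y' := -X) (fun u v => by rw [hX u v, LinearMap.neg_apply, map_neg]) u v
  rw [h]
  simp [proj]
  ring

theorem symm_coord1 {X : Module.End ℚ M} (hX : Z.Skew X) : Z.Symm (-F.proj (F.e1 * X)) := by
  intro u v
  have h := F.adjoint_proj (Y := F.e1 * X) (Y' := X * F.e1) (fun u v => by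
    rw [Module.End.mul_apply, F.adj1, hX, neg_neg, Module.End.mul_apply]) u v
  rw [F.proj_mul_comm1] at h
  simp only [LinearMap.neg_apply, map_neg]
  rw [h]

theorem symm_coord2 {X : Module.End ℚ M} (hX : Z.Skew X) : Z.Symm (-F.proj (F.e2 * X)) := by
  have h := F.cycle.symm_coord1 hX
  rwa [F.proj_cycle] at h

theorem symm_coord3 {X : Module.End ℚ M} (hX : Z.Skew X) : Z.Symm (-F.proj (F.e3 * X)) := by
  have h := F.cycle.cycle.symm_coord1 hX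
  rwa [F.cycle.proj_cycle, F.proj_cycle] at h

/-- Coordinates of an axis. -/
structure Coord (c : G) (x0 x1 x2 x3 : Module.End ℚ M) : Prop where
  ord : orderOf c = 3
  eq : Z.U c = F.comb x0 x1 x2 x3
  c0 : F.Cen x0
  c1 : F.Cen x1
  c2 : F.Cen x2
  c3 : F.Cen x3
  k0 : Z.Skew x0
  k1 : Z.Symm x1
  k2 : Z.Symm x2
  k3 : Z.Symm x3

theorem exists_coord {c : G} (hc : orderOf c = 3) : ∃ x0 x1 x2 x3, F.Coord c x0 x1 x2 x3 :=
  ⟨_, _, _, _, hc, (F.comb_proj (Z.U c)).symm, F.cen_proj _,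
    ⟨by rw [neg_mul, mul_neg, (F.cen_proj _).c1], by rw [neg_mul, mul_neg, (F.cen_proj _).c2],
      by rw [neg_mul, mul_neg, (F.cen_proj _).c3]⟩,
    ⟨by rw [neg_mul, mul_neg, (F.cen_proj _).c1], by rw [neg_mul, mul_neg, (F.cen_proj _).c2],
      by rw [neg_mul, mul_neg, (F.cen_proj _).c3]⟩,
    ⟨by rw [neg_mul, mul_neg, (F.cen_proj _).c1], by rw [neg_mul, mul_neg, (F.cen_proj _).c2],
      by rw [neg_mul, mul_neg, (F.cen_proj _).c3]⟩,
    F.skew_proj (Z.U_skew hc), F.symm_coord1 (Z.U_skew hc), F.symm_coord2 (Z.U_skew hc),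
    F.symm_coord3 (Z.U_skew hc)⟩

end Frame

/-- A frame from two axes with anticommutator one. -/
theorem exists_frame {a b : G} (ha : orderOf a = 3) (hb : orderOf b = 3)
    (hQ : Z.Q a b = (1 : ℚ) • 1) :
    ∃ F : Frame Z, F.p1 = a ∧ F.p2 = b ∧ F.p3 = a⁻¹ * b * a ∧ F.p4 = a * b * a⁻¹ ∧
      F.g2 = b * a⁻¹ ∧ F.g1 = a * (b * a⁻¹) * a⁻¹ ∧ F.g3 = a⁻¹ * (b * a⁻¹) * a := by
  set X := Z.U a with hX
  set Y := Z.U b with hY
  have hXX : X * X = (-3 : ℚ) • 1 := Z.U_sq ha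
  have hYY : Y * Y = (-3 : ℚ) • 1 := Z.U_sq hb
  have hYX : Y * X = (2 : ℚ) • 1 - X * Y := by
    have h : (1 / 2 : ℚ) • (X * Y + Y * X) = (1 : ℚ) • 1 := hQ
    linear_combination (norm := module) (2 : ℚ) • h
  have ra : Z.ρ a = (1 / 2 : ℚ) • (X - 1) := by rw [hX, U]; module
  have rb : Z.ρ b = (1 / 2 : ℚ) • (Y - 1) := by rw [hY, U]; module
  have ra' : Z.ρ a⁻¹ = (1 / 2 : ℚ) • (-X - 1) := by rw [Z.rho_inv ha, ra]; module
  have tX : ∀ x, X * (X * x) = (-3 : ℚ) • x := fun x => by rw [← mul_assoc, hXX, smul_mul_assoc, one_mul]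
  have tY : ∀ x, Y * (Y * x) = (-3 : ℚ) • x := fun x => by rw [← mul_assoc, hYY, smul_mul_assoc, one_mul]
  have tYX : ∀ x, Y * (X * x) = (2 : ℚ) • x - X * (Y * x) := fun x => by
    rw [← mul_assoc, hYX, sub_mul, smul_mul_assoc, one_mul, mul_assoc]
  have h2 : Z.ρ (b * a⁻¹) = (1 / 4 : ℚ) • (X * Y - 1 + X - Y) := by
    simp only [map_mul, rb, ra', mul_sub, sub_mul, neg_mul, mul_neg, smul_sub, smul_mul_assoc,
      mul_smul_comm, mul_one, one_mul, mul_assoc, hYX]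
    module
  have h1 : Z.ρ (a * (b * a⁻¹) * a⁻¹) = (1 / 2 : ℚ) • (X + Y) := by
    rw [map_mul, map_mul, h2, ra, ra']
    simp only [mul_add, add_mul, mul_sub, sub_mul, neg_mul, mul_neg, smul_add, smul_sub, smul_mul_assoc,
      mul_smul_comm, mul_one, one_mul, mul_assoc, hXX, hYY, hYX, tX, tY, tYX]
    module
  have h3 : Z.ρ (a⁻¹ * (b * a⁻¹) * a) = (1 / 4 : ℚ) • (X - Y - X * Y + 1) := by
    rw [map_mul, map_mul, h2, ra, ra']
    simp only [mul_add, add_mul, mul_sub, sub_mul, neg_mul, mul_neg, smul_add, smul_sub, smul_mul_assoc,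
      mul_smul_comm, mul_one, one_mul, mul_assoc, hXX, hYY, hYX, tX, tY, tYX]
    module
  obtain ⟨r11, r22, r33, r12, r23, r31⟩ := quat_of_pair hXX hYY hYX _ _ _ h1 h2 h3
  refine ⟨{
    g1 := a * (b * a⁻¹) * a⁻¹, g2 := b * a⁻¹, g3 := a⁻¹ * (b * a⁻¹) * a,
    p1 := a, p2 := b, p3 := a⁻¹ * b * a, p4 := a * b * a⁻¹,
    o1 := ha, o2 := hb,
    o3 := by
      have := orderOf_conj' a⁻¹ b
      rw [inv_inv] at this
      rw [this, hb]
    o4 := by rw [orderOf_conj' a b, hb]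
    q11 := r11, q22 := r22, q33 := r33, q12 := r12, q23 := r23, q31 := r31,
    u1 := by rw [h1, h2, h3, ← hX]; simp only [vec]; module
    u2 := by rw [h1, h2, h3, ← hY]; simp only [vec]; module
    u3 := by
      rw [h1, h2, h3]
      have := Z.U_conj a⁻¹ b
      rw [inv_inv] at this
      rw [this, ← hY, ra, ra']
      simp only [vec, mul_add, add_mul, mul_sub, sub_mul, neg_mul, mul_neg, smul_add, smul_sub,
        smul_mul_assoc, mul_smul_comm, mul_one, one_mul, mul_assoc, hXX, hYY, hYX, tX, tY, tYX]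
      module
    u4 := by
      rw [h1, h2, h3, Z.U_conj, ← hY, ra, ra']
      simp only [vec, mul_add, add_mul, mul_sub, sub_mul, neg_mul, mul_neg, smul_add, smul_sub,
        smul_mul_assoc, mul_smul_comm, mul_one, one_mul, mul_assoc, hXX, hYY, hYX, tX, tY, tYX]
      module }, rfl, rfl, rfl, rfl, rfl, rfl, rfl⟩

end Setting

end Cfsg.Agent.FPF25
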