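import Mathlib

/-!
Data for the binary icosahedral group: the 120 quaternions over `ℤ[√5]` (scaled by four), their
images in `SL(2, 5)`, and the right multiplication table by three generators.
-/

set_option autoImplicit false

namespace Cfsg.Agent.FPF25.Icos

/-- A quaternion over `ℤ[√5]`. -/
structure Co where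
  w : ℤ√5
  x : ℤ√5
  y : ℤ√5
  z : ℤ√5
deriving DecidableEq

/-- The quaternion product. -/
def mulCo (p q : Co) : Co :=
  ⟨p.w * q.w - p.x * q.x - p.y * q.y - p.z * q.z, p.w * q.x + p.x * q.w + p.y * q.z - p.z * q.y,
    p.w * q.y + p.y * q.w + p.z * q.x - p.x * q.z, p.w * q.z + p.z * q.w + p.x * q.y - p.y * q.x⟩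

/-- Scaling by four. -/
def four (p : Co) : Co := ⟨4 * p.w, 4 * p.x, 4 * p.y, 4 * p.z⟩

/-- Entries of a two by two matrix over `ZMod 5`. -/
abbrev Ent : Type := ZMod 5 × ZMod 5 × ZMod 5 × ZMod 5

/-- The matrix product. -/
def mulEnt (p q : Ent) : Ent :=
  (p.1 * q.1 + p.2.1 * q.2.2.1, p.1 * q.2.1 + p.2.1 * q.2.2.2,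
    p.2.2.1 * q.1 + p.2.2.2 * q.2.2.1, p.2.2.1 * q.2.1 + p.2.2.2 * q.2.2.2)

/-- The determinant. -/
def detEnt (p : Ent) : ZMod 5 := p.1 * p.2.2.2 - p.2.1 * p.2.2.1

/-- The scaled quaternions. -/
def qList : Array Co := #[
    ⟨⟨4, 0⟩, ⟨0, 0⟩, ⟨0, 0⟩, ⟨0, 0⟩⟩, ⟨⟨-2, 0⟩, ⟨2, 0⟩, ⟨2, 0⟩, ⟨2, 0⟩⟩,
    ⟨⟨-2, 0⟩, ⟨2, 0⟩, ⟨-2, 0⟩, ⟨-2, 0⟩⟩, ⟨⟨-2, 0⟩, ⟨0, 0⟩, ⟨1, 1⟩, ⟨1, -1⟩⟩,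
    ⟨⟨-2, 0⟩, ⟨-2, 0⟩, ⟨-2, 0⟩, ⟨-2, 0⟩⟩, ⟨⟨2, 0⟩, ⟨-2, 0⟩, ⟨2, 0⟩, ⟨-2, 0⟩⟩,
    ⟨⟨0, 0⟩, ⟨-1, -1⟩, ⟨-2, 0⟩, ⟨-1, 1⟩⟩, ⟨⟨2, 0⟩, ⟨-2, 0⟩, ⟨-2, 0⟩, ⟨2, 0⟩⟩,
    ⟨⟨-2, 0⟩, ⟨-2, 0⟩, ⟨2, 0⟩, ⟨2, 0⟩⟩, ⟨⟨2, 0⟩, ⟨-1, 1⟩, ⟨0, 0⟩, ⟨1, 1⟩⟩,
    ⟨⟨0, 0⟩, ⟨-1, 1⟩, ⟨-1, -1⟩, ⟨-2, 0⟩⟩, ⟨⟨2, 0⟩, ⟨-1, -1⟩, ⟨1, -1⟩, ⟨0, 0⟩⟩,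
    ⟨⟨-2, 0⟩, ⟨0, 0⟩, ⟨-1, -1⟩, ⟨-1, 1⟩⟩, ⟨⟨0, 0⟩, ⟨0, 0⟩, ⟨0, 0⟩, ⟨4, 0⟩⟩,
    ⟨⟨2, 0⟩, ⟨1, 1⟩, ⟨1, -1⟩, ⟨0, 0⟩⟩, ⟨⟨0, 0⟩, ⟨4, 0⟩, ⟨0, 0⟩, ⟨0, 0⟩⟩,
    ⟨⟨0, 0⟩, ⟨0, 0⟩, ⟨-4, 0⟩, ⟨0, 0⟩⟩, ⟨⟨-1, -1⟩, ⟨2, 0⟩, ⟨0, 0⟩, ⟨1, -1⟩⟩,
    ⟨⟨2, 0⟩, ⟨0, 0⟩, ⟨1, 1⟩, ⟨1, -1⟩⟩, ⟨⟨-1, 1⟩, ⟨1, 1⟩, ⟨0, 0⟩, ⟨2, 0⟩⟩,
    ⟨⟨2, 0⟩, ⟨-1, 1⟩, ⟨0, 0⟩, ⟨-1, -1⟩⟩, ⟨⟨0, 0⟩, ⟨0, 0⟩, ⟨4, 0⟩, ⟨0, 0⟩⟩,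
    ⟨⟨-1, 1⟩, ⟨0, 0⟩, ⟨2, 0⟩, ⟨-1, -1⟩⟩, ⟨⟨0, 0⟩, ⟨0, 0⟩, ⟨0, 0⟩, ⟨-4, 0⟩⟩,
    ⟨⟨0, 0⟩, ⟨1, -1⟩, ⟨-1, -1⟩, ⟨-2, 0⟩⟩, ⟨⟨-1, -1⟩, ⟨1, -1⟩, ⟨2, 0⟩, ⟨0, 0⟩⟩,
    ⟨⟨0, 0⟩, ⟨2, 0⟩, ⟨-1, 1⟩, ⟨-1, -1⟩⟩, ⟨⟨0, 0⟩, ⟨-1, -1⟩, ⟨2, 0⟩, ⟨1, -1⟩⟩,
    ⟨⟨2, 0⟩, ⟨1, -1⟩, ⟨0, 0⟩, ⟨1, 1⟩⟩, ⟨⟨-1, -1⟩, ⟨0, 0⟩, ⟨-1, 1⟩, ⟨2, 0⟩⟩,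
    ⟨⟨2, 0⟩, ⟨2, 0⟩, ⟨2, 0⟩, ⟨2, 0⟩⟩, ⟨⟨-1, 1⟩, ⟨2, 0⟩, ⟨1, 1⟩, ⟨0, 0⟩⟩,
    ⟨⟨0, 0⟩, ⟨1, 1⟩, ⟨-2, 0⟩, ⟨-1, 1⟩⟩, ⟨⟨2, 0⟩, ⟨-1, -1⟩, ⟨-1, 1⟩, ⟨0, 0⟩⟩,
    ⟨⟨0, 0⟩, ⟨-1, 1⟩, ⟨1, 1⟩, ⟨2, 0⟩⟩, ⟨⟨-2, 0⟩, ⟨-2, 0⟩, ⟨2, 0⟩, ⟨-2, 0⟩⟩,
    ⟨⟨2, 0⟩, ⟨2, 0⟩, ⟨2, 0⟩, ⟨-2, 0⟩⟩, ⟨⟨-1, 1⟩, ⟨-1, -1⟩, ⟨0, 0⟩, ⟨-2, 0⟩⟩,
    ⟨⟨-2, 0⟩, ⟨1, -1⟩, ⟨0, 0⟩, ⟨1, 1⟩⟩, ⟨⟨-1, -1⟩, ⟨0, 0⟩, ⟨-1, 1⟩, ⟨-2, 0⟩⟩,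
    ⟨⟨0, 0⟩, ⟨1, -1⟩, ⟨1, 1⟩, ⟨2, 0⟩⟩, ⟨⟨-2, 0⟩, ⟨-2, 0⟩, ⟨-2, 0⟩, ⟨2, 0⟩⟩,
    ⟨⟨0, 0⟩, ⟨-2, 0⟩, ⟨-1, 1⟩, ⟨1, 1⟩⟩, ⟨⟨2, 0⟩, ⟨-2, 0⟩, ⟨2, 0⟩, ⟨2, 0⟩⟩,
    ⟨⟨1, 1⟩, ⟨-1, 1⟩, ⟨2, 0⟩, ⟨0, 0⟩⟩, ⟨⟨-1, 1⟩, ⟨-2, 0⟩, ⟨-1, -1⟩, ⟨0, 0⟩⟩,
    ⟨⟨0, 0⟩, ⟨-1, -1⟩, ⟨2, 0⟩, ⟨-1, 1⟩⟩, ⟨⟨-1, 1⟩, ⟨0, 0⟩, ⟨-2, 0⟩, ⟨1, 1⟩⟩,
    ⟨⟨-2, 0⟩, ⟨1, 1⟩, ⟨1, -1⟩, ⟨0, 0⟩⟩, ⟨⟨-4, 0⟩, ⟨0, 0⟩, ⟨0, 0⟩, ⟨0, 0⟩⟩,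
    ⟨⟨-1, -1⟩, ⟨-2, 0⟩, ⟨0, 0⟩, ⟨-1, 1⟩⟩, ⟨⟨1, -1⟩, ⟨0, 0⟩, ⟨2, 0⟩, ⟨-1, -1⟩⟩,
    ⟨⟨0, 0⟩, ⟨2, 0⟩, ⟨1, -1⟩, ⟨1, 1⟩⟩, ⟨⟨-1, -1⟩, ⟨1, -1⟩, ⟨-2, 0⟩, ⟨0, 0⟩⟩,
    ⟨⟨2, 0⟩, ⟨-2, 0⟩, ⟨-2, 0⟩, ⟨-2, 0⟩⟩, ⟨⟨1, -1⟩, ⟨-2, 0⟩, ⟨-1, -1⟩, ⟨0, 0⟩⟩,
    ⟨⟨-1, -1⟩, ⟨2, 0⟩, ⟨0, 0⟩, ⟨-1, 1⟩⟩, ⟨⟨2, 0⟩, ⟨2, 0⟩, ⟨-2, 0⟩, ⟨2, 0⟩⟩,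
    ⟨⟨1, -1⟩, ⟨1, 1⟩, ⟨0, 0⟩, ⟨2, 0⟩⟩, ⟨⟨1, 1⟩, ⟨0, 0⟩, ⟨-1, 1⟩, ⟨2, 0⟩⟩,
    ⟨⟨-2, 0⟩, ⟨-1, 1⟩, ⟨0, 0⟩, ⟨1, 1⟩⟩, ⟨⟨2, 0⟩, ⟨1, 1⟩, ⟨-1, 1⟩, ⟨0, 0⟩⟩,
    ⟨⟨-1, 1⟩, ⟨0, 0⟩, ⟨-2, 0⟩, ⟨-1, -1⟩⟩, ⟨⟨1, 1⟩, ⟨-2, 0⟩, ⟨0, 0⟩, ⟨-1, 1⟩⟩,
    ⟨⟨0, 0⟩, ⟨-1, 1⟩, ⟨-1, -1⟩, ⟨2, 0⟩⟩, ⟨⟨-2, 0⟩, ⟨-1, -1⟩, ⟨1, -1⟩, ⟨0, 0⟩⟩,
    ⟨⟨-1, 1⟩, ⟨1, 1⟩, ⟨0, 0⟩, ⟨-2, 0⟩⟩, ⟨⟨2, 0⟩, ⟨0, 0⟩, ⟨-1, -1⟩, ⟨-1, 1⟩⟩,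
    ⟨⟨0, 0⟩, ⟨-2, 0⟩, ⟨-1, 1⟩, ⟨-1, -1⟩⟩, ⟨⟨0, 0⟩, ⟨-2, 0⟩, ⟨1, -1⟩, ⟨-1, -1⟩⟩,
    ⟨⟨1, 1⟩, ⟨1, -1⟩, ⟨2, 0⟩, ⟨0, 0⟩⟩, ⟨⟨-2, 0⟩, ⟨-1, -1⟩, ⟨-1, 1⟩, ⟨0, 0⟩⟩,
    ⟨⟨-1, -1⟩, ⟨-1, 1⟩, ⟨-2, 0⟩, ⟨0, 0⟩⟩, ⟨⟨1, -1⟩, ⟨-1, -1⟩, ⟨0, 0⟩, ⟨2, 0⟩⟩,
    ⟨⟨0, 0⟩, ⟨1, 1⟩, ⟨2, 0⟩, ⟨1, -1⟩⟩, ⟨⟨-1, 1⟩, ⟨2, 0⟩, ⟨-1, -1⟩, ⟨0, 0⟩⟩,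
    ⟨⟨-2, 0⟩, ⟨-1, 1⟩, ⟨0, 0⟩, ⟨-1, -1⟩⟩, ⟨⟨-1, -1⟩, ⟨0, 0⟩, ⟨1, -1⟩, ⟨-2, 0⟩⟩,
    ⟨⟨2, 0⟩, ⟨1, -1⟩, ⟨0, 0⟩, ⟨-1, -1⟩⟩, ⟨⟨2, 0⟩, ⟨2, 0⟩, ⟨-2, 0⟩, ⟨-2, 0⟩⟩,
    ⟨⟨1, -1⟩, ⟨2, 0⟩, ⟨-1, -1⟩, ⟨0, 0⟩⟩, ⟨⟨-2, 0⟩, ⟨2, 0⟩, ⟨-2, 0⟩, ⟨2, 0⟩⟩,
    ⟨⟨1, -1⟩, ⟨1, 1⟩, ⟨0, 0⟩, ⟨-2, 0⟩⟩, ⟨⟨2, 0⟩, ⟨0, 0⟩, ⟨-1, -1⟩, ⟨1, -1⟩⟩,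
    ⟨⟨-1, 1⟩, ⟨-1, -1⟩, ⟨0, 0⟩, ⟨2, 0⟩⟩, ⟨⟨1, 1⟩, ⟨0, 0⟩, ⟨1, -1⟩, ⟨-2, 0⟩⟩,
    ⟨⟨1, 1⟩, ⟨2, 0⟩, ⟨0, 0⟩, ⟨1, -1⟩⟩, ⟨⟨-2, 0⟩, ⟨2, 0⟩, ⟨2, 0⟩, ⟨-2, 0⟩⟩,
    ⟨⟨-2, 0⟩, ⟨1, -1⟩, ⟨0, 0⟩, ⟨-1, -1⟩⟩, ⟨⟨1, -1⟩, ⟨0, 0⟩, ⟨-2, 0⟩, ⟨-1, -1⟩⟩,
    ⟨⟨2, 0⟩, ⟨0, 0⟩, ⟨1, 1⟩, ⟨-1, 1⟩⟩, ⟨⟨1, 1⟩, ⟨-1, 1⟩, ⟨-2, 0⟩, ⟨0, 0⟩⟩,
    ⟨⟨1, -1⟩, ⟨-2, 0⟩, ⟨1, 1⟩, ⟨0, 0⟩⟩, ⟨⟨0, 0⟩, ⟨-1, 1⟩, ⟨1, 1⟩, ⟨-2, 0⟩⟩,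
    ⟨⟨1, 1⟩, ⟨-2, 0⟩, ⟨0, 0⟩, ⟨1, -1⟩⟩, ⟨⟨-1, 1⟩, ⟨0, 0⟩, ⟨2, 0⟩, ⟨1, 1⟩⟩,
    ⟨⟨0, 0⟩, ⟨2, 0⟩, ⟨-1, 1⟩, ⟨1, 1⟩⟩, ⟨⟨0, 0⟩, ⟨-1, -1⟩, ⟨-2, 0⟩, ⟨1, -1⟩⟩,
    ⟨⟨-1, 1⟩, ⟨-2, 0⟩, ⟨1, 1⟩, ⟨0, 0⟩⟩, ⟨⟨0, 0⟩, ⟨1, -1⟩, ⟨1, 1⟩, ⟨-2, 0⟩⟩,
    ⟨⟨-1, -1⟩, ⟨-1, 1⟩, ⟨2, 0⟩, ⟨0, 0⟩⟩, ⟨⟨0, 0⟩, ⟨2, 0⟩, ⟨1, -1⟩, ⟨-1, -1⟩⟩,
    ⟨⟨1, -1⟩, ⟨-1, -1⟩, ⟨0, 0⟩, ⟨-2, 0⟩⟩, ⟨⟨-1, -1⟩, ⟨0, 0⟩, ⟨1, -1⟩, ⟨2, 0⟩⟩,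
    ⟨⟨0, 0⟩, ⟨1, 1⟩, ⟨2, 0⟩, ⟨-1, 1⟩⟩, ⟨⟨1, -1⟩, ⟨2, 0⟩, ⟨1, 1⟩, ⟨0, 0⟩⟩,
    ⟨⟨0, 0⟩, ⟨1, 1⟩, ⟨-2, 0⟩, ⟨1, -1⟩⟩, ⟨⟨1, 1⟩, ⟨0, 0⟩, ⟨-1, 1⟩, ⟨-2, 0⟩⟩,
    ⟨⟨1, -1⟩, ⟨0, 0⟩, ⟨-2, 0⟩, ⟨1, 1⟩⟩, ⟨⟨-1, -1⟩, ⟨-2, 0⟩, ⟨0, 0⟩, ⟨1, -1⟩⟩,
    ⟨⟨1, -1⟩, ⟨0, 0⟩, ⟨2, 0⟩, ⟨1, 1⟩⟩, ⟨⟨-2, 0⟩, ⟨1, 1⟩, ⟨-1, 1⟩, ⟨0, 0⟩⟩,
    ⟨⟨0, 0⟩, ⟨1, -1⟩, ⟨-1, -1⟩, ⟨2, 0⟩⟩, ⟨⟨1, 1⟩, ⟨2, 0⟩, ⟨0, 0⟩, ⟨-1, 1⟩⟩,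
    ⟨⟨1, 1⟩, ⟨0, 0⟩, ⟨1, -1⟩, ⟨2, 0⟩⟩, ⟨⟨1, 1⟩, ⟨1, -1⟩, ⟨-2, 0⟩, ⟨0, 0⟩⟩,
    ⟨⟨-2, 0⟩, ⟨0, 0⟩, ⟨1, 1⟩, ⟨-1, 1⟩⟩, ⟨⟨0, 0⟩, ⟨-4, 0⟩, ⟨0, 0⟩, ⟨0, 0⟩⟩,
    ⟨⟨0, 0⟩, ⟨-2, 0⟩, ⟨1, -1⟩, ⟨1, 1⟩⟩, ⟨⟨-2, 0⟩, ⟨0, 0⟩, ⟨-1, -1⟩, ⟨1, -1⟩⟩]

/-- Their images. -/
def mList : Array Ent := #[
    (1, 0, 0, 1), (3, 4, 3, 1), (3, 1, 2, 1), (2, 2, 4, 2), (1, 1, 2, 3), (2, 2, 1, 4),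
    (2, 4, 0, 3), (2, 3, 4, 4), (1, 4, 3, 3), (0, 3, 3, 1), (2, 0, 3, 3), (0, 4, 1, 1),
    (2, 3, 1, 2), (0, 2, 2, 0), (1, 4, 1, 0), (2, 0, 0, 3), (0, 4, 1, 0), (2, 3, 3, 0),
    (3, 2, 4, 3), (4, 1, 1, 3), (0, 2, 2, 1), (0, 1, 4, 0), (1, 0, 4, 1), (0, 3, 3, 0),
    (3, 0, 3, 2), (4, 3, 2, 3), (1, 3, 1, 4), (2, 1, 0, 3), (1, 3, 3, 0), (1, 2, 0, 1),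
    (4, 4, 3, 2), (2, 4, 1, 0), (3, 4, 0, 2), (0, 1, 4, 1), (2, 0, 2, 3), (1, 2, 1, 3),
    (4, 2, 1, 2), (3, 4, 4, 4), (0, 3, 3, 4), (1, 0, 3, 1), (3, 0, 2, 2), (1, 3, 4, 3),
    (4, 4, 2, 1), (2, 4, 3, 4), (1, 3, 2, 2), (0, 1, 4, 2), (2, 0, 4, 3), (1, 0, 1, 1),
    (0, 4, 1, 4), (4, 0, 0, 4), (0, 2, 2, 2), (4, 0, 4, 4), (1, 2, 4, 4), (4, 2, 3, 3),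
    (2, 1, 2, 4), (3, 1, 4, 0), (2, 2, 2, 0), (4, 3, 4, 2), (2, 1, 1, 1), (4, 2, 0, 4),
    (4, 3, 3, 0), (1, 1, 4, 0), (1, 4, 0, 1), (3, 2, 2, 0), (2, 2, 0, 3), (4, 4, 1, 0),
    (4, 4, 4, 3), (3, 3, 1, 3), (4, 3, 1, 1), (4, 1, 3, 1), (2, 3, 2, 1), (4, 1, 4, 0),
    (3, 2, 3, 4), (1, 1, 1, 2), (3, 1, 0, 2), (2, 1, 4, 0), (4, 2, 2, 0), (1, 3, 0, 1),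
    (1, 2, 2, 0), (4, 1, 2, 2), (0, 1, 4, 3), (3, 3, 4, 1), (2, 4, 4, 1), (3, 4, 2, 3),
    (3, 1, 1, 4), (4, 3, 0, 4), (0, 3, 3, 3), (3, 2, 1, 1), (0, 2, 2, 4), (4, 4, 0, 4),
    (3, 1, 3, 3), (1, 2, 3, 2), (3, 4, 1, 0), (2, 3, 0, 3), (3, 3, 3, 0), (1, 1, 0, 1),
    (1, 4, 2, 4), (2, 0, 1, 3), (0, 4, 1, 2), (3, 3, 0, 2), (3, 3, 2, 4), (1, 1, 3, 4),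
    (1, 4, 4, 2), (1, 0, 2, 1), (3, 0, 4, 2), (0, 4, 1, 3), (3, 0, 1, 2), (4, 0, 3, 4),
    (4, 0, 1, 4), (0, 3, 3, 2), (4, 1, 0, 4), (0, 1, 4, 4), (3, 2, 0, 2), (0, 2, 2, 3),
    (4, 0, 2, 4), (2, 2, 3, 1), (2, 1, 3, 2), (3, 0, 0, 2), (4, 2, 4, 1), (2, 4, 2, 2)]

/-- Right multiplication by the generators. -/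
def nList : Array (Fin 120 × Fin 120 × Fin 120) := #[
    (1, 2, 3), (4, 5, 6), (7, 8, 9), (10, 11, 12), (0, 13, 14), (15, 16, 17),
    (18, 19, 20), (21, 15, 22), (23, 0, 24), (25, 26, 27), (28, 29, 30), (31, 32, 26),
    (33, 34, 0), (35, 36, 37), (38, 39, 40), (41, 35, 42), (43, 1, 44), (45, 46, 47),
    (48, 24, 49), (50, 51, 46), (52, 53, 1), (2, 54, 53), (32, 55, 56), (57, 41, 58),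
    (59, 60, 61), (62, 63, 16), (64, 65, 60), (66, 67, 2), (3, 66, 68), (69, 70, 45),
    (49, 23, 71), (72, 69, 50), (73, 3, 43), (74, 75, 76), (77, 78, 65), (79, 7, 80),
    (81, 4, 29), (61, 64, 82), (68, 44, 54), (83, 84, 64), (76, 85, 4), (5, 30, 85),
    (51, 86, 69), (87, 79, 88), (56, 89, 25), (90, 58, 36), (26, 91, 89), (92, 74, 5),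
    (6, 92, 28), (54, 43, 67), (78, 59, 83), (75, 6, 81), (71, 93, 33), (94, 95, 91),
    (30, 81, 74), (70, 96, 86), (97, 98, 7), (8, 87, 98), (65, 99, 84), (100, 101, 35),
    (102, 18, 11), (103, 88, 8), (9, 103, 104), (105, 106, 51), (46, 105, 70), (107, 9, 79),
    (108, 109, 110), (40, 111, 18), (14, 112, 48), (113, 108, 15), (111, 10, 39), (20, 114, 10),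
    (11, 40, 114), (22, 113, 62), (12, 102, 38), (42, 100, 90), (67, 73, 52), (115, 42, 57),
    (19, 12, 111), (13, 49, 34), (84, 116, 59), (117, 21, 63), (112, 71, 13), (95, 56, 31),
    (93, 14, 23), (96, 72, 105), (60, 77, 116), (16, 117, 108), (91, 118, 32), (114, 38, 19),
    (17, 62, 109), (110, 17, 21), (101, 115, 119), (80, 97, 103), (104, 80, 87), (39, 20, 102),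
    (109, 22, 117), (44, 52, 66), (82, 83, 77), (106, 45, 72), (24, 33, 112), (47, 50, 96),
    (86, 47, 106), (37, 90, 115), (53, 68, 73), (119, 37, 41), (118, 25, 95), (58, 119, 100),
    (27, 31, 94), (85, 28, 75), (88, 107, 97), (55, 27, 118), (98, 104, 107), (29, 76, 92),
    (116, 82, 99), (34, 48, 93), (89, 94, 55), (36, 57, 101), (99, 61, 78), (63, 110, 113)]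

/-- A predecessor in the table. -/
def pList : Array (Fin 120 × Fin 3) := #[
    (0, 0), (0, 0), (0, 1), (0, 2), (1, 0), (1, 1), (1, 2), (2, 0),
    (2, 1), (2, 2), (3, 0), (3, 1), (3, 2), (4, 1), (4, 2), (5, 0),
    (5, 1), (5, 2), (6, 0), (6, 1), (6, 2), (7, 0), (7, 2), (8, 0),
    (8, 2), (9, 0), (9, 1), (9, 2), (10, 0), (10, 1), (10, 2), (11, 0),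
    (11, 1), (12, 0), (12, 1), (13, 0), (13, 1), (13, 2), (14, 0), (14, 1),
    (14, 2), (15, 0), (15, 2), (16, 0), (16, 2), (17, 0), (17, 1), (17, 2),
    (18, 0), (18, 2), (19, 0), (19, 1), (20, 0), (20, 1), (21, 1), (22, 1),
    (22, 2), (23, 0), (23, 2), (24, 0), (24, 1), (24, 2), (25, 0), (25, 1),
    (26, 0), (26, 1), (27, 0), (27, 1), (28, 2), (29, 0), (29, 1), (30, 2),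
    (31, 0), (32, 0), (33, 0), (33, 1), (33, 2), (34, 0), (34, 1), (35, 0),
    (35, 2), (36, 0), (37, 2), (39, 0), (39, 1), (40, 1), (42, 1), (43, 0),
    (43, 2), (44, 1), (45, 0), (46, 1), (47, 0), (52, 1), (53, 0), (53, 1),
    (55, 1), (56, 0), (56, 1), (58, 1), (59, 0), (59, 1), (60, 0), (61, 0),
    (62, 2), (63, 0), (63, 1), (65, 0), (66, 0), (66, 1), (66, 2), (67, 1),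
    (68, 1), (69, 0), (71, 1), (77, 0), (80, 1), (81, 0), (88, 1), (92, 2)]

/-- The scaled quaternion with index `k`. -/
def qc (k : Fin 120) : Co := qList.getD k.val ⟨0, 0, 0, 0⟩

/-- The matrix with index `k`. -/
def mc (k : Fin 120) : Ent := mList.getD k.val (0, 0, 0, 0)

/-- The successor under generator `j`. -/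
def nxt (k : Fin 120) (j : Fin 3) : Fin 120 :=
  match j, nList.getD k.val (0, 0, 0) with
  | 0, t => t.1
  | 1, t => t.2.1
  | 2, t => t.2.2

/-- The predecessor. -/
def par (k : Fin 120) : Fin 120 × Fin 3 := pList.getD k.val (0, 0)

/-- The scaled generators. -/
def qgen : Fin 3 → Co
  | 0 => ⟨⟨-2, 0⟩, ⟨2, 0⟩, ⟨2, 0⟩, ⟨2, 0⟩⟩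
  | 1 => ⟨⟨-2, 0⟩, ⟨2, 0⟩, ⟨-2, 0⟩, ⟨-2, 0⟩⟩
  | 2 => ⟨⟨-2, 0⟩, ⟨0, 0⟩, ⟨1, 1⟩, ⟨1, -1⟩⟩

theorem qc_zero : qc 0 = ⟨4, 0, 0, 0⟩ := by decide +kernel

theorem mc_zero : mc 0 = (1, 0, 0, 1) := by decide +kernel

theorem qc_next : ∀ k j, mulCo (qc k) (qgen j) = four (qc (nxt k j)) := by decide +kernel

theorem mc_next : ∀ k j, mulEnt (mc k) (mc (nxt 0 j)) = mc (nxt k j) := by decide +kernel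

theorem qc_injective : Function.Injective qc := by
  have h : ((List.finRange 120).map qc).Nodup := by decide +kernel
  exact fun a b hab => List.inj_on_of_nodup_map h (List.mem_finRange a) (List.mem_finRange b) hab

theorem mc_injective : Function.Injective mc := by
  have h : ((List.finRange 120).map mc).Nodup := by decide +kernel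
  exact fun a b hab => List.inj_on_of_nodup_map h (List.mem_finRange a) (List.mem_finRange b) hab

theorem det_mc : ∀ k, detEnt (mc k) = 1 := by decide +kernel

theorem mc_surjective : ∀ a b c d : ZMod 5, detEnt (a, b, c, d) = 1 → ∃ k, mc k = (a, b, c, d) := by
  decide +kernel

theorem par_spec : ∀ k : Fin 120, k ≠ 0 → (par k).1.val < k.val ∧ nxt (par k).1 (par k).2 = k := by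
  decide +kernel

attribute [irreducible] qc mc nxt par

end Cfsg.Agent.FPF25.Icos
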