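import Cfsg.Agent.FPF25.Pattern
import Cfsg.Agent.FPF25.IcosData

/-!
The subgroup generated by two axes of a frame and an adjacent outside axis is `SL(2, 5)`.
-/

set_option autoImplicit false

namespace Cfsg.Agent.FPF25.Setting

open Icos

variable {G M : Type*} [Group G] [Finite G] [AddCommGroup M] [Module ℚ M] {Z : Setting G M}

namespace Frame

variable {F : Frame Z}

theorem nonempty_mulEquiv {c : G} (hc : orderOf c = 3) (hnc : ¬ F.Axis c)
    (hc1 : Z.Q F.p1 c = (-1 : ℚ) • 1) {r : ℚ} (hr : r * r = 1) (hc2 : Z.Q F.p2 c = r • 1) :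
    Nonempty (Subgroup.closure {F.p1, F.p2, c} ≃* Matrix.SpecialLinearGroup (Fin 2) (ZMod 5)) := by
  classical
  obtain ⟨-, R, hRc, -, hR5, hC⟩ := pattern hc hnc hc1 hr hc2
  have tR : ∀ y, R * (R * y) = (5 : ℚ) • y := fun y => by rw [← mul_assoc, hR5, smul_mul_assoc, one_mul]
  let ι : ℤ√5 → Module.End ℚ M := fun z => (z.re : ℚ) • 1 + (z.im : ℚ) • R
  have ιc : ∀ z, F.Cen (ι z) := fun z => (F.cen_scalar _).add (hRc.smul _)
  have ιm : ∀ z z', ι (z * z') = ι z * ι z' := fun z z' => by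
    simp only [ι, Zsqrtd.re_mul, Zsqrtd.im_mul, mul_add, add_mul, smul_mul_assoc, mul_smul_comm, mul_one,
      one_mul, hR5]
    push_cast
    module
  have ιa : ∀ z z', ι (z + z') = ι z + ι z' := fun z z' => by
    simp only [ι, Zsqrtd.re_add, Zsqrtd.im_add]
    push_cast
    module
  have ιs : ∀ z z', ι (z - z') = ι z - ι z' := fun z z' => by
    simp only [ι, Zsqrtd.re_sub, Zsqrtd.im_sub]
    push_cast
    module
  have ι0 : ∀ z, ι z = 0 → z = 0 := fun z h => by
    simp only [ι] at h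
    by_cases hz : (z.im : ℚ) = 0
    · rw [hz, zero_smul, add_zero] at h
      exact Zsqrtd.ext (by exact_mod_cast Z.eq_zero_of_smul_one h) (by exact_mod_cast hz)
    · exfalso
      have hR : R = (-((z.re : ℚ)) / (z.im : ℚ)) • 1 := by
        refine smul_right_injective (M := Module.End ℚ M) hz ?_
        show (z.im : ℚ) • R = (z.im : ℚ) • ((-((z.re : ℚ)) / (z.im : ℚ)) • 1)
        rw [smul_smul, mul_div_cancel₀ _ hz]
        linear_combination (norm := module) h
      rw [hR, smul_mul_assoc, one_mul, smul_smul] at hR5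
      exact rat_sq_ne_five _ (Z.smul_one_inj hR5)
  let Φ : Co → Module.End ℚ M := fun p => F.comb (ι p.w) (ι p.x) (ι p.y) (ι p.z)
  have Φm : ∀ p p', Φ p * Φ p' = Φ (mulCo p p') := fun p p' => by
    simp only [Φ, comb_mul (ιc _) (ιc _) (ιc _) (ιc _), mulCo, ιa, ιs, ιm]
  have Φ4 : ∀ p, Φ (Icos.four p) = (4 : ℚ) • Φ p := fun p => by
    simp only [Φ, Icos.four, ι, comb, Zsqrtd.re_mul, Zsqrtd.im_mul, Zsqrtd.re_ofNat, Zsqrtd.im_ofNat,
      Int.mul_zero, Int.zero_mul, mul_zero, zero_mul, add_zero, mul_add, smul_add, mul_smul_comm]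
    push_cast
    module
  have Φinj : ∀ p p', Φ p = Φ p' → p = p' := fun p p' h => by
    obtain ⟨h0, h1, h2, h3⟩ := comb_inj (ιc _) (ιc _) (ιc _) (ιc _) (ιc _) (ιc _) (ιc _) (ιc _) h
    rcases p with ⟨a, b, e, g⟩
    rcases p' with ⟨a', b', e', g'⟩
    simp only [Co.mk.injEq]
    exact ⟨sub_eq_zero.mp (ι0 _ (by rw [ιs, h0, sub_self])), sub_eq_zero.mp (ι0 _ (by rw [ιs, h1, sub_self])),
      sub_eq_zero.mp (ι0 _ (by rw [ιs, h2, sub_self])), sub_eq_zero.mp (ι0 _ (by rw [ιs, h3, sub_self]))⟩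
  let gen : Fin 3 → G := ![F.p1, F.p2, c]
  have hgen : ∀ j, (4 : ℚ) • Z.ρ (gen j) = Φ (qgen j) := by
    have hρ : ∀ g : G, (4 : ℚ) • Z.ρ g = (2 : ℚ) • Z.U g - (2 : ℚ) • 1 := fun g => by
      simp only [U]; module
    intro j
    fin_cases j
    · show (4 : ℚ) • Z.ρ F.p1 = Φ (qgen 0)
      rw [hρ, F.u1]
      simp only [Φ, qgen, ι, comb, vec, mul_add, mul_smul_comm, mul_one]
      push_cast
      module
    · show (4 : ℚ) • Z.ρ F.p2 = Φ (qgen 1)
      rw [hρ, F.u2]
      simp only [Φ, qgen, ι, comb, vec, mul_add, mul_smul_comm, mul_one]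
      push_cast
      module
    · show (4 : ℚ) • Z.ρ c = Φ (qgen 2)
      rw [hρ, hC.eq]
      simp only [Φ, qgen, ι, comb, mul_add, mul_sub, mul_smul_comm, mul_one, mul_zero]
      push_cast
      module
  have hstep : ∀ (g : G) (k : Fin 120) (j : Fin 3), (4 : ℚ) • Z.ρ g = Φ (qc k) →
      (4 : ℚ) • Z.ρ (g * gen j) = Φ (qc (nxt k j)) := fun g k j h => by
    refine smul_right_injective (M := Module.End ℚ M) (by norm_num : (4 : ℚ) ≠ 0) ?_
    show (4 : ℚ) • (4 : ℚ) • Z.ρ (g * gen j) = (4 : ℚ) • Φ (qc (nxt k j))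
    rw [← Φ4, ← qc_next, ← Φm, ← h, ← hgen j, map_mul, smul_mul_assoc, mul_smul_comm]
  have h0 : (4 : ℚ) • Z.ρ 1 = Φ (qc 0) := by
    rw [map_one, qc_zero]
    simp only [Φ, ι, comb]
    simp only [Zsqrtd.re_zero, Zsqrtd.im_zero, Zsqrtd.re_ofNat, Zsqrtd.im_ofNat]
    push_cast
    simp
  set S := Subgroup.closure ({F.p1, F.p2, c} : Set G) with hS
  have hgenS : ∀ j, gen j ∈ S := fun j => Subgroup.subset_closure (by fin_cases j <;> simp [gen])
  have hmem : ∀ x ∈ ({F.p1, F.p2, c} : Set G), ∃ j, gen j = x := by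
    rintro x (rfl | rfl | rfl)
    exacts [⟨0, rfl⟩, ⟨1, rfl⟩, ⟨2, rfl⟩]
  have hord : ∀ j, orderOf (gen j) = 3 := fun j => by
    fin_cases j
    exacts [F.o1, F.o2, hc]
  have hinv : ∀ j, (gen j)⁻¹ = gen j * gen j := fun j => by
    refine inv_eq_of_mul_eq_one_left ?_
    have := pow_orderOf_eq_one (gen j)
    rwa [hord j, pow_three'] at this
  have hcover : ∀ g ∈ S, ∃ k, (4 : ℚ) • Z.ρ g = Φ (qc k) := by
    intro g hg
    induction hg using Subgroup.closure_induction_right with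
    | one => exact ⟨0, h0⟩
    | mul_right x hx y hy ih =>
      obtain ⟨k, hk⟩ := ih
      obtain ⟨j, rfl⟩ := hmem y hy
      exact ⟨_, hstep x k j hk⟩
    | mul_inv_cancel x hx y hy ih =>
      obtain ⟨k, hk⟩ := ih
      obtain ⟨j, rfl⟩ := hmem y hy
      rw [hinv j, ← mul_assoc]
      exact ⟨_, hstep _ _ j (hstep x k j hk)⟩
  choose idx hidx using hcover
  let f : S → Matrix.SpecialLinearGroup (Fin 2) (ZMod 5) := fun g =>
    ⟨!![(mc (idx g g.2)).1, (mc (idx g g.2)).2.1; (mc (idx g g.2)).2.2.1, (mc (idx g g.2)).2.2.2],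
      by rw [Matrix.det_fin_two_of]; exact det_mc (idx g g.2)⟩
  have huniq : ∀ (g : S) (k : Fin 120), (4 : ℚ) • Z.ρ g = Φ (qc k) → idx g g.2 = k := fun g k h =>
    qc_injective (Φinj _ _ ((hidx g g.2).symm.trans h))
  have hent : ∀ (g : S) (j : Fin 3),
      mc (idx (g * gen j) (mul_mem g.2 (hgenS j))) = mulEnt (mc (idx g g.2)) (mc (idx (gen j) (hgenS j))) := by
    intro g j
    rw [huniq ⟨g * gen j, mul_mem g.2 (hgenS j)⟩ _ (hstep g _ j (hidx g g.2)),
      huniq ⟨gen j, hgenS j⟩ (nxt 0 j) (by simpa using hstep 1 0 j h0), mc_next]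
  have fgen : ∀ (g : S) (j : Fin 3), f (g * ⟨gen j, hgenS j⟩) = f g * f ⟨gen j, hgenS j⟩ := by
    intro g j
    apply Subtype.ext
    show !![_, _; _, _] = !![_, _; _, _] * !![_, _; _, _]
    rw [show (mc (idx ↑(g * ⟨gen j, hgenS j⟩) (g * ⟨gen j, hgenS j⟩).2)) = _ from hent g j]
    rw [Matrix.mul_fin_two]
    rfl
  have fone : f 1 = 1 := by
    apply Subtype.ext
    show !![_, _; _, _] = _
    rw [show idx ((1 : S) : G) (1 : S).2 = 0 from huniq 1 0 h0, mc_zero, Matrix.SpecialLinearGroup.coe_one,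
      Matrix.one_fin_two]
  have fmul : ∀ g h : S, f (g * h) = f g * f h := by
    rintro g ⟨h, hh⟩
    induction hh using Subgroup.closure_induction_right with
    | one =>
      show f (g * 1) = f g * f 1
      rw [mul_one, fone, mul_one]
    | mul_right x hx y hy ih =>
      obtain ⟨j, rfl⟩ := hmem y hy
      have e : (⟨x * gen j, mul_mem hx (hgenS j)⟩ : S) = ⟨x, hx⟩ * ⟨gen j, hgenS j⟩ := rfl
      show f (g * ⟨x * gen j, mul_mem hx (hgenS j)⟩) = f g * f ⟨x * gen j, mul_mem hx (hgenS j)⟩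
      rw [e, ← mul_assoc, fgen, fgen, ih, mul_assoc]
    | mul_inv_cancel x hx y hy ih =>
      obtain ⟨j, rfl⟩ := hmem y hy
      have e : ∀ h', (⟨x * (gen j)⁻¹, h'⟩ : S) = ⟨x, hx⟩ * ⟨gen j, hgenS j⟩ * ⟨gen j, hgenS j⟩ := fun h' =>
        Subtype.ext (show x * (gen j)⁻¹ = x * gen j * gen j by rw [hinv j, mul_assoc])
      rw [e, ← mul_assoc, ← mul_assoc, fgen, fgen, fgen, fgen, ih]
      simp only [mul_assoc]
  refine ⟨MulEquiv.ofBijective (MonoidHom.mk' f fmul) ⟨?_, ?_⟩⟩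
  · intro g h hgh
    have hm : mc (idx g g.2) = mc (idx h h.2) := by
      have e := congrArg Subtype.val hgh
      have e00 := congrFun (congrFun e 0) 0
      have e01 := congrFun (congrFun e 0) 1
      have e10 := congrFun (congrFun e 1) 0
      have e11 := congrFun (congrFun e 1) 1
      exact Prod.ext e00 (Prod.ext e01 (Prod.ext e10 e11))
    have h1 := hidx g g.2
    rw [mc_injective hm, ← hidx h h.2] at h1
    exact Subtype.ext (Z.injective (smul_right_injective (M := Module.End ℚ M) (by norm_num : (4 : ℚ) ≠ 0) h1))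
  · intro A
    have hdet : detEnt (A 0 0, A 0 1, A 1 0, A 1 1) = 1 := by
      have := A.2
      rw [Matrix.det_fin_two] at this
      exact this
    have hsur := mc_surjective (A 0 0) (A 0 1) (A 1 0) (A 1 1)
    have hsur' := hsur hdet
    refine Exists.elim hsur' fun k hk => ?_
    have hreach : ∀ k : Fin 120, ∃ g : S, idx g g.2 = k := by
      intro k
      induction hn : k.val using Nat.strong_induction_on generalizing k with
      | _ n ih =>
        rcases eq_or_ne k 0 with rfl | hk0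
        · exact ⟨1, huniq 1 0 h0⟩
        · obtain ⟨hlt, hnx⟩ := par_spec k hk0
          obtain ⟨g, hg⟩ := ih _ (hn ▸ hlt) _ rfl
          refine ⟨g * ⟨gen (par k).2, hgenS _⟩, huniq _ _ ?_⟩
          have h1 := hstep (g : G) _ (par k).2 (hidx g g.2)
          rw [hg, hnx] at h1
          exact h1
    refine Exists.elim (hreach k) fun g hg => ⟨g, ?_⟩
    apply Subtype.ext
    show !![_, _; _, _] = (A : Matrix (Fin 2) (Fin 2) (ZMod 5))
    rw [hg, hk, ← Matrix.eta_fin_two]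

end Frame

end Cfsg.Agent.FPF25.Setting
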