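import Cfsg.Agent.FPF25.Basics
import Cfsg.Agent.FPF25.Icos
import Cfsg.Agent.FPF25.Sl25
import Cfsg.Agent.Core.Basics

/-!
The subgroup of a fixed-point-free group generated by its elements of order three, when some of them
lie outside a frame: its centraliser and its index.
-/

set_option autoImplicit false

namespace Cfsg.Agent.FPF25.Setting

open Subgroup

variable {G M : Type*} [Group G] [AddCommGroup M] [Module ℚ M]

/-- A frame together with an adjacent axis outside it. -/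
structure Ico (Z : Setting G M) where
  F : Frame Z
  c : G
  hc : orderOf c = 3
  hnc : ¬ F.Axis c
  hc1 : Z.Q F.p1 c = (-1 : ℚ) • 1
  r : ℚ
  hr : r * r = 1
  hc2 : Z.Q F.p2 c = r • 1

variable {Z : Setting G M} (I : Ico Z)

namespace Ico

/-- The group generated by the axes. -/
def S : Subgroup G := closure {I.F.p1, I.F.p2, I.c}

/-- The quaternion group of the frame. -/
def Q8 : Subgroup G := zpowers I.F.g1 ⊔ zpowers I.F.g2

theorem sq_g2 : I.F.g2 * I.F.g2 = I.F.g1 * I.F.g1 :=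
  Z.injective (by rw [map_mul, map_mul, I.F.q11, I.F.q22])

theorem not_commute : ¬ Commute I.F.g1 I.F.g2 := fun h => by
  have h1 : Z.ρ I.F.g1 * Z.ρ I.F.g2 = Z.ρ I.F.g2 * Z.ρ I.F.g1 := by rw [← map_mul, ← map_mul, h.eq]
  rw [I.F.q12, I.F.q21] at h1
  have h2 : Z.ρ I.F.g3 = 0 := by linear_combination (norm := module) (1 / 2 : ℚ) • h1
  have h3 := I.F.q33
  rw [h2, mul_zero] at h3
  exact absurd (Z.eq_zero_of_smul_one (x := (-1 : ℚ)) (by rw [neg_smul, one_smul]; exact h3.symm)) (by norm_num)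

theorem _root_.Cfsg.Agent.FPF25.Setting.orderOf_eq_four {g : G} (h : Z.ρ g * Z.ρ g = -1) :
    orderOf g = 4 := by
  have : Fact (Nat.Prime 2) := ⟨Nat.prime_two⟩
  refine orderOf_eq_prime_pow (p := 2) (n := 1) (fun e => ?_) (Z.injective ?_)
  · rw [← map_mul, ← pow_two, ← pow_one 2, e, map_one] at h
    exact absurd (Z.smul_one_inj (x := (1 : ℚ)) (y := -1) (by rw [neg_smul, one_smul]; exact h)) (by norm_num)
  · rw [map_pow, show 2 ^ (1 + 1) = 2 * 2 by norm_num, pow_mul, pow_two (Z.ρ g), h, pow_two,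
      neg_mul_neg, one_mul, map_one]

theorem orderOf_g1 : orderOf I.F.g1 = 4 := Setting.orderOf_eq_four I.F.q11

theorem orderOf_g2 : orderOf I.F.g2 = 4 := Setting.orderOf_eq_four I.F.q22

theorem p1_mem : I.F.p1 ∈ I.S := subset_closure (Set.mem_insert _ _)

theorem p2_mem : I.F.p2 ∈ I.S := subset_closure (Set.mem_insert_of_mem _ (Set.mem_insert _ _))

theorem c_mem : I.c ∈ I.S := subset_closure (Set.mem_insert_of_mem _ (Set.mem_insert_of_mem _ rfl))

theorem g2_mem : I.F.g2 ∈ I.S := by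
  rw [Frame.g2_eq]; exact mul_mem I.p2_mem (inv_mem I.p1_mem)

theorem g1_mem : I.F.g1 ∈ I.S := by
  rw [Frame.g1_eq]; exact mul_mem (mul_mem I.p1_mem I.g2_mem) (inv_mem I.p1_mem)

theorem Q8_le : I.Q8 ≤ I.S := sup_le (zpowers_le.mpr I.g1_mem) (zpowers_le.mpr I.g2_mem)

theorem mem_S {d : G} (hd : orderOf d = 3) : d ∈ I.S :=
  Frame.mem_closure_of_orderOf I.hc I.hnc I.hc1 I.hr I.hc2 hd

theorem normal_S : I.S.Normal := ⟨fun x hx g => by
  have hle : I.S ≤ I.S.comap (MulAut.conj g).toMonoidHom := by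
    refine (closure_le _).mpr ?_
    rintro y (rfl | rfl | rfl)
    all_goals refine I.mem_S ((orderOf_conj' g _).trans ?_)
    exacts [I.F.o1, I.F.o2, I.hc]
  exact hle hx⟩

/-- Centralising the quaternion frame is centralising the whole group. -/
theorem mem_centralizer_S {x : G} (h1 : Commute x I.F.g1) (h2 : Commute x I.F.g2) :
    x ∈ centralizer (I.S : Set G) := by
  have h3 : Commute x I.F.g3 := by
    rw [show I.F.g3 = I.F.g1 * I.F.g2 from Z.injective (by rw [map_mul, I.F.q12])]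
    exact h1.mul_right h2
  have key : ∀ {g : G}, Commute x g → Z.ρ x * Z.ρ g * Z.ρ x⁻¹ = Z.ρ g := fun {g} hg => by
    rw [← map_mul, ← map_mul, hg.eq, mul_inv_cancel_right]
  have hfix : ∀ {p : G} {s1 s2 s3 : ℚ},
      Z.U p = vec (Z.ρ I.F.g1) (Z.ρ I.F.g2) (Z.ρ I.F.g3) s1 s2 s3 → x * p * x⁻¹ = p := by
    intro p s1 s2 s3 hp
    apply Z.U_injective
    rw [Z.U_conj, hp, vec]
    simp only [mul_add, add_mul, mul_smul_comm, smul_mul_assoc, key h1, key h2, key h3]
  have e1 := hfix I.F.u1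
  have e2 := hfix I.F.u2
  have e3 := hfix I.F.u3
  have e4 := hfix I.F.u4
  have hinv : ∀ {p : G}, x * p * x⁻¹ = p → x * p⁻¹ * x⁻¹ = p⁻¹ := fun {p} hp => by
    rw [← conj_inv, hp]
  have hax : ∀ a, I.F.Axis a → x * a * x⁻¹ = a := by
    rintro a ((rfl | rfl) | (rfl | rfl) | (rfl | rfl) | (rfl | rfl))
    exacts [e1, hinv e1, e2, hinv e2, e3, hinv e3, e4, hinv e4]
  have hc' : x * I.c * x⁻¹ = I.c := by
    refine Frame.unique (F := I.F) (by rw [orderOf_conj', I.hc]) I.hc ?_ I.hnc ?_ I.hc1 I.hr I.hr ?_ I.hc2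
    · intro hA
      have h := hax _ hA
      exact I.hnc ((MulAut.conj x).injective (show x * (x * I.c * x⁻¹) * x⁻¹ = x * I.c * x⁻¹ from h) ▸ hA)
    · conv_lhs => rw [← e1]
      exact Z.Q_conj_scalar x I.hc1
    · conv_lhs => rw [← e2]
      exact Z.Q_conj_scalar x I.hc2
  have hle : I.S ≤ centralizer ({x} : Set G) := by
    refine (closure_le _).mpr ?_
    have : ∀ {p : G}, x * p * x⁻¹ = p → p ∈ centralizer ({x} : Set G) := fun {p} hp =>
      mem_centralizer_singleton_iff.mpr (mul_inv_eq_iff_eq_mul.mp hp).symm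
    rintro y (rfl | rfl | rfl)
    exacts [this e1, this e2, this hc']
  exact mem_centralizer_iff.mpr fun y hy => mem_centralizer_singleton_iff.mp (hle hy)

variable [Finite G]

theorem nonempty_mulEquiv : Nonempty (I.S ≃* Matrix.SpecialLinearGroup (Fin 2) (ZMod 5)) :=
  Frame.nonempty_mulEquiv I.hc I.hnc I.hc1 I.hr I.hc2

theorem card_S : Nat.card I.S = 120 := by
  rw [Nat.card_congr I.nonempty_mulEquiv.some.toEquiv, card_sl25]

theorem sq_eq_one {x : G} (hx : x ∈ I.S) (hxc : x ∈ centralizer (I.S : Set G)) : x * x = 1 := by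
  obtain ⟨e⟩ := I.nonempty_mulEquiv
  have h : e ⟨x, hx⟩ * e ⟨x, hx⟩ = 1 := sq_eq_one_of_central fun y => by
    obtain ⟨⟨y, hy⟩, rfl⟩ := e.surjective y
    rw [← map_mul, ← map_mul]
    exact congrArg e (Subtype.ext (mem_centralizer_iff.mp hxc y hy))
  rw [← map_mul, ← map_one e] at h
  exact congrArg Subtype.val (e.injective h)

theorem not_mem_centralizer_of_orderOf_three {d : G} (hd : orderOf d = 3) :
    d ∉ centralizer (I.S : Set G) := fun h => by
  have h1 : orderOf d ∣ 2 := orderOf_dvd_of_pow_eq_one (by rw [pow_two]; exact I.sq_eq_one (I.mem_S hd) h)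
  rw [hd] at h1
  norm_num at h1

theorem three_not_dvd : ¬ 3 ∣ Nat.card (centralizer (I.S : Set G)) := fun h => by
  have : Fact (Nat.Prime 3) := ⟨Nat.prime_three⟩
  obtain ⟨⟨x, hx⟩, hxo⟩ := exists_prime_orderOf_dvd_card' 3 h
  rw [Subgroup.orderOf_mk] at hxo
  exact I.not_mem_centralizer_of_orderOf_three hxo hx

theorem five_not_dvd (h : HasFPF G) : ¬ 5 ∣ Nat.card (centralizer (I.S : Set G)) := fun hd => by
  have : Fact (Nat.Prime 5) := ⟨Nat.prime_five⟩
  obtain ⟨⟨x, hx⟩, hxo⟩ := exists_prime_orderOf_dvd_card' 5 hd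
  rw [Subgroup.orderOf_mk] at hxo
  obtain ⟨⟨s, hs⟩, hso⟩ := exists_prime_orderOf_dvd_card' (G := I.S) 5 (by rw [I.card_S]; norm_num)
  rw [Subgroup.orderOf_mk] at hso
  have hmem := h.mem_zpowers_of_commute Nat.prime_five (mem_centralizer_iff.mp hx s hs).symm hxo hso
  have h1 : orderOf x ∣ 2 := orderOf_dvd_of_pow_eq_one
    (by rw [pow_two]; exact I.sq_eq_one (zpowers_le.mpr hs hmem) hx)
  rw [hxo] at h1
  norm_num at h1

/-- No element of order four centralises the frame. -/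
theorem no_four (h : HasFPF G) {x : G} (h1 : Commute x I.F.g1) (h2 : Commute x I.F.g2) :
    orderOf x ≠ 4 := fun hx => by
  have hsq : ∀ {y : G}, orderOf y = 4 → orderOf (y * y) = 2 := fun {y} hy => by
    rw [← pow_two, orderOf_pow' y two_ne_zero, hy]; rfl
  have e : x * x = I.F.g1 * I.F.g1 := h.eq_of_orderOf_two (hsq hx) (hsq I.orderOf_g1)
  set w := x * I.F.g1⁻¹ with hw
  have hw2 : w * w = 1 := by
    rw [hw, show x * I.F.g1⁻¹ * (x * I.F.g1⁻¹) = x * x * (I.F.g1⁻¹ * I.F.g1⁻¹) by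
      rw [mul_assoc, ← mul_assoc I.F.g1⁻¹ x, ← (h1.inv_right).eq]; group]
    rw [e]; group
  refine I.not_commute ?_
  rcases eq_or_ne w 1 with hw1 | hw1
  · rw [hw, mul_inv_eq_one] at hw1
    exact hw1 ▸ h2
  · have hwz : w = I.F.g1 * I.F.g1 := h.eq_of_orderOf_two (orderOf_eq_prime (by rw [pow_two, hw2]) hw1)
      (hsq I.orderOf_g1)
    have hx3 : x = I.F.g1 ^ 3 := by
      rw [show x = w * I.F.g1 by rw [hw, inv_mul_cancel_right], hwz, pow_three', mul_assoc]
    have h9 : I.F.g1 = x ^ 3 := by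
      rw [hx3, ← pow_mul, ← pow_mod_orderOf, I.orderOf_g1]
      norm_num
    rw [h9]
    exact h2.pow_left 3

theorem centralizer_Q8_le : centralizer (I.Q8 : Set G) ≤ centralizer (I.S : Set G) := fun x hx =>
  I.mem_centralizer_S (mem_centralizer_iff.mp hx _ (mem_sup_left (mem_zpowers _))).symm
    (mem_centralizer_iff.mp hx _ (mem_sup_right (mem_zpowers _))).symm

theorem isZGroup_centralizer (h : HasFPF G) : IsZGroup (centralizer (I.S : Set G)) :=
  ⟨fun p hp P => by
    have := Fact.mk hp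
    refine ((h.subgroup _).cyclic_or_quaternion P.isPGroup').resolve_right fun h' => ?_
    obtain ⟨rfl, k, hk, ⟨e⟩⟩ := h'
    set y : (P : Subgroup (centralizer (I.S : Set G))) := e.symm (QuaternionGroup.a 1) with hy
    have hyo : orderOf y = 2 * 2 ^ k := by
      rw [hy, e.symm.orderOf_eq, QuaternionGroup.orderOf_a_one]
    set x : G := (((y ^ 2 ^ (k - 1) : (P : Subgroup (centralizer (I.S : Set G)))) :
      centralizer (I.S : Set G)) : G) with hx
    have hxo : orderOf x = 4 := by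
      rw [hx, Subgroup.orderOf_coe, Subgroup.orderOf_coe, orderOf_pow' _ (pow_ne_zero _ two_ne_zero), hyo]
      obtain ⟨j, rfl⟩ := Nat.exists_eq_succ_of_ne_zero (by omega : k ≠ 0)
      rw [Nat.succ_sub_one, Nat.succ_eq_add_one, pow_succ, Nat.gcd_eq_right (Dvd.intro (2 * 2) (by ring))]
      exact Nat.div_eq_of_eq_mul_left (pow_pos two_pos _) (by ring)
    have hxc : x ∈ centralizer (I.S : Set G) := SetLike.coe_mem _
    exact I.no_four h (mem_centralizer_iff.mp hxc _ I.g1_mem).symm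
      (mem_centralizer_iff.mp hxc _ I.g2_mem).symm hxo⟩

theorem card_Q8 (h : HasFPF G) : Nat.card I.Q8 = 8 := by
  have hn : zpowers I.F.g2 ≤ normalizer ((zpowers I.F.g1 : Subgroup G) : Set G) := by
    rw [zpowers_le]
    have e : I.F.g2 * I.F.g1 * I.F.g2⁻¹ = I.F.g1⁻¹ := by
      rw [mul_inv_eq_iff_eq_mul]
      exact Z.injective (by rw [map_mul, map_mul, I.F.inv1, I.F.q21, neg_mul, I.F.q12])
    rw [mem_normalizer_iff]
    intro y
    constructor
    · intro hy
      obtain ⟨k, rfl⟩ := mem_zpowers_iff.mp hy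
      rw [← conj_zpow, e, inv_zpow]
      exact inv_mem (zpow_mem (mem_zpowers _) k)
    · intro hy
      obtain ⟨k, hk⟩ := mem_zpowers_iff.mp hy
      have : y = I.F.g1⁻¹ ^ k := by
        apply (MulAut.conj I.F.g2).injective
        show I.F.g2 * y * I.F.g2⁻¹ = I.F.g2 * I.F.g1⁻¹ ^ k * I.F.g2⁻¹
        rw [← conj_zpow, ← conj_inv, e, inv_inv, hk]
      rw [this]
      exact zpow_mem (inv_mem (mem_zpowers _)) k
  have hprod := Core.card_sup_mul_card_inf ((zpowers I.F.g2).subgroupOf (normalizer (zpowers I.F.g1 : Set G)))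
    ((zpowers I.F.g1).subgroupOf (normalizer (zpowers I.F.g1 : Set G)))
  have hc1 : Nat.card (zpowers I.F.g1) = 4 := by rw [Nat.card_zpowers, I.orderOf_g1]
  have hc2 : Nat.card (zpowers I.F.g2) = 4 := by rw [Nat.card_zpowers, I.orderOf_g2]
  rw [← subgroupOf_sup hn le_normalizer, show ∀ A B C : Subgroup G, A.subgroupOf C ⊓ B.subgroupOf C = (A ⊓ B).subgroupOf C from
      fun A B C => (Subgroup.comap_inf A B C.subtype).symm, Coprime.card_subgroupOf (sup_le hn le_normalizer),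
    Coprime.card_subgroupOf hn, Coprime.card_subgroupOf le_normalizer,
    Coprime.card_subgroupOf (inf_le_left.trans hn), hc1, hc2, sup_comm] at hprod
  have hI : Nat.card (zpowers I.F.g2 ⊓ zpowers I.F.g1 : Subgroup G) = 2 := by
    set J : Subgroup G := zpowers I.F.g2 ⊓ zpowers I.F.g1 with hJ
    have hdvd : Nat.card J ∣ 4 := hc2 ▸ card_dvd_of_le inf_le_left
    have hz : I.F.g1 * I.F.g1 ∈ J := by
      refine ⟨?_, mul_mem (mem_zpowers _) (mem_zpowers _)⟩
      rw [← I.sq_g2]; exact mul_mem (mem_zpowers _) (mem_zpowers _)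
    have hzo : orderOf (I.F.g1 * I.F.g1) = 2 := by
      rw [← pow_two, orderOf_pow' _ two_ne_zero, I.orderOf_g1]; rfl
    have h2 : 2 ∣ Nat.card J := by
      rw [← hzo, ← Nat.card_zpowers]
      exact card_dvd_of_le (zpowers_le.mpr hz)
    have hne : Nat.card J ≠ 4 := fun e => by
      have h3 : J = zpowers I.F.g2 := eq_of_le_of_card_ge inf_le_left (by rw [e, hc2])
      have h4 : I.F.g2 ∈ zpowers I.F.g1 := ((h3 ▸ mem_zpowers I.F.g2 : I.F.g2 ∈ J)).2
      obtain ⟨k, hk⟩ := mem_zpowers_iff.mp h4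
      exact I.not_commute (hk ▸ (Commute.refl I.F.g1).zpow_right k)
    have := Nat.le_of_dvd (by norm_num) hdvd
    interval_cases hk : Nat.card J <;> omega
  rw [hI] at hprod
  show Nat.card (zpowers I.F.g1 ⊔ zpowers I.F.g2 : Subgroup G) = 8
  omega

theorem card_mulAut_Q8_dvd (h : HasFPF G) : Nat.card (MulAut I.Q8) ∣ 24 := by
  have : Fact (Nat.Prime 2) := ⟨Nat.prime_two⟩
  have hQ : IsPGroup 2 I.Q8 := IsPGroup.of_card (n := 3) (by rw [I.card_Q8 h]; norm_num)
  obtain ⟨a, b, hab⟩ := h.exists_two_generators hQ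
  obtain ⟨r, -, hr⟩ := (Nat.dvd_prime_pow Nat.prime_two).mp
    ((show Nat.card I.Q8 = 2 ^ 3 by rw [I.card_Q8 h]; norm_num) ▸ (frattini I.Q8).index_dvd_card :
      (frattini I.Q8).index ∣ 2 ^ 3)
  have hr2 : r ≤ 2 := by
    obtain ⟨hcomm, hexp⟩ := FGS.frattini_quotient_props (P := I.Q8) (p := 2) (n := 3) (by rw [I.card_Q8 h]; norm_num)
    have hle := FGS.card_closure_le hcomm hexp 2 ![(a : I.Q8 ⧸ frattini I.Q8), (b : I.Q8 ⧸ frattini I.Q8)]
    have htop : closure (Set.range ![(a : I.Q8 ⧸ frattini I.Q8), (b : I.Q8 ⧸ frattini I.Q8)]) = ⊤ := by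
      have h1 : Set.range ![(a : I.Q8 ⧸ frattini I.Q8), (b : I.Q8 ⧸ frattini I.Q8)] =
          QuotientGroup.mk' (frattini I.Q8) '' ({a, b} : Set I.Q8) := by
        rw [Matrix.range_cons_cons_empty, Set.image_pair]
        rfl
      rw [h1, ← MonoidHom.map_closure, hab, ← MonoidHom.range_eq_map,
        MonoidHom.range_eq_top.mpr (QuotientGroup.mk'_surjective _)]
    rw [htop, card_top, ← index_eq_card, hr] at hle
    exact (Nat.pow_le_pow_iff_right (by norm_num)).mp hle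
  refine (FGS.card_mulAut_dvd (n := 3) (by rw [I.card_Q8 h]; norm_num) hr).trans ?_
  interval_cases r <;> decide

omit [Finite G] in
theorem p1_mem_normalizer : I.F.p1 ∈ normalizer (I.Q8 : Set G) := by
  have hconj : ∀ g ∈ ({I.F.g1, I.F.g2} : Set G), I.F.p1 * g * I.F.p1⁻¹ ∈ I.Q8 ∧
      I.F.p1⁻¹ * g * I.F.p1 ∈ I.Q8 := by
    have k1 : I.F.g1 = I.F.p1 * I.F.g2 * I.F.p1⁻¹ := Frame.g1_eq
    have k2 : I.F.g2 = I.F.p1 * I.F.g3 * I.F.p1⁻¹ := Frame.g1_eq (F := I.F.cycle)
    have k3 : I.F.g3 = I.F.p1 * I.F.g1 * I.F.p1⁻¹ := Frame.g1_eq (F := I.F.cycle.cycle)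
    have m1 : I.F.g1 ∈ I.Q8 := mem_sup_left (mem_zpowers _)
    have m2 : I.F.g2 ∈ I.Q8 := mem_sup_right (mem_zpowers _)
    have m3 : I.F.g3 ∈ I.Q8 := by
      rw [show I.F.g3 = I.F.g1 * I.F.g2 from Z.injective (by rw [map_mul, I.F.q12])]
      exact mul_mem m1 m2
    rintro g (rfl | rfl)
    · refine ⟨k3 ▸ m3, ?_⟩
      rw [k1]; convert m2 using 1; group
    · refine ⟨k1 ▸ m1, ?_⟩
      rw [k2]; convert m3 using 1; group
  have hQc : closure ({I.F.g1, I.F.g2} : Set G) = I.Q8 := by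
    rw [Set.insert_eq, Subgroup.closure_union, ← zpowers_eq_closure, ← zpowers_eq_closure]; rfl
  refine Coprime.mem_normalizer_of_conj_smul_eq ?_
  rw [Coprime.conj_smul_eq_map]
  refine le_antisymm ?_ ?_
  · conv_lhs => rw [← hQc, MonoidHom.map_closure]
    refine (closure_le _).mpr ?_
    rintro _ ⟨g, hg, rfl⟩
    exact (hconj g hg).1
  · conv_lhs => rw [← hQc]
    refine (closure_le _).mpr fun g hg => ?_
    exact ⟨_, (hconj g hg).2, by simp [mul_assoc]⟩

/-- The index of `S C(S)`. -/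
theorem index_dvd_two (h : HasFPF G) : (I.S ⊔ centralizer (I.S : Set G)).index ∣ 2 := by
  classical
  have := I.normal_S
  have : Fact (Nat.Prime 2) := ⟨Nat.prime_two⟩
  set X := I.S ⊔ centralizer (I.S : Set G) with hX
  have hXn : X.Normal := inferInstance
  set N := normalizer (I.Q8 : Set G) with hN
  have hsyl : Nat.card (I.Q8.subgroupOf I.S) = 2 ^ (Nat.card I.S).factorization 2 := by
    let P : Sylow 2 I.S := default
    rw [← P.card_eq_multiplicity, Classical.card_sylow_eq_of_card_eq P (a := 3) (r := 15) I.card_S (by norm_num),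
      Coprime.card_subgroupOf I.Q8_le, I.card_Q8 h]
    norm_num
  have hfr := Sylow.normalizer_sup_eq_top (Sylow.ofCard (I.Q8.subgroupOf I.S) hsyl)
  rw [Sylow.coe_ofCard, map_subgroupOf_eq_of_le I.Q8_le] at hfr
  have hidx : X.index = (X.subgroupOf N).index := by
    rw [← relIndex_top_right, show (⊤ : Subgroup G) = N ⊔ X from (top_le_iff.mp
      (hfr.ge.trans (sup_le_sup_left le_sup_left N))).symm, relIndex_sup_right]
    rfl
  set ψ := I.Q8.normalizerMonoidHom.rangeRestrict with hψ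
  have hker : ψ.ker ≤ X.subgroupOf N := by
    rw [hψ, MonoidHom.ker_rangeRestrict, normalizerMonoidHom_ker]
    exact fun x hx => (le_sup_right : _ ≤ X) (I.centralizer_Q8_le hx)
  have hmap := index_map_eq (H := X.subgroupOf N) (f := ψ) I.Q8.normalizerMonoidHom.rangeRestrict_surjective hker
  rw [hidx, ← hmap]
  set R := (X.subgroupOf N).map ψ with hR
  have h24 : R.index * Nat.card R ∣ 24 := by
    rw [mul_comm, card_mul_index]
    refine (card_subgroup_dvd_card _).trans ?_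
    exact I.card_mulAut_Q8_dvd h
  have hp1N : I.F.p1 ∈ N := I.p1_mem_normalizer
  have hp1 : orderOf (ψ ⟨I.F.p1, hp1N⟩) = 3 := by
    have : Fact (Nat.Prime 3) := ⟨Nat.prime_three⟩
    refine orderOf_eq_prime ?_ fun e => ?_
    · rw [← map_pow, ← map_one ψ]
      exact congrArg ψ (Subtype.ext (by rw [SubmonoidClass.coe_pow, OneMemClass.coe_one, ← I.F.o1,
        pow_orderOf_eq_one]))
    · have hmem : (⟨I.F.p1, hp1N⟩ : N) ∈ ψ.ker := e
      rw [hψ, MonoidHom.ker_rangeRestrict, normalizerMonoidHom_ker] at hmem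
      exact I.not_mem_centralizer_of_orderOf_three I.F.o1 (I.centralizer_Q8_le hmem)
  have h3 : 3 ∣ Nat.card R := by
    rw [← hp1, ← Nat.card_zpowers]
    exact card_dvd_of_le (zpowers_le.mpr ⟨_, mem_subgroupOf.mpr ((le_sup_left : _ ≤ X) I.p1_mem), rfl⟩)
  have h4 : 4 ∣ Nat.card R := by
    let f := ψ.comp (inclusion (le_normalizer : I.Q8 ≤ N))
    have hle : f.range ≤ R := by
      rintro _ ⟨x, rfl⟩
      exact ⟨_, mem_subgroupOf.mpr ((le_sup_left : _ ≤ X) (I.Q8_le x.2)), rfl⟩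
    refine dvd_trans ?_ (card_dvd_of_le hle)
    have hk : f.ker ≤ zpowers (⟨I.F.g1 * I.F.g1, mul_mem (mem_sup_left (mem_zpowers _))
        (mem_sup_left (mem_zpowers _))⟩ : I.Q8) := by
      intro x hx
      have hmem : inclusion (le_normalizer : I.Q8 ≤ N) x ∈ ψ.ker := hx
      rw [hψ, MonoidHom.ker_rangeRestrict, normalizerMonoidHom_ker] at hmem
      have hsq := I.sq_eq_one (I.Q8_le x.2) (I.centralizer_Q8_le hmem)
      rcases eq_or_ne (x : G) 1 with h1 | h1
      · rw [Subtype.ext (a2 := (1 : I.Q8)) h1]; exact one_mem _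
      · have e : (x : G) = I.F.g1 * I.F.g1 := h.eq_of_orderOf_two (orderOf_eq_prime (by rw [pow_two, hsq]) h1)
          (by rw [← pow_two, orderOf_pow' _ two_ne_zero, I.orderOf_g1]; rfl)
        rw [show x = ⟨I.F.g1 * I.F.g1, _⟩ from Subtype.ext e]
        exact mem_zpowers _
    have hk2 : Nat.card f.ker ∣ 2 := by
      refine (card_dvd_of_le hk).trans (dvd_of_eq ?_)
      rw [Nat.card_zpowers, Subgroup.orderOf_mk, ← pow_two, orderOf_pow' _ two_ne_zero, I.orderOf_g1]; rfl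
    have h8 := f.ker.card_mul_index
    rw [index_ker, I.card_Q8 h] at h8
    rcases (Nat.dvd_prime Nat.prime_two).mp hk2 with e | e <;> rw [e] at h8
    · exact ⟨2, by omega⟩
    · exact ⟨1, by omega⟩
  obtain ⟨m, hm⟩ : 12 ∣ Nat.card R := Nat.Coprime.mul_dvd_of_dvd_of_dvd (by norm_num : Nat.Coprime 3 4) h3 h4
  rw [hm, mul_left_comm] at h24
  exact (Nat.mul_dvd_mul_iff_left (by norm_num : 0 < 12)).mp (by simpa using h24) |> fun h2 =>
    (Dvd.intro m rfl : R.index ∣ R.index * m).trans h2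

end Ico

end Cfsg.Agent.FPF25.Setting
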