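import Cfsg.Agent.FPF25.Rigid

/-!
The unique outside axis attached to two axes of a frame.
-/

set_option autoImplicit false

namespace Cfsg.Agent.FPF25.Setting

variable {G M : Type*} [Group G] [AddCommGroup M] [Module ℚ M] {Z : Setting G M}

namespace Frame

variable {F : Frame Z}

/-- Everything that follows from the vanishing of the scalar part. -/
theorem coord_facts {c : G} {x0 x1 x2 x3 : Module.End ℚ M} (h : F.Coord c x0 x1 x2 x3) :
    x0 = 0 ∧ x1 * x2 = x2 * x1 ∧ x2 * x3 = x3 * x2 ∧ x3 * x1 = x1 * x3 ∧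
      x1 * x1 + x2 * x2 + x3 * x3 = (3 : ℚ) • 1 := by
  obtain rfl := x0_eq_zero h
  have hX : F.comb (0 * 0 - x1 * x1 - x2 * x2 - x3 * x3) (0 * x1 + x1 * 0 + x2 * x3 - x3 * x2)
      (0 * x2 + x2 * 0 + x3 * x1 - x1 * x3) (0 * x3 + x3 * 0 + x1 * x2 - x2 * x1) =
      F.comb ((-3 : ℚ) • 1) 0 0 0 := by
    rw [← scalar_eq_comb, ← comb_mul h.c0 h.c1 h.c2 h.c3, ← h.eq, Z.U_sq h.ord]
  simp only [zero_mul, mul_zero, zero_add, zero_sub] at hX
  obtain ⟨r0, r1, r2, r3⟩ := comb_inj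
    (((by rw [← neg_one_smul ℚ (x1 * x1)]; exact (h.c1.mul h.c1).smul _ : F.Cen (-(x1 * x1))).sub
      (h.c2.mul h.c2)).sub (h.c3.mul h.c3))
    ((h.c2.mul h.c3).sub (h.c3.mul h.c2)) ((h.c3.mul h.c1).sub (h.c1.mul h.c3))
    ((h.c1.mul h.c2).sub (h.c2.mul h.c1)) (F.cen_scalar _) F.cen_zero F.cen_zero F.cen_zero hX
  exact ⟨rfl, sub_eq_zero.mp r3, sub_eq_zero.mp r1, sub_eq_zero.mp r2,
    by linear_combination (norm := module) (-1 : ℚ) • r0⟩

/-- The coefficient of `c` along the vector `(s1, s2, s3)`. -/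
def wt (s1 s2 s3 : ℚ) (x1 x2 x3 : Module.End ℚ M) : Module.End ℚ M := s1 • x1 + s2 • x2 + s3 • x3

theorem entry' {p c : G} {s1 s2 s3 : ℚ} (hop : orderOf p = 3)
    (hp : Z.U p = vec F.e1 F.e2 F.e3 s1 s2 s3) (hs1 : s1 ≠ 0) (hs : s1 * s1 + s2 * s2 + s3 * s3 = 3)
    {x0 x1 x2 x3 : Module.End ℚ M} (h : F.Coord c x0 x1 x2 x3) :
    ∃ ν : ℚ, wt s1 s2 s3 x1 x2 x3 * wt s1 s2 s3 x1 x2 x3 = ν • 1 ∧ Z.Q p c * Z.Q p c = ν • 1 ∧
      Z.Q p c = -wt s1 s2 s3 x1 x2 x3 ∧ ((ν = 9 ∧ (c = p ∨ c = p⁻¹)) ∨ ν = 1 ∨ ν = 5) := by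
  obtain ⟨ν, E⟩ := entry hop hp hs1 hs h
  have hq := Q_vec hp h.eq h.c0 h.c1 h.c2 h.c3
  have h0 := x0_eq_zero h
  refine ⟨ν, ?_, E.sq, ?_, ?_⟩
  · have := E.w_sq
    rw [h0, mul_zero, smul_zero, sub_zero] at this
    exact this
  · rw [hq, h0]
    simp [comb, wt]
  · rcases E.kind with ⟨a, -, b⟩ | ⟨a, -, -⟩ | a
    · exact Or.inl ⟨a, b⟩
    · exact Or.inr (Or.inl a)
    · exact Or.inr (Or.inr a)

/-- The four weights, and their sum. -/
theorem four {c : G} {x0 x1 x2 x3 : Module.End ℚ M} (h : F.Coord c x0 x1 x2 x3) (hno : ¬ F.Axis c) :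
    ∃ n1 n2 n3 n4 : ℚ, n1 + n2 + n3 + n4 = 12 ∧
      (n1 = 1 ∨ n1 = 5) ∧ (n2 = 1 ∨ n2 = 5) ∧ (n3 = 1 ∨ n3 = 5) ∧ (n4 = 1 ∨ n4 = 5) ∧
      (wt 1 1 1 x1 x2 x3 * wt 1 1 1 x1 x2 x3 = n1 • 1) ∧
      (wt 1 (-1) (-1) x1 x2 x3 * wt 1 (-1) (-1) x1 x2 x3 = n2 • 1) ∧
      (wt (-1) 1 (-1) x1 x2 x3 * wt (-1) 1 (-1) x1 x2 x3 = n3 • 1) ∧
      (wt (-1) (-1) 1 x1 x2 x3 * wt (-1) (-1) 1 x1 x2 x3 = n4 • 1) ∧
      Z.Q F.p1 c * Z.Q F.p1 c = n1 • 1 ∧ Z.Q F.p2 c * Z.Q F.p2 c = n2 • 1 ∧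
      Z.Q F.p3 c * Z.Q F.p3 c = n3 • 1 ∧ Z.Q F.p4 c * Z.Q F.p4 c = n4 • 1 := by
  obtain ⟨n1, a1, b1, -, k1⟩ := entry' F.o1 F.u1 (by norm_num) (by norm_num) h
  obtain ⟨n2, a2, b2, -, k2⟩ := entry' F.o2 F.u2 (by norm_num) (by norm_num) h
  obtain ⟨n3, a3, b3, -, k3⟩ := entry' F.o3 F.u3 (by norm_num) (by norm_num) h
  obtain ⟨n4, a4, b4, -, k4⟩ := entry' F.o4 F.u4 (by norm_num) (by norm_num) h
  have m1 := k1.resolve_left fun e => hno (Or.inl e.2)
  have m2 := k2.resolve_left fun e => hno (Or.inr (Or.inl e.2))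
  have m3 := k3.resolve_left fun e => hno (Or.inr (Or.inr (Or.inl e.2)))
  have m4 := k4.resolve_left fun e => hno (Or.inr (Or.inr (Or.inr e.2)))
  refine ⟨n1, n2, n3, n4, ?_, m1, m2, m3, m4, a1, a2, a3, a4, b1, b2, b3, b4⟩
  obtain ⟨-, c12, c23, c31, hs⟩ := coord_facts h
  refine Z.smul_one_inj ?_
  simp only [wt, mul_add, add_mul, smul_mul_assoc, mul_smul_comm] at a1 a2 a3 a4
  linear_combination (norm := module) (-1 : ℚ) • (a1 + a2 + a3 + a4) + (4 : ℚ) • hs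

/-- Squares of `Q` are detected by scalar values. -/
theorem sq_of_scalar {a b : G} {r n : ℚ} (h : Z.Q a b = r • 1) (hn : Z.Q a b * Z.Q a b = n • 1) :
    n = r * r :=
  Z.smul_one_inj (by rw [← hn, h, smul_mul_assoc, one_mul, smul_smul])

/-- Three of the four axes cannot all be adjacent to an outside axis. -/
theorem three_ones {c : G} (hc : orderOf c = 3) (hno : ¬ F.Axis c) {r1 r2 : ℚ}
    (h1 : Z.Q F.p1 c = r1 • 1) (h2 : Z.Q F.p2 c = r2 • 1) (hr1 : r1 * r1 = 1) (hr2 : r2 * r2 = 1)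
    (h34 : (∃ r : ℚ, r * r = 1 ∧ Z.Q F.p3 c = r • 1) ∨ ∃ r : ℚ, r * r = 1 ∧ Z.Q F.p4 c = r • 1) :
    False := by
  obtain ⟨x0, x1, x2, x3, h⟩ := F.exists_coord hc
  obtain ⟨n1, n2, n3, n4, hs, m1, m2, m3, m4, -, -, -, -, b1, b2, b3, b4⟩ := four h hno
  have e1 := sq_of_scalar h1 b1
  have e2 := sq_of_scalar h2 b2
  rw [hr1] at e1
  rw [hr2] at e2
  rcases h34 with ⟨r, hr, h3⟩ | ⟨r, hr, h4⟩
  · have e3 := sq_of_scalar h3 b3
    rw [hr] at e3
    rcases m4 with e | e <;> linarith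
  · have e4 := sq_of_scalar h4 b4
    rw [hr] at e4
    rcases m3 with e | e <;> linarith

/-- An oriented outside axis adjacent to the first two axes. -/
theorem pattern {c : G} (hc : orderOf c = 3) (hno : ¬ F.Axis c) (h1 : Z.Q F.p1 c = (-1 : ℚ) • 1)
    {r : ℚ} (hr : r * r = 1) (h2 : Z.Q F.p2 c = r • 1) :
    r = 1 ∧ ∃ R : Module.End ℚ M, F.Cen R ∧ Z.Symm R ∧ R * R = (5 : ℚ) • 1 ∧
      F.Coord c 0 0 ((1 / 2 : ℚ) • (1 + R)) ((1 / 2 : ℚ) • (1 - R)) := by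
  obtain ⟨x0, x1, x2, x3, h⟩ := F.exists_coord hc
  obtain ⟨hx0, c12, c23, c31, hsq⟩ := coord_facts h
  obtain ⟨n1, n2, n3, n4, hs, m1, m2, m3, m4, a1, a2, a3, a4, b1, b2, b3, b4⟩ := four h hno
  have e1 := sq_of_scalar h1 b1
  have e2 := sq_of_scalar h2 b2
  rw [hr] at e2
  norm_num at e1
  have e3 : n3 = 5 := by rcases m3 with e | e <;> rcases m4 with e' | e' <;> linarith
  obtain ⟨-, -, -, q1, -⟩ := entry' F.o1 F.u1 (by norm_num) (by norm_num) h
  obtain ⟨-, -, -, q2, -⟩ := entry' F.o2 F.u2 (by norm_num) (by norm_num) h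
  rw [h1] at q1
  rw [h2] at q2
  simp only [wt] at q1 q2 a3 a4
  rw [e3] at a3
  have e4 : n4 = 5 := by linarith
  rw [e4] at a4
  have hx1 : x1 = ((1 - r) / 2) • 1 := by linear_combination (norm := module) (1 / 2 : ℚ) • (q1 + q2)
  have hx23 : x2 + x3 = ((1 + r) / 2) • 1 := by linear_combination (norm := module) (1 / 2 : ℚ) • (q1 - q2)
  set R := x2 - x3 with hR
  have hr1 : r = 1 := by
    rcases mul_self_eq_one_iff.mp hr with e | e
    · exact e
    · exfalso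
      subst e
      norm_num at hx1 hx23
      have f3 : ((-1 : ℚ) • x1 + (1 : ℚ) • x2 + (-1 : ℚ) • x3) = R - 1 := by rw [hR, hx1]; module
      have f4 : ((-1 : ℚ) • x1 + (-1 : ℚ) • x2 + (1 : ℚ) • x3) = -R - 1 := by rw [hR, hx1]; module
      rw [f3] at a3
      rw [f4] at a4
      simp only [mul_sub, sub_mul, mul_neg, neg_mul, mul_one, one_mul] at a3 a4
      have hR0 : R = 0 := by linear_combination (norm := module) (-1 / 4 : ℚ) • (a3 - a4)
      rw [hR0] at a3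
      have : (1 : ℚ) • (1 : Module.End ℚ M) = (5 : ℚ) • 1 := by
        rw [one_smul, ← a3]; simp
      exact absurd (Z.smul_one_inj this) (by norm_num)
  subst hr1
  norm_num at hx1 hx23
  refine ⟨rfl, R, h.c2.sub h.c3, Z.symm_sub h.k2 h.k3, ?_, ?_⟩
  · rw [← a3, hx1, hR]
    simp only [mul_add, add_mul, mul_sub, sub_mul, smul_mul_assoc, mul_smul_comm, smul_zero, zero_add,
      add_zero, mul_zero, zero_mul]
    module
  · have g2 : (1 / 2 : ℚ) • (1 + R) = x2 := by rw [hR, ← hx23]; module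
    have g3 : (1 / 2 : ℚ) • (1 - R) = x3 := by rw [hR, ← hx23]; module
    have := h
    rw [hx0, hx1] at this
    rw [g2, g3]
    exact this

theorem symm_Q {a b : G} (ha : orderOf a = 3) (hb : orderOf b = 3) : Z.Symm (Z.Q a b) := fun u v => by
  simp only [Q, LinearMap.smul_apply, LinearMap.add_apply, Module.End.mul_apply, map_smul, map_add,
    Z.U_skew ha _ v, Z.U_skew hb _ v, Z.U_skew ha u, Z.U_skew hb u, neg_neg]
  ring

/-- A rational symmetric `q` with `q * q = 5` cannot satisfy `8 - 4 q ≥ 0`. -/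
theorem no_five {q S : Module.End ℚ M} (hq : q * q = (5 : ℚ) • 1) (hqs : Z.Symm q) (hSs : Z.Symm S)
    (h : S * S = (8 : ℚ) • 1 - (4 : ℚ) • q) : False := by
  obtain ⟨u, hu⟩ := Z.exists_ne
  set N := Z.form u u with hN
  set K := Z.form u (q u) with hK
  have hNpos : 0 < N := Z.pos u hu
  have hqq : q (q u) = (5 : ℚ) • u := by simpa [Module.End.mul_apply] using LinearMap.congr_fun hq u
  have hqu : Z.form (q u) u = K := by rw [hqs]
  have hqqu : Z.form (q u) (q u) = 5 * N := by rw [hqs, hqq, map_smul, smul_eq_mul]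
  have pos1 : ∀ t p : ℚ, 0 ≤ t * t * N + 2 * p * t * K + 5 * (p * p) * N := fun t p => by
    have := Z.self_nonneg (t • u + p • q u)
    simp only [map_add, map_smul, LinearMap.add_apply, LinearMap.smul_apply, smul_eq_mul, hqu, hqqu,
      ← hN, ← hK] at this
    linarith
  have pos2 : ∀ t p : ℚ, 0 ≤ 8 * (t * t * N + 2 * p * t * K + 5 * (p * p) * N) -
      4 * (t * t * K + 10 * (p * t) * N + 5 * (p * p) * K) := fun t p => by
    have h1 := Z.self_nonneg (S (t • u + p • q u))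
    rw [hSs, ← Module.End.mul_apply, h] at h1
    simp only [LinearMap.sub_apply, LinearMap.smul_apply, Module.End.one_apply, map_add, map_smul,
      LinearMap.add_apply, map_sub, smul_eq_mul, hqu, hqqu, hqq, smul_smul, smul_add,
      ← hN, ← hK] at h1
    linarith
  have h1 : K * K ≤ 5 * (N * N) := by nlinarith [pos1 (-K) N]
  have hA : 0 ≤ 8 * N - 4 * K := by nlinarith [pos2 1 0]
  have h2 : 5 * (N * N) ≤ K * K := by
    rcases hA.eq_or_lt with e | e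
    · have hK2 : K = 2 * N := by linarith
      rw [hK2] at pos2
      nlinarith [pos2 (40 * N) (1), pos2 (-40 * N) 1, pos2 1 0, pos2 10 1, pos2 (-10) 1]
    · nlinarith [pos2 (20 * N - 8 * K) (8 * N - 4 * K)]
  refine rat_sq_ne_five (K / N) ?_
  field_simp
  linarith

theorem Q_axes : Z.Q F.p1 F.p2 = (1 : ℚ) • 1 ∧ Z.Q F.p1 F.p3 = (1 : ℚ) • 1 ∧ Z.Q F.p1 F.p4 = (1 : ℚ) • 1 ∧
    Z.Q F.p2 F.p3 = (1 : ℚ) • 1 ∧ Z.Q F.p2 F.p4 = (1 : ℚ) • 1 ∧ Z.Q F.p3 F.p4 = (1 : ℚ) • 1 := by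
  refine ⟨?_, ?_, ?_, ?_, ?_, ?_⟩ <;>
  · first
      | rw [Q_vec F.u1 ((F.u2).trans (F.vec_eq _ _ _)) F.cen_zero (F.cen_scalar _) (F.cen_scalar _) (F.cen_scalar _)]
      | rw [Q_vec F.u1 ((F.u3).trans (F.vec_eq _ _ _)) F.cen_zero (F.cen_scalar _) (F.cen_scalar _) (F.cen_scalar _)]
      | rw [Q_vec F.u1 ((F.u4).trans (F.vec_eq _ _ _)) F.cen_zero (F.cen_scalar _) (F.cen_scalar _) (F.cen_scalar _)]
      | rw [Q_vec F.u2 ((F.u3).trans (F.vec_eq _ _ _)) F.cen_zero (F.cen_scalar _) (F.cen_scalar _) (F.cen_scalar _)]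
      | rw [Q_vec F.u2 ((F.u4).trans (F.vec_eq _ _ _)) F.cen_zero (F.cen_scalar _) (F.cen_scalar _) (F.cen_scalar _)]
      | rw [Q_vec F.u3 ((F.u4).trans (F.vec_eq _ _ _)) F.cen_zero (F.cen_scalar _) (F.cen_scalar _) (F.cen_scalar _)]
    simp only [comb, smul_zero, mul_zero]
    module

theorem Q_self {a : G} (ha : orderOf a = 3) : Z.Q a a = (-3 : ℚ) • 1 := by
  rw [Q, Z.U_sq ha]
  module

theorem scalar_ne {a b : G} {r s : ℚ} (h : Z.Q a b = r • 1) (h' : Z.Q a b = s • 1) : r = s :=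
  Z.smul_one_inj (h.symm.trans h')

/-- Uniqueness of the oriented outside axis. -/
theorem unique {c d : G} (hc : orderOf c = 3) (hd : orderOf d = 3) (hnc : ¬ F.Axis c)
    (hnd : ¬ F.Axis d) (hc1 : Z.Q F.p1 c = (-1 : ℚ) • 1) (hd1 : Z.Q F.p1 d = (-1 : ℚ) • 1)
    {r r' : ℚ} (hr : r * r = 1) (hr' : r' * r' = 1) (hc2 : Z.Q F.p2 c = r • 1)
    (hd2 : Z.Q F.p2 d = r' • 1) : c = d := by
  obtain ⟨rfl, R, hRc, hRs, hR5, hC⟩ := pattern hc hnc hc1 hr hc2
  obtain ⟨rfl, R', hR'c, hR's, hR'5, hD⟩ := pattern hd hnd hd1 hr' hd2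
  have hQ : Z.Q c d = (-1 / 2 : ℚ) • 1 - (1 / 4 : ℚ) • (R * R' + R' * R) := by
    rw [F.Q_comb hC.eq hD.eq hC.c0 hC.c1 hC.c2 hC.c3 hD.c0 hD.c1 hD.c2 hD.c3]
    simp only [comb, mul_add, add_mul, mul_sub, sub_mul, smul_add, smul_sub, smul_mul_assoc, mul_smul_comm,
      mul_zero, zero_mul, mul_one, one_mul]
    module
  have hsq : (R + R') * (R + R') = (8 : ℚ) • 1 - (4 : ℚ) • Z.Q c d := by
    rw [hQ]
    simp only [mul_add, add_mul, hR5, hR'5]
    module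
  rcases Z.pair_cases hc hd with ⟨-, e⟩ | ⟨-, e⟩ | e | e | e
  · exact e.symm
  · exfalso
    rw [e, Z.Q_inv hc, hc1] at hd1
    have : (1 : ℚ) • (1 : Module.End ℚ M) = (-1 : ℚ) • 1 := by rw [← hd1]; module
    exact absurd (Z.smul_one_inj this) (by norm_num)
  · -- `Q c d = 1` is impossible
    exfalso
    have hac : Z.Q F.p1 c⁻¹ = (1 : ℚ) • 1 := by rw [Z.Q_inv hc, hc1]; module
    obtain ⟨F', f1, f2, -, -, -, -, -⟩ := Setting.exists_frame F.o1 (by rw [orderOf_inv]; exact hc) hac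
    obtain ⟨k12, k13, k14, k23, k24, k34⟩ := (Q_axes : _ ∧ Z.Q F'.p1 F'.p3 = _ ∧ _)
    have hcd : Z.Q F'.p2 d = (-1 : ℚ) • 1 := by
      rw [f2, Z.Q_comm, Z.Q_inv hc, Z.Q_comm, e]; module
    by_cases hax : F'.Axis d
    · have d34 : d = F'.p3⁻¹ ∨ d = F'.p4⁻¹ := by
        rcases hax with (h | h) | (h | h) | (h | h) | (h | h)
        · exfalso
          rw [h, f1] at hd1
          exact absurd (scalar_ne (Q_self F.o1) hd1) (by norm_num)
        · exfalso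
          rw [h, f1, Z.Q_inv F.o1, Q_self F.o1, ← neg_smul] at hd1
          exact absurd (Z.smul_one_inj hd1) (by norm_num)
        · exfalso
          rw [h] at hd1
          rw [f1] at k12
          exact absurd (scalar_ne k12 hd1) (by norm_num)
        · exfalso
          rw [h, f2, inv_inv] at e
          exact absurd (scalar_ne (Q_self hc) e) (by norm_num)
        · exfalso
          rw [h] at hd1
          rw [f1] at k13
          exact absurd (scalar_ne k13 hd1) (by norm_num)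
        · exact Or.inl h
        · exfalso
          rw [h] at hd1
          rw [f1] at k14
          exact absurd (scalar_ne k14 hd1) (by norm_num)
        · exact Or.inr h
      have hb1 : Z.Q F'.p1 F.p2 = (1 : ℚ) • 1 := by rw [f1]; exact (Q_axes (F := F)).1
      have hb2 : Z.Q F'.p2 F.p2 = (-1 : ℚ) • 1 := by
        rw [f2, Z.Q_comm, Z.Q_inv hc, hc2]; module
      by_cases hax2 : F'.Axis F.p2
      · rcases hax2 with (h | h) | (h | h) | (h | h) | (h | h)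
        · rw [h, f1] at hb1; exact absurd (scalar_ne (Q_self F.o1) hb1) (by norm_num)
        · rw [h, f1, Z.Q_inv F.o1, Q_self F.o1, ← neg_smul] at hb1
          exact absurd (Z.smul_one_inj hb1) (by norm_num)
        · rw [h] at hb2; exact absurd (scalar_ne (Q_self F'.o2) hb2) (by norm_num)
        · rw [h, Z.Q_inv F'.o2, Q_self F'.o2, ← neg_smul] at hb2
          exact absurd (Z.smul_one_inj hb2) (by norm_num)
        · rw [h] at hb2; exact absurd (scalar_ne k23 hb2) (by norm_num)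
        · rw [h, Z.Q_inv F'.o3, k13, ← neg_smul] at hb1
          exact absurd (Z.smul_one_inj hb1) (by norm_num)
        · rw [h] at hb2; exact absurd (scalar_ne k24 hb2) (by norm_num)
        · rw [h, Z.Q_inv F'.o4, k14, ← neg_smul] at hb1
          exact absurd (Z.smul_one_inj hb1) (by norm_num)
      · refine three_ones F.o2 hax2 hb1 hb2 (by norm_num) (by norm_num) ?_
        rcases d34 with h | h
        · refine Or.inl ⟨-1, by norm_num, ?_⟩
          rw [h, Z.Q_inv F'.o3, Z.Q_comm] at hd2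
          rw [eq_neg_of_add_eq_zero_left (show Z.Q F'.p3 F.p2 + (1 : ℚ) • 1 = 0 by rw [← hd2]; abel)]
          module
        · refine Or.inr ⟨-1, by norm_num, ?_⟩
          rw [h, Z.Q_inv F'.o4, Z.Q_comm] at hd2
          rw [eq_neg_of_add_eq_zero_left (show Z.Q F'.p4 F.p2 + (1 : ℚ) • 1 = 0 by rw [← hd2]; abel)]
          module
    · have := (pattern hd hax (by rw [f1]; exact hd1) (by norm_num : (-1 : ℚ) * -1 = 1) hcd).1
      norm_num at this
  · -- `Q c d = -1`: compare `d` with the conjugate of `c` by the second unit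
    exfalso
    have hσ : R' * R = (2 : ℚ) • 1 - R * R' := by
      rw [hQ] at e
      linear_combination (norm := module) (-4 : ℚ) • e
    have n0 : F.Cen (-(0 : Module.End ℚ M)) := by rw [neg_zero]; exact F.cen_zero
    have n3 : F.Cen (-((1 / 2 : ℚ) • (1 - R))) := by rw [← neg_smul]; exact (F.cen_one.sub hRc).smul _
    have hc'u := U_conj2 hC.eq hC.c0 hC.c1 hC.c2 hC.c3
    set c' := F.g2 * c * F.g2⁻¹ with hc'
    have hc'o : orderOf c' = 3 := by rw [hc', orderOf_conj', hc]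
    have tR : ∀ x, R * (R * x) = (5 : ℚ) • x := fun x => by rw [← mul_assoc, hR5, smul_mul_assoc, one_mul]
    have tR' : ∀ x, R' * (R' * x) = (5 : ℚ) • x := fun x => by rw [← mul_assoc, hR'5, smul_mul_assoc, one_mul]
    have tσ : ∀ x, R' * (R * x) = (2 : ℚ) • x - R * (R' * x) := fun x => by
      rw [← mul_assoc, hσ, sub_mul, smul_mul_assoc, one_mul, mul_assoc]
    have hQ' : Z.Q d c' = F.comb ((-1 / 2 : ℚ) • (R + R')) ((1 / 4 : ℚ) • (R' * R - R * R')) 0 0 := by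
      rw [F.Q_comb hD.eq hc'u hD.c0 hD.c1 hD.c2 hD.c3 hC.c0 n0 hC.c2 n3]
      simp only [comb, mul_add, add_mul, mul_sub, sub_mul, smul_add, smul_sub, smul_mul_assoc,
        mul_smul_comm, mul_zero, zero_mul, mul_one, one_mul, mul_neg, neg_mul, neg_zero, smul_zero]
      module
    have hsq' : Z.Q d c' * Z.Q d c' = (9 : ℚ) • 1 := by
      rw [hQ', comb_mul ((hRc.add hR'c).smul _) (((hR'c.mul hRc).sub (hRc.mul hR'c)).smul _) F.cen_zero
        F.cen_zero]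
      simp only [comb, mul_add, add_mul, mul_sub, sub_mul, smul_add, smul_sub, smul_mul_assoc,
        mul_smul_comm, mul_zero, zero_mul, mul_assoc, hR5, hR'5, hσ, tR, tR', tσ, mul_one, one_mul]
      module
    obtain ⟨ν, hν, hk⟩ := Z.Q_sq hd hc'o
    have hν9 : ν = 9 := Z.smul_one_inj (hν.symm.trans hsq')
    rcases hk with ⟨-, h | h⟩ | ⟨h, -⟩ | h
    · have E := comb_inj hC.c0 n0 hC.c2 n3 hD.c0 hD.c1 hD.c2 hD.c3
        (hc'u.symm.trans ((congrArg Z.U h).trans hD.eq))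
      have hR1 : R = (1 : ℚ) • 1 := by
        linear_combination (norm := module) E.2.2.1 + E.2.2.2
      rw [hR1, smul_mul_assoc, one_mul, smul_smul] at hR5
      exact absurd (Z.smul_one_inj hR5) (by norm_num)
    · have h' : Z.U c' = -Z.U d := by rw [h, Z.U_inv hd]
      have n : ∀ {x}, F.Cen x → F.Cen (-x) := fun {x} hx => by rw [← neg_one_smul ℚ x]; exact hx.smul _
      have E := comb_inj hC.c0 n0 hC.c2 n3 (n hD.c0) (n hD.c1) (n hD.c2) (n hD.c3)
        (hc'u.symm.trans (h'.trans (by rw [hD.eq]; simp only [comb, mul_neg]; abel)))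
      have hR1 : R = (-1 : ℚ) • 1 := by
        linear_combination (norm := module) E.2.2.1 + E.2.2.2
      rw [hR1, smul_mul_assoc, one_mul, smul_smul] at hR5
      exact absurd (Z.smul_one_inj hR5) (by norm_num)
    · linarith
    · linarith
  · exact (no_five e (symm_Q hc hd) (Z.symm_add hRs hR's) hsq).elim

theorem g2_eq : F.g2 = F.p2 * F.p1⁻¹ := by
  apply Z.injective
  have h1 : (2 : ℚ) • Z.ρ F.p2 + 1 = (1 : ℚ) • F.e1 + (-1 : ℚ) • F.e2 + (-1 : ℚ) • F.e3 := F.u2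
  have h2 : Z.ρ F.p2 = (1 / 2 : ℚ) • (F.e1 - F.e2 - F.e3 - 1) := by
    linear_combination (norm := module) (1 / 2 : ℚ) • h1
  rw [map_mul, h2, F.rho_p1_inv]
  simp only [mul_add, add_mul, mul_sub, sub_mul, mul_neg, neg_mul, smul_add, smul_sub, smul_mul_assoc,
    mul_smul_comm, mul_one, one_mul, F.q11, F.q22, F.q33, F.q12, F.q23, F.q31, F.q21, F.q32, F.q13]
  module

theorem p3_eq : F.p3 = F.p1⁻¹ * F.p2 * F.p1 := by
  apply Z.U_injective
  rw [U_conj_p1 (F.u2.trans (F.vec_eq _ _ _)) F.cen_zero (F.cen_scalar _) (F.cen_scalar _) (F.cen_scalar _),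
    F.u3, F.vec_eq]

theorem p4_eq : F.p4 = F.p1 * F.p2 * F.p1⁻¹ := by
  have h := (p3_eq (F := F.cycle))
  show F.p4 = _
  rw [show F.p4 = F.cycle.p3 from rfl, h]
  show F.p1⁻¹ * F.p3 * F.p1 = _
  rw [p3_eq]
  have h3 : F.p1 * F.p1 * F.p1 = 1 := by
    rw [← pow_three']
    have := pow_orderOf_eq_one F.p1
    rwa [F.o1] at this
  have h4 : F.p1⁻¹ * F.p1⁻¹ = F.p1 := by
    rw [← mul_inv_rev, inv_eq_of_mul_eq_one_left]
    rw [← mul_assoc]
    exact h3
  have h5 : F.p1 * F.p1 = F.p1⁻¹ := eq_inv_of_mul_eq_one_left h3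
  calc F.p1⁻¹ * (F.p1⁻¹ * F.p2 * F.p1) * F.p1 = F.p1⁻¹ * F.p1⁻¹ * F.p2 * (F.p1 * F.p1) := by
        simp only [mul_assoc]
    _ = F.p1 * F.p2 * F.p1⁻¹ := by rw [h4, h5]

theorem g1_eq : F.g1 = F.p1 * F.g2 * F.p1⁻¹ := by
  have h : F.g1 = F.cycle.cycle.g2 := rfl
  rw [h, g2_eq]
  show F.p4 * F.p1⁻¹ = _
  rw [p4_eq, g2_eq]
  simp only [mul_assoc]

theorem axis_mem {c : G} (h : F.Axis c) : c ∈ Subgroup.closure {F.p1, F.p2} := by
  have h1 : F.p1 ∈ Subgroup.closure {F.p1, F.p2} := Subgroup.subset_closure (Set.mem_insert _ _)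
  have h2 : F.p2 ∈ Subgroup.closure {F.p1, F.p2} :=
    Subgroup.subset_closure (Set.mem_insert_of_mem _ rfl)
  have h3 : F.p3 ∈ Subgroup.closure {F.p1, F.p2} := by
    rw [p3_eq]; exact mul_mem (mul_mem (inv_mem h1) h2) h1
  have h4 : F.p4 ∈ Subgroup.closure {F.p1, F.p2} := by
    rw [p4_eq]; exact mul_mem (mul_mem h1 h2) (inv_mem h1)
  rcases h with (rfl | rfl) | (rfl | rfl) | (rfl | rfl) | (rfl | rfl)
  exacts [h1, inv_mem h1, h2, inv_mem h2, h3, inv_mem h3, h4, inv_mem h4]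

/-- Every outside axis is conjugate under the frame to one adjacent to the first two axes. -/
theorem exists_conj {d : G} (hd : orderOf d = 3) (hno : ¬ F.Axis d) :
    ∃ k ∈ Subgroup.closure {F.p1, F.p2}, ∃ c, (c = k * d * k⁻¹ ∨ c = (k * d * k⁻¹)⁻¹) ∧ orderOf c = 3 ∧
      ¬ F.Axis c ∧ Z.Q F.p1 c = (-1 : ℚ) • 1 ∧ ∃ r : ℚ, r * r = 1 ∧ Z.Q F.p2 c = r • 1 := by
  obtain ⟨x0, x1, x2, x3, h⟩ := F.exists_coord hd
  obtain ⟨n1, n2, n3, n4, hs, m1, m2, m3, m4, -, -, -, -, b1, b2, b3, b4⟩ := four h hno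
  have scal : ∀ (p : G), orderOf p = 3 → Z.Q p d * Z.Q p d = (1 : ℚ) • 1 →
      ∃ r : ℚ, r * r = 1 ∧ Z.Q p d = r • 1 := by
    intro p hp hb
    obtain ⟨ν, hν, hk⟩ := Z.Q_sq hp hd
    have := Z.smul_one_inj (hν.symm.trans hb)
    rcases hk with ⟨e, -⟩ | ⟨-, e | e⟩ | e
    · linarith
    · exact ⟨1, by norm_num, e⟩
    · exact ⟨-1, by norm_num, e⟩
    · linarith
  have hcl1 : F.p1 ∈ Subgroup.closure {F.p1, F.p2} := Subgroup.subset_closure (Set.mem_insert _ _)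
  have hcl2 : F.p2 ∈ Subgroup.closure {F.p1, F.p2} :=
    Subgroup.subset_closure (Set.mem_insert_of_mem _ rfl)
  have hg2 : F.g2 ∈ Subgroup.closure {F.p1, F.p2} := by rw [g2_eq]; exact mul_mem hcl2 (inv_mem hcl1)
  have hg1 : F.g1 ∈ Subgroup.closure {F.p1, F.p2} := by
    rw [g1_eq]; exact mul_mem (mul_mem hcl1 hg2) (inv_mem hcl1)
  -- it suffices to move two adjacent axes to the first two
  suffices key : ∀ k ∈ Subgroup.closure {F.p1, F.p2}, ∀ q q' : G, orderOf q = 3 → orderOf q' = 3 →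
      k * q * k⁻¹ = F.p1 → k * q' * k⁻¹ = F.p2 → Z.Q q d * Z.Q q d = (1 : ℚ) • 1 →
      Z.Q q' d * Z.Q q' d = (1 : ℚ) • 1 →
      ∃ k ∈ Subgroup.closure {F.p1, F.p2}, ∃ c, (c = k * d * k⁻¹ ∨ c = (k * d * k⁻¹)⁻¹) ∧ orderOf c = 3 ∧
        ¬ F.Axis c ∧ Z.Q F.p1 c = (-1 : ℚ) • 1 ∧ ∃ r : ℚ, r * r = 1 ∧ Z.Q F.p2 c = r • 1 by
    have c1 : F.g1 * F.p2 * F.g1⁻¹ = F.p1 ∧ F.g1 * F.p3 * F.g1⁻¹ = F.p4 ∧
        F.g1 * F.p4 * F.g1⁻¹ = F.p3 := by
      refine ⟨?_, ?_, ?_⟩ <;>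
      · apply Z.U_injective
        rw [Z.U_conj, F.inv1]
        simp only [F.u1, F.u2, F.u3, F.u4, vec, mul_add, add_mul, mul_neg, neg_mul, smul_mul_assoc,
          mul_smul_comm, mul_assoc, F.q11, F.q22, F.q33, F.q12, F.q23, F.q31, F.q21, F.q32, F.q13, F.t11,
          F.t22, F.t33, F.t12, F.t23, F.t31, F.t21, F.t32, F.t13, mul_one, neg_neg]
        module
    have c2 : F.g2 * F.p3 * F.g2⁻¹ = F.p1 ∧ F.g2 * F.p4 * F.g2⁻¹ = F.p2 := by
      refine ⟨?_, ?_⟩ <;>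
      · apply Z.U_injective
        rw [Z.U_conj, F.inv2]
        simp only [F.u1, F.u2, F.u3, F.u4, vec, mul_add, add_mul, mul_neg, neg_mul, smul_mul_assoc,
          mul_smul_comm, mul_assoc, F.q11, F.q22, F.q33, F.q12, F.q23, F.q31, F.q21, F.q32, F.q13, F.t11,
          F.t22, F.t33, F.t12, F.t23, F.t31, F.t21, F.t32, F.t13, mul_one, neg_neg]
        module
    have c3 : F.p1 * F.p3 * F.p1⁻¹ = F.p2 := by rw [p3_eq]; group
    have c4 : F.p1⁻¹ * F.p4 * F.p1⁻¹⁻¹ = F.p2 := by rw [p4_eq]; group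
    rcases m1 with e1 | e1 <;> rcases m2 with e2 | e2 <;> rcases m3 with e3 | e3 <;>
      rcases m4 with e4 | e4 <;> try (exfalso; linarith)
    all_goals rw [e1] at b1
    all_goals rw [e2] at b2
    all_goals rw [e3] at b3
    all_goals rw [e4] at b4
    · exact key 1 (one_mem _) F.p1 F.p2 F.o1 F.o2 (by group) (by group) b1 b2
    · exact key F.p1 hcl1 F.p1 F.p3 F.o1 F.o3 (by group) c3 b1 b3
    · exact key F.p1⁻¹ (inv_mem hcl1) F.p1 F.p4 F.o1 F.o4 (by group) c4 b1 b4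
    · refine key (F.p1⁻¹ * F.g1) (mul_mem (inv_mem hcl1) hg1) F.p2 F.p3 F.o2 F.o3 ?_ ?_ b2 b3
      · calc F.p1⁻¹ * F.g1 * F.p2 * (F.p1⁻¹ * F.g1)⁻¹ = F.p1⁻¹ * (F.g1 * F.p2 * F.g1⁻¹) * F.p1 := by group
          _ = F.p1 := by rw [c1.1]; group
      · calc F.p1⁻¹ * F.g1 * F.p3 * (F.p1⁻¹ * F.g1)⁻¹ = F.p1⁻¹ * (F.g1 * F.p3 * F.g1⁻¹) * F.p1 := by group
          _ = F.p2 := by rw [c1.2.1, p4_eq]; group
    · refine key (F.p1 * F.g1) (mul_mem hcl1 hg1) F.p2 F.p4 F.o2 F.o4 ?_ ?_ b2 b4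
      · calc F.p1 * F.g1 * F.p2 * (F.p1 * F.g1)⁻¹ = F.p1 * (F.g1 * F.p2 * F.g1⁻¹) * F.p1⁻¹ := by group
          _ = F.p1 := by rw [c1.1]; group
      · calc F.p1 * F.g1 * F.p4 * (F.p1 * F.g1)⁻¹ = F.p1 * (F.g1 * F.p4 * F.g1⁻¹) * F.p1⁻¹ := by group
          _ = F.p2 := by rw [c1.2.2, c3]
    · exact key F.g2 hg2 F.p3 F.p4 F.o3 F.o4 c2.1 c2.2 b3 b4
  intro k hk q q' hq hq' e e' b b'
  obtain ⟨r, hr, hQ⟩ := scal q hq b
  obtain ⟨r', hr', hQ'⟩ := scal q' hq' b'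
  have f1 := Z.Q_conj_scalar k hQ
  have f2 := Z.Q_conj_scalar k hQ'
  rw [e] at f1
  rw [e'] at f2
  have ho : orderOf (k * d * k⁻¹) = 3 := by rw [orderOf_conj', hd]
  have hna : ¬ F.Axis (k * d * k⁻¹) := fun hax => hno (by
    -- axes are preserved by the frame
    have key2 : ∀ x ∈ Subgroup.closure {F.p1, F.p2}, ∀ y : G, F.Axis y → F.Axis (x⁻¹ * y * x) := by
      intro x hx
      induction hx using Subgroup.closure_induction with
      | mem z hz =>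
        have hu : ∀ (q : G) (s1 s2 s3 : ℚ), Z.U q = vec F.e1 F.e2 F.e3 s1 s2 s3 →
            Z.U (F.p1⁻¹ * q * F.p1) = vec F.e1 F.e2 F.e3 s3 s1 s2 := fun q s1 s2 s3 h => by
          rw [U_conj_p1 (h.trans (F.vec_eq _ _ _)) F.cen_zero (F.cen_scalar _) (F.cen_scalar _)
            (F.cen_scalar _), F.vec_eq]
        have a1 : F.p1⁻¹ * F.p1 * F.p1 = F.p1 := by group
        have a2 : F.p1⁻¹ * F.p2 * F.p1 = F.p3 := p3_eq.symm
        have a3 : F.p1⁻¹ * F.p3 * F.p1 = F.p4 := Z.U_injective (by rw [hu _ _ _ _ F.u3, F.u4])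
        have a4 : F.p1⁻¹ * F.p4 * F.p1 = F.p2 := Z.U_injective (by rw [hu _ _ _ _ F.u4, F.u2])
        have inv' : ∀ x y w : G, x⁻¹ * y * x = w → x⁻¹ * y⁻¹ * x = w⁻¹ := fun x y w h => by
          rw [← h]; group
        rcases hz with rfl | rfl
        · rintro y ((rfl | rfl) | (rfl | rfl) | (rfl | rfl) | (rfl | rfl))
          exacts [Or.inl (Or.inl a1), Or.inl (Or.inr (inv' _ _ _ a1)), Or.inr (Or.inr (Or.inl (Or.inl a2))),
            Or.inr (Or.inr (Or.inl (Or.inr (inv' _ _ _ a2)))), Or.inr (Or.inr (Or.inr (Or.inl a3))),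
            Or.inr (Or.inr (Or.inr (Or.inr (inv' _ _ _ a3)))), Or.inr (Or.inl (Or.inl a4)),
            Or.inr (Or.inl (Or.inr (inv' _ _ _ a4)))]
        · have hb : Z.ρ F.p2 = (1 / 2 : ℚ) • (F.e1 - F.e2 - F.e3 - 1) := by
            have h1 : (2 : ℚ) • Z.ρ F.p2 + 1 = (1 : ℚ) • F.e1 + (-1 : ℚ) • F.e2 + (-1 : ℚ) • F.e3 := F.u2
            linear_combination (norm := module) (1 / 2 : ℚ) • h1
          have hbi : Z.ρ F.p2⁻¹ = (1 / 2 : ℚ) • (-F.e1 + F.e2 + F.e3 - 1) := by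
            rw [Z.rho_inv F.o2, hb]; module
          have bb : F.p2⁻¹ * F.p2 * F.p2 = F.p2 := by group
          have b1' : F.p2⁻¹ * F.p1 * F.p2 = F.p4 ∧ F.p2⁻¹ * F.p3 * F.p2 = F.p1 ∧
              F.p2⁻¹ * F.p4 * F.p2 = F.p3 := by
            refine ⟨?_, ?_, ?_⟩ <;>
            · apply Z.U_injective
              rw [show Z.U (F.p2⁻¹ * _ * F.p2) = _ from by
                have := Z.U_conj F.p2⁻¹; simp only [inv_inv] at this; exact this _, hb, hbi]
              simp only [F.u1, F.u2, F.u3, F.u4, vec, mul_add, add_mul, mul_sub, sub_mul, mul_neg, neg_mul,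
                smul_add, smul_sub, smul_mul_assoc, mul_smul_comm, mul_assoc, mul_one, one_mul, F.q11, F.q22,
                F.q33, F.q12, F.q23, F.q31, F.q21, F.q32, F.q13, F.t11, F.t22, F.t33, F.t12, F.t23, F.t31,
                F.t21, F.t32, F.t13]
              module
          rintro y ((rfl | rfl) | (rfl | rfl) | (rfl | rfl) | (rfl | rfl))
          exacts [Or.inr (Or.inr (Or.inr (Or.inl b1'.1))), Or.inr (Or.inr (Or.inr (Or.inr (inv' _ _ _ b1'.1)))),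
            Or.inr (Or.inl (Or.inl bb)), Or.inr (Or.inl (Or.inr (inv' _ _ _ bb))), Or.inl (Or.inl b1'.2.1),
            Or.inl (Or.inr (inv' _ _ _ b1'.2.1)), Or.inr (Or.inr (Or.inl (Or.inl b1'.2.2))),
            Or.inr (Or.inr (Or.inl (Or.inr (inv' _ _ _ b1'.2.2))))]
      | one => intro y hy; simpa using hy
      | mul a b _ _ ha hb =>
        intro y hy
        have := hb _ (ha _ hy)
        rwa [show b⁻¹ * (a⁻¹ * y * a) * b = (a * b)⁻¹ * y * (a * b) by group] at this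
      | inv a _ ha =>
        -- a bijection of a finite set
        intro y hy
        have hfin : {y : G | F.Axis y}.Finite := by
          refine ((Set.toFinite ({F.p1, F.p1⁻¹, F.p2, F.p2⁻¹, F.p3, F.p3⁻¹, F.p4, F.p4⁻¹} : Set G)).subset ?_)
          rintro z ((rfl | rfl) | (rfl | rfl) | (rfl | rfl) | (rfl | rfl)) <;> simp
        have hinj : Set.InjOn (fun z => a⁻¹ * z * a) {y : G | F.Axis y} := fun z _ z' _ h => by simpa using h
        have := (Set.Finite.injOn_iff_bijOn_of_mapsTo hfin fun z hz => ha z hz).mp hinj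
        obtain ⟨z, hz, hzy⟩ := this.surjOn hy
        have : a⁻¹⁻¹ * y * a⁻¹ = z := by rw [← hzy]; group
        rw [this]
        exact hz
    have := key2 k hk _ hax
    rwa [show k⁻¹ * (k * d * k⁻¹) * k = d by group] at this)
  rcases mul_self_eq_one_iff.mp hr with rfl | rfl
  · refine ⟨k, hk, (k * d * k⁻¹)⁻¹, Or.inr rfl, by rw [orderOf_inv, ho], fun hax => hna ?_, ?_, -r', ?_, ?_⟩
    · rcases hax with (h | h) | (h | h) | (h | h) | (h | h) <;> rw [inv_eq_iff_eq_inv] at h <;>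
        (try simp only [inv_inv] at h)
      exacts [Or.inl (Or.inr h), Or.inl (Or.inl h), Or.inr (Or.inl (Or.inr h)), Or.inr (Or.inl (Or.inl h)),
        Or.inr (Or.inr (Or.inl (Or.inr h))), Or.inr (Or.inr (Or.inl (Or.inl h))),
        Or.inr (Or.inr (Or.inr (Or.inr h))), Or.inr (Or.inr (Or.inr (Or.inl h)))]
    · rw [Z.Q_inv ho, f1]; module
    · linarith [hr']
    · rw [Z.Q_inv ho, f2]; module
  · exact ⟨k, hk, k * d * k⁻¹, Or.inl rfl, ho, hna, f1, r', hr', f2⟩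

/-- The subgroup generated by a frame and one adjacent outside axis contains all axes. -/
theorem mem_closure_of_orderOf {c : G} (hc : orderOf c = 3) (hnc : ¬ F.Axis c)
    (hc1 : Z.Q F.p1 c = (-1 : ℚ) • 1) {r : ℚ} (hr : r * r = 1) (hc2 : Z.Q F.p2 c = r • 1)
    {d : G} (hd : orderOf d = 3) : d ∈ Subgroup.closure {F.p1, F.p2, c} := by
  have hle : Subgroup.closure {F.p1, F.p2} ≤ Subgroup.closure {F.p1, F.p2, c} :=
    Subgroup.closure_mono (by
      rintro x (rfl | rfl)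
      · exact Set.mem_insert _ _
      · exact Set.mem_insert_of_mem _ (Set.mem_insert _ _))
  by_cases hax : F.Axis d
  · exact hle (axis_mem hax)
  obtain ⟨k, hk, c', hc', hc'o, hc'n, h1, r', hr', h2⟩ := exists_conj hd hax
  obtain rfl := unique hc hc'o hnc hc'n hc1 h1 hr hr' hc2 h2
  have hcm : c ∈ Subgroup.closure {F.p1, F.p2, c} :=
    Subgroup.subset_closure (Set.mem_insert_of_mem _ (Set.mem_insert_of_mem _ rfl))
  have hkd : k * d * k⁻¹ ∈ Subgroup.closure {F.p1, F.p2, c} := by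
    rcases hc' with e | e
    · exact e ▸ hcm
    · rw [e, inv_mem_iff] at hcm
      rw [e]
      exact hcm
  have := mul_mem (mul_mem (inv_mem (hle hk)) hkd) (hle hk)
  rwa [show k⁻¹ * (k * d * k⁻¹) * k = d by group] at this

end Frame

/-- Two noncommuting elements of order three give a frame. -/
theorem exists_frame_of_noncomm (Z : Setting G M) {a b : G} (ha : orderOf a = 3) (hb : orderOf b = 3)
    (h1 : b ≠ a) (h2 : b ≠ a⁻¹) : Nonempty (Frame Z) := by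
  rcases Z.pair_cases ha hb with ⟨-, e⟩ | ⟨-, e⟩ | e | e | e
  · exact absurd e h1
  · exact absurd e h2
  · obtain ⟨F, -⟩ := Setting.exists_frame ha hb e
    exact ⟨F⟩
  · obtain ⟨F, -⟩ := Setting.exists_frame ha (by rw [orderOf_inv]; exact hb : orderOf b⁻¹ = 3)
      (by rw [Z.Q_inv hb, e]; module)
    exact ⟨F⟩
  · set X := Z.U a with hX
    set Y := Z.U b with hY
    set q := Z.Q a b with hq
    have hXX : X * X = (-3 : ℚ) • 1 := Z.U_sq ha
    have hYY : Y * Y = (-3 : ℚ) • 1 := Z.U_sq hb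
    have hYX : Y * X = (2 : ℚ) • q - X * Y := by rw [hq, Q, ← hX, ← hY]; module
    have tX : ∀ x, X * (X * x) = (-3 : ℚ) • x := fun x => by rw [← mul_assoc, hXX, smul_mul_assoc, one_mul]
    have tY : ∀ x, Y * (Y * x) = (-3 : ℚ) • x := fun x => by rw [← mul_assoc, hYY, smul_mul_assoc, one_mul]
    have tYX : ∀ x, Y * (X * x) = (2 : ℚ) • (q * x) - X * (Y * x) := fun x => by
      rw [← mul_assoc, hYX, sub_mul, smul_mul_assoc, mul_assoc]
    have hXYX : q * X = X * q := by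
      rw [hq, Q, ← hX, ← hY]
      simp only [smul_mul_assoc, mul_smul_comm, add_mul, mul_add, mul_assoc, hXX, tX, mul_one]
      module
    have hYq : q * Y = Y * q := by
      rw [hq, Q, ← hX, ← hY]
      simp only [smul_mul_assoc, mul_smul_comm, add_mul, mul_add, mul_assoc, hYY, tY, mul_one]
      module
    have tqX : ∀ x, q * (X * x) = X * (q * x) := fun x => by rw [← mul_assoc, hXYX, mul_assoc]
    have tqY : ∀ x, q * (Y * x) = Y * (q * x) := fun x => by rw [← mul_assoc, hYq, mul_assoc]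
    have tqq : ∀ x, q * (q * x) = (5 : ℚ) • x := fun x => by rw [← mul_assoc, e, smul_mul_assoc, one_mul]
    have hb' : orderOf (a * b * a⁻¹) = 3 := by rw [orderOf_conj', hb]
    have hQ : Z.Q b (a * b * a⁻¹) = (-1 : ℚ) • 1 := by
      rw [Q, Z.U_conj, ← hY, Z.rho_inv ha, show Z.ρ a = (1 / 2 : ℚ) • (X - 1) by rw [hX, U]; module]
      simp only [mul_add, add_mul, mul_sub, sub_mul, neg_mul, mul_neg, smul_add, smul_sub, smul_mul_assoc,
        mul_smul_comm, mul_one, one_mul, mul_assoc, hXX, hYY, hYX, tX, tY, tYX, hXYX, hYq, tqX, tqY, tqq, e]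
      module
    obtain ⟨F, -⟩ := Setting.exists_frame hb (by rw [orderOf_inv]; exact hb' : orderOf (a * b * a⁻¹)⁻¹ = 3)
      (by rw [Z.Q_inv hb', hQ]; module)
    exact ⟨F⟩

end Cfsg.Agent.FPF25.Setting
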