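import Cfsg.Agent.FPF25.Setting
import Cfsg.Agent.Char.Galois

/-!
From a fixed-point-free representation modulo a prime not dividing the group order to a rational
setting: the functions on the group killed by all cyclic sums.
-/

set_option autoImplicit false

namespace Cfsg.Agent.FPF25

/-- A faithful fixed-point-free representation over a prime field of coprime characteristic. -/
def HasFPF (G : Type*) [Group G] : Prop :=
  ∃ (q n : ℕ) (_ : Fact q.Prime) (ρ : G →* GL (Fin n) (ZMod q)), 0 < n ∧ ¬ q ∣ Nat.card G ∧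
    ∀ (g : G) (v : Fin n → ZMod q), g ≠ 1 → Matrix.mulVec (ρ g : Matrix (Fin n) (Fin n) (ZMod q)) v = v → v = 0

theorem HasFPF.comap {G H : Type*} [Group G] [Group H] [Finite G] (f : H →* G)
    (hf : Function.Injective f) (h : HasFPF G) : HasFPF H := by
  obtain ⟨q, n, hq, ρ, hn, hco, hfree⟩ := h
  exact ⟨q, n, hq, ρ.comp f, hn, fun hd => hco (hd.trans (Subgroup.card_dvd_of_injective f hf)),
    fun g v hg hv => hfree (f g) v (fun e => hg (hf (e.trans (map_one f).symm))) hv⟩

section Lift

variable {q k n : ℕ} [Fact q.Prime]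

theorem kernel_pow_eq_one {R : Type*} [Ring R] (hq : ((q ^ k : ℕ) : R) = 0) (y : R)
    (hy : ∃ z : R, y = 1 + (q : R) * z) : y ^ q ^ k = 1 := by
  have step : ∀ j, ∀ x : R, (∃ z, x = 1 + (q : R) ^ (j + 1) * z) → ∃ z, x ^ q = 1 + (q : R) ^ (j + 2) * z := by
    rintro j x ⟨z, rfl⟩
    set x := 1 + (q : R) ^ (j + 1) * z with hx
    have hc : ∀ w : R, w * (q : R) = (q : R) * w := fun w => (Nat.cast_comm q w).symm
    have hpow : ∀ i, ∃ w, x ^ i = 1 + (q : R) * w := by
      intro i
      induction i with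
      | zero => exact ⟨0, by simp⟩
      | succ i ih =>
        obtain ⟨w, hw⟩ := ih
        refine ⟨w + (q : R) ^ j * z + w * ((q : R) ^ (j + 1) * z), ?_⟩
        rw [pow_succ, hw, hx, mul_add, add_mul, one_mul, mul_one, add_mul, one_mul, mul_add, mul_add,
          ← mul_assoc (q : R) ((q : R) ^ j), ← pow_succ', ← mul_assoc (q : R) w, add_assoc, add_assoc]
    choose w hw using hpow
    refine ⟨z * (1 + ∑ i ∈ Finset.range q, w i), ?_⟩
    have h1 := mul_geom_sum x q
    rw [Finset.sum_congr rfl fun i _ => hw i] at h1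
    simp only [Finset.sum_add_distrib, Finset.sum_const, Finset.card_range, nsmul_eq_mul, mul_one,
      ← Finset.mul_sum] at h1
    rw [← sub_eq_iff_eq_add', ← h1, hx, add_sub_cancel_left, pow_succ _ (j + 1), mul_assoc, mul_assoc]
    congr 1
    simp only [mul_add, mul_one]
    rw [hc z, ← mul_assoc z, hc z, mul_assoc]
  have key : ∀ j, ∃ z, y ^ q ^ j = 1 + (q : R) ^ (j + 1) * z := by
    intro j
    induction j with
    | zero =>
      obtain ⟨z, hz⟩ := hy
      exact ⟨z, by rw [pow_zero, pow_one, pow_one, hz]⟩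
    | succ j ih =>
      rw [pow_succ, pow_mul]
      exact step j _ ih
  obtain ⟨z, hz⟩ := key k
  rw [hz, pow_succ, ← Nat.cast_pow, hq, zero_mul, zero_mul, add_zero]

/-- Lifting a coprime representation modulo `q` to one modulo `q ^ k`. -/
theorem exists_lift {G : Type*} [Group G] [Finite G] (hco : ¬ q ∣ Nat.card G)
    (ρ : G →* GL (Fin n) (ZMod q)) (hρ : Function.Injective ρ) (hk : k ≠ 0) :
    ∃ σ : G →* GL (Fin n) (ZMod (q ^ k)),
      ∀ g, Matrix.GeneralLinearGroup.map (ZMod.castHom (dvd_pow_self q hk) (ZMod q)) (σ g) = ρ g := by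
  classical
  haveI : NeZero (q ^ k) := ⟨pow_ne_zero _ (Fact.out : q.Prime).ne_zero⟩
  set c := ZMod.castHom (dvd_pow_self q hk) (ZMod q) with hc
  set red : GL (Fin n) (ZMod (q ^ k)) →* GL (Fin n) (ZMod q) := Matrix.GeneralLinearGroup.map c with hred
  set Γ := ρ.range.comap red with hΓ
  let r : Γ →* ρ.range := red.subgroupComap ρ.range
  have hsurj : Function.Surjective red := by
    intro A
    have hc' : Function.Surjective c := ZMod.castHom_surjective _
    choose f hf using hc'
    let B : Matrix (Fin n) (Fin n) (ZMod (q ^ k)) := (A : Matrix (Fin n) (Fin n) (ZMod q)).map f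
    have hB : B.map c = (A : Matrix (Fin n) (Fin n) (ZMod q)) := by
      ext i j; exact hf _
    have hdet : IsUnit B.det := by
      have h1 : IsUnit (c B.det) := by
        rw [RingHom.map_det]
        show IsUnit (B.map c).det
        rw [hB]
        exact (Matrix.isUnit_iff_isUnit_det _).mp A.isUnit
      rw [← ZMod.natCast_zmod_val B.det, ZMod.isUnit_iff_coprime]
      refine Nat.Coprime.pow_right k ?_
      rw [← ZMod.natCast_zmod_val B.det, map_natCast] at h1
      exact (ZMod.isUnit_iff_coprime _ _).mp h1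
    refine ⟨((Matrix.isUnit_iff_isUnit_det B).mpr hdet).unit, Units.ext ?_⟩
    exact hB
  have hr : Function.Surjective r := by
    rintro ⟨A, hA⟩
    obtain ⟨B, rfl⟩ := hsurj A
    exact ⟨⟨B, hA⟩, rfl⟩
  have hker : IsPGroup q r.ker := by
    rintro ⟨⟨y, hy⟩, hy'⟩
    refine ⟨k, Subtype.ext (Subtype.ext (Units.ext ?_))⟩
    show ((y : Matrix (Fin n) (Fin n) (ZMod (q ^ k))) ^ q ^ k) = 1
    have h0 : red y = 1 := congrArg Subtype.val (MonoidHom.mem_ker.mp hy')
    refine kernel_pow_eq_one ?_ _ ?_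
    · ext i j
      rw [Matrix.zero_apply]
      rw [show ((q ^ k : ℕ) : Matrix (Fin n) (Fin n) (ZMod (q ^ k))) = Matrix.diagonal (fun _ => ((q ^ k : ℕ) : ZMod (q ^ k))) from
        (Matrix.diagonal_natCast _).symm]
      rw [ZMod.natCast_self, Matrix.diagonal_zero, Matrix.zero_apply]
    · have h1 : ∀ i j, c (((y : Matrix (Fin n) (Fin n) (ZMod (q ^ k))) - 1) i j) = 0 := by
        intro i j
        have h2' : (red y : Matrix (Fin n) (Fin n) (ZMod q)) = 1 := congrArg Units.val h0
        have h2 : c ((y : Matrix (Fin n) (Fin n) (ZMod (q ^ k))) i j) = (1 : Matrix (Fin n) (Fin n) (ZMod q)) i j :=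
          Matrix.ext_iff.mpr h2' i j
        rw [Matrix.sub_apply, map_sub, h2]
        by_cases hij : i = j
        · subst hij; simp
        · simp [Matrix.one_apply_ne hij]
      have h3 : ∀ i j, ∃ z : ZMod (q ^ k), ((y : Matrix (Fin n) (Fin n) (ZMod (q ^ k))) - 1) i j = (q : ZMod (q ^ k)) * z := by
        intro i j
        set x := ((y : Matrix (Fin n) (Fin n) (ZMod (q ^ k))) - 1) i j
        have : c x = 0 := h1 i j
        rw [show x = ((x.val : ℕ) : ZMod (q ^ k)) from (ZMod.natCast_zmod_val x).symm, map_natCast,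
          ZMod.natCast_eq_zero_iff] at this
        obtain ⟨m, hm⟩ := this
        exact ⟨(m : ZMod (q ^ k)), by rw [← Nat.cast_mul, ← hm, ZMod.natCast_zmod_val]⟩
      choose z hz using h3
      refine ⟨Matrix.of z, ?_⟩
      rw [← sub_eq_iff_eq_add', ← nsmul_eq_mul]
      ext i j
      rw [hz i j, Matrix.smul_apply, nsmul_eq_mul]
      rfl
  have hidx : r.ker.index = Nat.card G := by
    rw [Subgroup.index_ker, MonoidHom.range_eq_top.mpr hr, Subgroup.card_top]
    exact (Nat.card_congr (MonoidHom.ofInjective hρ).toEquiv).symm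
  have hcop : (Nat.card r.ker).Coprime r.ker.index := by
    obtain ⟨m, hm⟩ := IsPGroup.iff_card.mp hker
    rw [hm, hidx]
    exact ((Nat.Prime.coprime_iff_not_dvd Fact.out).mpr hco).pow_left m
  obtain ⟨C, hC⟩ := Subgroup.exists_right_complement'_of_coprime hcop
  let e := (hC.symm.QuotientMulEquiv).symm.trans (QuotientGroup.quotientKerEquivOfSurjective r hr)
  refine ⟨(Γ.subtype.comp C.subtype).comp (e.symm.toMonoidHom.comp ρ.rangeRestrict), fun g => ?_⟩
  set x := e.symm (ρ.rangeRestrict g) with hx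
  have h1 : e x = ρ.rangeRestrict g := e.apply_symm_apply _
  have h2 : e x = r (x : Γ) := rfl
  exact congrArg Subtype.val (h2.symm.trans h1)

end Lift

section Functions

variable (G : Type*) [Group G] [Finite G] (K : Type*) [CommRing K]

/-- The functions killed by all sums over translated nontrivial cyclic subgroups. -/
def cyc : Submodule K (G → K) where
  carrier := {f | ∀ x g : G, g ≠ 1 → ∑ i ∈ Finset.range (orderOf g), f (x * g ^ i) = 0}
  add_mem' := fun {f f'} hf hf' x g hg => by
    simp only [Pi.add_apply, Finset.sum_add_distrib, hf x g hg, hf' x g hg, add_zero]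
  zero_mem' := fun x g _ => by simp
  smul_mem' := fun r f hf x g hg => by
    simp only [Pi.smul_apply, smul_eq_mul, ← Finset.mul_sum, hf x g hg, mul_zero]

/-- Left translation. -/
def trans : G →* Module.End K (cyc G K) where
  toFun y := LinearMap.restrict (LinearMap.funLeft K K fun x => y⁻¹ * x) (fun f hf x g hg => by
    simp only [LinearMap.funLeft_apply]
    simp only [← mul_assoc]
    exact hf (y⁻¹ * x) g hg)
  map_one' := by
    ext f x
    simp [LinearMap.restrict_apply, LinearMap.funLeft_apply]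
  map_mul' y z := by
    refine LinearMap.ext fun f => Subtype.ext (funext fun x => ?_)
    show f.1 ((y * z)⁻¹ * x) = f.1 (z⁻¹ * (y⁻¹ * x))
    rw [mul_inv_rev, mul_assoc]

variable {G K}

theorem trans_apply (y : G) (f : cyc G K) (x : G) : (trans G K y f).1 x = f.1 (y⁻¹ * x) := rfl

theorem trans_free [IsDomain K] [CharZero K] (g : G) (f : cyc G K) (hg : g ≠ 1)
    (hf : trans G K g f = f) : f = 0 := by
  refine Subtype.ext (funext fun x => ?_)
  have h1 : ∀ z, f.1 (g⁻¹ * z) = f.1 z := fun z => congrFun (congrArg Subtype.val hf) z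
  have h2 : ∀ i : ℕ, f.1 (x * (x⁻¹ * g * x) ^ i) = f.1 x := by
    intro i
    have e : x * (x⁻¹ * g * x) ^ i = g ^ i * x := by
      induction i with
      | zero => simp
      | succ i ih =>
        rw [pow_succ, ← mul_assoc, ih, pow_succ]
        group
    rw [e]
    induction i with
    | zero => simp
    | succ i ih =>
      have e' : ∀ j : ℕ, x * (x⁻¹ * g * x) ^ j = g ^ j * x := fun j => by
        induction j with
        | zero => simp
        | succ j ihj =>
          rw [pow_succ, ← mul_assoc, ihj, pow_succ]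
          group
      rw [← ih (e' i), ← h1 (g ^ (i + 1) * x), pow_succ', mul_assoc, inv_mul_cancel_left]
  have hne : x⁻¹ * g * x ≠ 1 := fun e => hg (by
    have := congrArg (fun t => x * t * x⁻¹) e
    simpa [mul_assoc] using this)
  have h3 := f.2 x (x⁻¹ * g * x) hne
  simp only [h2, Finset.sum_const, Finset.card_range, nsmul_eq_mul, mul_eq_zero, Nat.cast_eq_zero] at h3
  exact h3.resolve_left (orderOf_pos _).ne'

theorem trans_three (a : G) (ha : orderOf a = 3) (f : cyc G K) (x : G) :
    f.1 x + f.1 (a * x) + f.1 (a⁻¹ * x) = 0 := by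
  have hne : x⁻¹ * a * x ≠ 1 := fun e => by
    have : a = 1 := by simpa [mul_assoc] using congrArg (fun t => x * t * x⁻¹) e
    rw [this, orderOf_one] at ha
    omega
  have h := f.2 x (x⁻¹ * a * x) hne
  have ho : orderOf (x⁻¹ * a * x) = 3 := by
    have := Setting.orderOf_conj' x⁻¹ a
    rw [inv_inv] at this
    rw [this, ha]
  rw [ho] at h
  simp only [Finset.sum_range_succ, Finset.sum_range_zero, zero_add, pow_zero, mul_one, pow_one,
    pow_succ, one_mul] at h
  have h2 : a * a = a⁻¹ := by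
    refine eq_inv_of_mul_eq_one_left ?_
    have := pow_orderOf_eq_one a
    rwa [ha, pow_three'] at this
  rw [show x * (x⁻¹ * a * x) = a * x by group,
    show x * (x⁻¹ * a * x * (x⁻¹ * a * x)) = a * a * x by group, h2] at h
  exact h

end Functions

variable {G : Type*} [Group G] [Finite G]

/-- The space is not zero. -/
theorem exists_ne_zero_rat (h : HasFPF G) : ∃ f : cyc G ℚ, f ≠ 0 := by
  classical
  cases nonempty_fintype G
  obtain ⟨q, n, hq, ρ, hn, hco, hfree⟩ := h
  by_contra hcon
  push Not at hcon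
  let cnt : G × G → G → ℕ := fun p y =>
    if p.2 = 1 then 0 else ((Finset.range (orderOf p.2)).filter fun i => p.1 * p.2 ^ i = y).card
  have hcnt : ∀ {K : Type} [CommRing K] (f : G → K) (p : G × G),
      ∑ y, (cnt p y : K) * f y = if p.2 = 1 then 0 else ∑ i ∈ Finset.range (orderOf p.2), f (p.1 * p.2 ^ i) := by
    intro K _ f p
    by_cases hp : p.2 = 1
    · simp [cnt, hp]
    · simp only [cnt, hp, if_false]
      rw [← Finset.sum_fiberwise (Finset.range (orderOf p.2)) (fun i => p.1 * p.2 ^ i)]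
      refine Finset.sum_congr rfl fun y _ => ?_
      rw [Finset.sum_congr rfl (g := fun _ => f y) fun i hi => by rw [(Finset.mem_filter.mp hi).2],
        Finset.sum_const, nsmul_eq_mul]
  let T : (G → ℚ) →ₗ[ℚ] (G × G → ℚ) := Matrix.mulVecLin (Matrix.of fun p y => (cnt p y : ℚ))
  have hT : LinearMap.ker T = ⊥ := by
    rw [Submodule.eq_bot_iff]
    intro f hf
    have hmem : f ∈ cyc G ℚ := fun x g hg => by
      have h1 : ∑ y, (cnt (x, g) y : ℚ) * f y = 0 := congrFun (LinearMap.mem_ker.mp hf) (x, g)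
      rw [hcnt f (x, g), if_neg hg] at h1
      exact h1
    exact congrArg Subtype.val (hcon ⟨f, hmem⟩)
  obtain ⟨L, hL⟩ := LinearMap.exists_leftInverse_of_injective T hT
  let c : G × G → ℚ := fun p => L (Pi.single p 1) 1
  have hc : ∀ y, ∑ p, (cnt p y : ℚ) * c p = if y = 1 then 1 else 0 := by
    intro y
    have h1 := congrFun (LinearMap.congr_fun hL (Pi.single y 1)) 1
    rw [LinearMap.id_apply, LinearMap.comp_apply] at h1
    have h2 : T (Pi.single y 1) = ∑ p, (cnt p y : ℚ) • Pi.single p (1 : ℚ) := by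
      funext p
      simp [T, Matrix.mulVec, dotProduct, Pi.single_apply]
    rw [h2, map_sum, Finset.sum_apply] at h1
    simp only [map_smul, Pi.smul_apply, smul_eq_mul] at h1
    rw [Pi.single_apply] at h1
    rw [h1]
    exact if_congr eq_comm rfl rfl
  set N : ℕ := ∏ p, (c p).den with hN
  have hNpos : 0 < N := Finset.prod_pos fun p _ => (c p).den_pos
  have hint : ∀ p, ∃ z : ℤ, (N : ℚ) * c p = z := fun p => by
    obtain ⟨d, hd⟩ := Finset.dvd_prod_of_mem (fun p => (c p).den) (Finset.mem_univ p)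
    refine ⟨d * (c p).num, ?_⟩
    rw [hN, hd]
    push_cast
    rw [mul_comm ((c p).den : ℚ), mul_assoc]
    congr 1
    rw [mul_comm, Rat.mul_den_eq_num]
  choose z hz using hint
  have hzsum : ∀ y, ∑ p, (cnt p y : ℤ) * z p = if y = 1 then (N : ℤ) else 0 := by
    intro y
    have h1 : (∑ p, (cnt p y : ℚ) * ((z p : ℤ) : ℚ)) = if y = 1 then (N : ℚ) else 0 := by
      rw [Finset.sum_congr rfl fun p _ => by rw [← hz p, mul_left_comm], ← Finset.mul_sum, hc y]
      split_ifs <;> simp
    exact_mod_cast (by split_ifs at h1 ⊢ <;> exact_mod_cast h1 : ((∑ p, (cnt p y : ℤ) * z p : ℤ) : ℚ) = ((if y = 1 then (N : ℤ) else 0 : ℤ) : ℚ))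
  obtain ⟨k, hk, hNk⟩ : ∃ k, k ≠ 0 ∧ N < q ^ k :=
    ⟨N + 1, N.succ_ne_zero, lt_of_lt_of_le N.lt_succ_self (Nat.lt_pow_self hq.out.one_lt).le⟩
  have hρinj : Function.Injective ρ := by
    intro g g' hgg
    by_contra hne
    have h1 : ρ (g⁻¹ * g') = 1 := by rw [map_mul, map_inv, hgg, inv_mul_cancel]
    have := hfree (g⁻¹ * g') (Pi.single ⟨0, hn⟩ 1) (fun e => hne (inv_mul_eq_one.mp e))
      (by rw [h1, Units.val_one, Matrix.one_mulVec])
    exact one_ne_zero (by simpa using congrFun this ⟨0, hn⟩ : (1 : ZMod q) = 0)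
  obtain ⟨σ, hσ⟩ := exists_lift (k := k) hco ρ hρinj hk
  haveI : NeZero (q ^ k) := ⟨pow_ne_zero _ hq.out.ne_zero⟩
  have hsum : ∀ g : G, g ≠ 1 →
      ∑ i ∈ Finset.range (orderOf g), ((σ g : Matrix (Fin n) (Fin n) (ZMod (q ^ k))) ^ i) = 0 := by
    intro g hg
    set A : Matrix (Fin n) (Fin n) (ZMod (q ^ k)) := (σ g : Matrix (Fin n) (Fin n) (ZMod (q ^ k))) with hA
    have hu : IsUnit (A - 1) := by
      rw [Matrix.isUnit_iff_isUnit_det]
      set c := ZMod.castHom (dvd_pow_self q hk) (ZMod q) with hc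
      have h1 : c (A - 1).det ≠ 0 := by
        rw [RingHom.map_det]
        show (((A - 1).map c)).det ≠ 0
        rw [Matrix.map_sub _ (map_sub c), Matrix.map_one _ (map_zero c) (map_one c),
          show A.map c = (ρ g : Matrix (Fin n) (Fin n) (ZMod q)) from congrArg Units.val (hσ g)]
        intro h0
        obtain ⟨v, hv, hv0⟩ := Matrix.exists_mulVec_eq_zero_iff.mpr h0
        rw [Matrix.sub_mulVec, Matrix.one_mulVec, sub_eq_zero] at hv0
        exact hv (hfree g v hg hv0)
      rw [← ZMod.natCast_zmod_val (A - 1).det, ZMod.isUnit_iff_coprime]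
      refine ((Nat.Prime.coprime_iff_not_dvd hq.out).mpr fun hd => h1 ?_).symm.pow_right k
      rw [← ZMod.natCast_zmod_val (A - 1).det, map_natCast, ZMod.natCast_eq_zero_iff]
      exact hd
    refine hu.mul_right_eq_zero.mp ?_
    rw [mul_geom_sum, hA, ← Units.val_pow_eq_pow_val, ← map_pow, pow_orderOf_eq_one, map_one,
      Units.val_one, sub_self]
  let φ : G → ZMod (q ^ k) := fun x => (σ x : Matrix (Fin n) (Fin n) (ZMod (q ^ k))) ⟨0, hn⟩ ⟨0, hn⟩
  have hφ : ∀ p : G × G, ∑ y, (cnt p y : ZMod (q ^ k)) * φ y = 0 := by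
    intro p
    rw [hcnt φ p]
    split_ifs with hp
    · rfl
    · simp only [φ, map_mul, map_pow, Units.val_mul, Units.val_pow_eq_pow_val]
      rw [← Matrix.sum_apply, ← Finset.mul_sum, hsum p.2 hp, mul_zero, Matrix.zero_apply]
  have h1 : ∑ y, ((if y = 1 then (N : ℤ) else 0 : ℤ) : ZMod (q ^ k)) * φ y = 0 := by
    simp only [← hzsum, Int.cast_sum, Int.cast_mul, Int.cast_natCast, Finset.sum_mul]
    rw [Finset.sum_comm]
    refine Finset.sum_eq_zero fun p _ => ?_
    rw [Finset.sum_congr rfl fun y _ => mul_right_comm _ _ _, ← Finset.sum_mul, hφ p, zero_mul]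
  rw [Finset.sum_eq_single (1 : G) (fun y _ hy => by simp [hy]) (by simp), if_pos rfl, Int.cast_natCast,
    show φ 1 = 1 by simp [φ], mul_one, ZMod.natCast_eq_zero_iff] at h1
  exact absurd (Nat.le_of_dvd hNpos h1) (by omega)

/-- Products of two elements of order three. -/
theorem order_mul (h : HasFPF G) {a b : G} (ha : orderOf a = 3) (hb : orderOf b = 3) :
    orderOf (a * b) = 1 ∨ orderOf (a * b) = 3 ∨ orderOf (a * b) = 4 ∨ orderOf (a * b) = 6 ∨
      orderOf (a * b) = 10 := by
  classical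
  cases nonempty_fintype G
  by_contra hcon
  set o := orderOf (a * b) with ho
  have hopos : 0 < o := orderOf_pos _
  obtain ⟨k, hk, h1, h2⟩ : ∃ k, k.Coprime o ∧ o < 3 * k ∧ 2 * k ≤ o := by
    push Not at hcon
    rcases Nat.even_or_odd o with ⟨m, hm⟩ | ⟨m, hm⟩
    · rcases Nat.even_or_odd m with ⟨l, hl⟩ | ⟨l, hl⟩
      · refine ⟨m - 1, ?_, by omega, by omega⟩
        rw [hm, show m + m = 2 * m by ring]
        refine Nat.Coprime.mul_right ?_ ?_
        · rw [Nat.coprime_comm, Nat.prime_two.coprime_iff_not_dvd]; omega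
        · have := Nat.coprime_self_sub_left (m := 1) (n := m) (by omega)
          exact this.mpr (Nat.coprime_one_left m)
      · rcases Nat.lt_or_ge m 7 with h7 | h7
        · have : l = 0 := by omega
          refine ⟨1, Nat.coprime_one_left o, by omega, by omega⟩
        · refine ⟨m - 2, ?_, by omega, by omega⟩
          rw [hm, show m + m = 2 * m by ring]
          have hodd : ¬ 2 ∣ m - 2 := by omega
          refine Nat.Coprime.mul_right ?_ ?_
          · rw [Nat.coprime_comm, Nat.prime_two.coprime_iff_not_dvd]; exact hodd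
          · rw [Nat.coprime_self_sub_left (by omega), Nat.prime_two.coprime_iff_not_dvd]; omega
    · refine ⟨m, ?_, by omega, by omega⟩
      rw [hm, Nat.coprime_comm, Nat.coprime_iff_gcd_eq_one,
        show 2 * m + 1 = 1 + m * 2 by ring, Nat.gcd_add_mul_left_left, Nat.gcd_one_left]
  obtain ⟨f0, hf0⟩ := exists_ne_zero_rat h
  haveI : Nontrivial (cyc G ℂ) := by
    refine ⟨⟨⟨fun x => (f0.1 x : ℂ), fun x g hg => ?_⟩, 0, fun e => hf0 (Subtype.ext (funext fun x => ?_))⟩⟩
    · have := f0.2 x g hg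
      show ∑ i ∈ Finset.range (orderOf g), ((f0.1 (x * g ^ i) : ℚ) : ℂ) = 0
      exact_mod_cast this
    · have := congrFun (congrArg Subtype.val e) x
      simpa using this
  set g := a * b with hg
  obtain ⟨ζ, hζ⟩ := Module.End.exists_eigenvalue (trans G ℂ g)
  obtain ⟨f, hf⟩ := hζ.exists_hasEigenvector
  have hpow : ∀ i : ℕ, trans G ℂ (g ^ i) f = ζ ^ i • f := by
    intro i
    induction i with
    | zero => simp
    | succ i ih =>
      rw [pow_succ', map_mul, Module.End.mul_apply, ih, map_smul, hf.apply_eq_smul, smul_smul, ← pow_succ]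
  have hζo : ζ ^ o = 1 := by
    have h3 := hpow o
    rw [ho, pow_orderOf_eq_one, map_one, Module.End.one_apply] at h3
    rw [ho]
    exact smul_left_injective ℂ hf.2 ((h3.symm).trans (one_smul ℂ f).symm)
  have hprim : IsPrimitiveRoot ζ o := by
    refine IsPrimitiveRoot.iff hopos |>.mpr ⟨hζo, fun l hl0 hlo hl => hf.2 ?_⟩
    refine trans_free (g ^ l) f (pow_ne_one_of_lt_orderOf hl0.ne' hlo) ?_
    rw [hpow l, hl, one_smul]
  set θ : ℝ := 2 * Real.pi * k / o with hθ
  set ξ : ℂ := Complex.exp (θ * Complex.I) with hξ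
  have hξprim : IsPrimitiveRoot ξ o := by
    have := Complex.isPrimitiveRoot_exp_of_coprime k o hopos.ne' hk
    convert this using 2
    rw [hθ]
    push_cast
    ring
  haveI : NeZero o := ⟨hopos.ne'⟩
  obtain ⟨j, -, hjc, hj⟩ := (IsPrimitiveRoot.isPrimitiveRoot_iff (R := ℂ) hprim).mp hξprim
  obtain ⟨σ, hσ⟩ := Char.exists_galois o j hopos.ne' hjc
  let f' : G → ℂ := fun x => σ (f.1 x)
  have hf'm : f' ∈ cyc G ℂ := fun x y hy => by
    simp only [f', ← map_sum, f.2 x y hy, map_zero]
  set F : cyc G ℂ := ⟨f', hf'm⟩ with hF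
  have hF0 : F ≠ 0 := fun e => hf.2 (Subtype.ext (funext fun x => by
    have := congrFun (congrArg Subtype.val e) x
    exact σ.injective (this.trans (map_zero σ).symm)))
  have hFg : ∀ x, F.1 (g⁻¹ * x) = ξ * F.1 x := fun x => by
    have h3 : f.1 (g⁻¹ * x) = ζ * f.1 x := congrFun (congrArg Subtype.val hf.apply_eq_smul) x
    show σ (f.1 (g⁻¹ * x)) = ξ * σ (f.1 x)
    rw [h3, map_mul, hσ ζ hζo, hj]
  have hFg' : ∀ x, F.1 (g * x) = ξ⁻¹ * F.1 x := fun x => by
    have h3 := hFg (g * x)
    rw [inv_mul_cancel_left] at h3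
    rw [h3, inv_mul_cancel_left₀ (Complex.exp_ne_zero _)]
  -- the element `a * b⁻¹`
  set e := a * b⁻¹ with he
  set r : ℝ := 1 - 2 * Real.cos θ with hr
  have hlin : ∀ x, F.1 (e⁻¹ * x) + F.1 (e * x) = (r : ℂ) * F.1 x := by
    intro x
    have k2 := trans_three b hb (trans G ℂ a⁻¹ F) x
    simp only [trans_apply, inv_inv] at k2
    have k3 := trans_three b hb F (a⁻¹ * x)
    have k5 := hFg x
    have k6 := hFg' x
    rw [hg, mul_inv_rev, mul_assoc] at k5
    rw [hg, mul_assoc] at k6
    rw [he, mul_inv_rev, inv_inv, mul_assoc, mul_assoc]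
    have k7 := trans_three a ha F x
    have hξsum : ξ + ξ⁻¹ = ((2 * Real.cos θ : ℝ) : ℂ) := by
      rw [hξ, ← Complex.exp_neg, Complex.ofReal_mul, Complex.ofReal_ofNat, Complex.ofReal_cos,
        Complex.two_cos, neg_mul]
    rw [hr, Complex.ofReal_sub, ← hξsum, Complex.ofReal_one]
    linear_combination k2 + k3 - k7 - k5 - k6
  have hcos : Real.cos θ < -1 / 2 := by
    have e1 : Real.cos (2 * Real.pi / 3) = -1 / 2 := by
      rw [show 2 * Real.pi / 3 = Real.pi - Real.pi / 3 by ring, Real.cos_pi_sub, Real.cos_pi_div_three]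
      norm_num
    rw [← e1]
    have hop : (0 : ℝ) < o := by exact_mod_cast hopos
    have h1' : (o : ℝ) < 3 * k := by exact_mod_cast h1
    have h2' : 2 * (k : ℝ) ≤ o := by exact_mod_cast h2
    refine Real.cos_lt_cos_of_nonneg_of_le_pi (by positivity) ?_ ?_
    · rw [hθ, div_le_iff₀ hop]
      nlinarith [Real.pi_pos]
    · rw [hθ, div_lt_div_iff₀ (by norm_num) hop]
      nlinarith [Real.pi_pos]
  have hsumle : ∑ x, r ^ 2 * Complex.normSq (F.1 x) ≤
      ∑ x, (2 * Complex.normSq (F.1 (e⁻¹ * x)) + 2 * Complex.normSq (F.1 (e * x))) := by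
    refine Finset.sum_le_sum fun x _ => ?_
    have h3 := congrArg Complex.normSq (hlin x)
    rw [Complex.normSq_mul, Complex.normSq_ofReal] at h3
    rw [pow_two, ← h3]
    simp only [Complex.normSq_apply, Complex.add_re, Complex.add_im]
    nlinarith [sq_nonneg ((F.1 (e⁻¹ * x)).re - (F.1 (e * x)).re),
      sq_nonneg ((F.1 (e⁻¹ * x)).im - (F.1 (e * x)).im)]
  rw [← Finset.mul_sum, Finset.sum_add_distrib, ← Finset.mul_sum, ← Finset.mul_sum] at hsumle
  rw [show ∑ x, Complex.normSq (F.1 (e⁻¹ * x)) = ∑ x, Complex.normSq (F.1 x) from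
      Equiv.sum_comp (Equiv.mulLeft e⁻¹) fun x => Complex.normSq (F.1 x),
    show ∑ x, Complex.normSq (F.1 (e * x)) = ∑ x, Complex.normSq (F.1 x) from
      Equiv.sum_comp (Equiv.mulLeft e) fun x => Complex.normSq (F.1 x)] at hsumle
  have hSpos : 0 < ∑ x, Complex.normSq (F.1 x) := by
    obtain ⟨x, hx⟩ : ∃ x, F.1 x ≠ 0 := by
      by_contra hall
      push Not at hall
      exact hF0 (Subtype.ext (funext hall))
    exact Finset.sum_pos' (fun x _ => Complex.normSq_nonneg _) ⟨x, Finset.mem_univ _, Complex.normSq_pos.mpr hx⟩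
  have hr2 : 4 < r ^ 2 := by
    have : 2 < r := by rw [hr]; linarith
    nlinarith
  nlinarith [mul_pos (sub_pos.mpr hr2) hSpos]

open Classical in
/-- The setting attached to a group with a fixed-point-free representation. -/
theorem HasFPF.exists_setting (h : HasFPF G) : Nonempty (Setting G (cyc G ℚ)) := by
  cases nonempty_fintype G
  refine ⟨{
    ρ := trans G ℚ
    form := LinearMap.mk₂ ℚ (fun u v => ∑ x, u.1 x * v.1 x)
      (fun u u' v => by simp [add_mul, Finset.sum_add_distrib])
      (fun r u v => by simp [Finset.mul_sum, mul_assoc])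
      (fun u v v' => by simp [mul_add, Finset.sum_add_distrib])
      (fun r u v => by simp [Finset.mul_sum, mul_left_comm])
    pos := fun v hv => ?_
    comm := fun u v => by simp [mul_comm]
    invar := fun g u v => ?_
    free := fun g v hg hv => trans_free g v hg hv
    exists_ne := exists_ne_zero_rat h
    order_mul := fun a b ha hb => order_mul h ha hb }⟩
  · rw [LinearMap.mk₂_apply]
    obtain ⟨x, hx⟩ : ∃ x, v.1 x ≠ 0 := by
      by_contra hall
      push Not at hall
      exact hv (Subtype.ext (funext hall))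
    exact Finset.sum_pos' (fun x _ => mul_self_nonneg _) ⟨x, Finset.mem_univ _, mul_self_pos.mpr hx⟩
  · rw [LinearMap.mk₂_apply, LinearMap.mk₂_apply]
    exact Equiv.sum_comp (Equiv.mulLeft g⁻¹) fun x => u.1 x * v.1 x

end Cfsg.Agent.FPF25
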