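import Cfsg.Agent.FPF25.Frame

/-!
Rigidity: outside the four axes of a frame there is, up to conjugation by the frame, one axis.
-/

set_option autoImplicit false

namespace Cfsg.Agent.FPF25.Setting

variable {G M : Type*} [Group G] [AddCommGroup M] [Module ℚ M] {Z : Setting G M}

namespace Frame

variable (F : Frame Z)

theorem Q_comb {c d : G} {a0 a1 a2 a3 b0 b1 b2 b3 : Module.End ℚ M} (hc : Z.U c = F.comb a0 a1 a2 a3)
    (hd : Z.U d = F.comb b0 b1 b2 b3) (h0 : F.Cen a0) (h1 : F.Cen a1) (h2 : F.Cen a2) (h3 : F.Cen a3)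
    (k0 : F.Cen b0) (k1 : F.Cen b1) (k2 : F.Cen b2) (k3 : F.Cen b3) :
    Z.Q c d = F.comb
      ((1 / 2 : ℚ) • (a0 * b0 + b0 * a0 - (a1 * b1 + b1 * a1) - (a2 * b2 + b2 * a2) - (a3 * b3 + b3 * a3)))
      ((1 / 2 : ℚ) • (a0 * b1 + b1 * a0 + (a1 * b0 + b0 * a1) + (a2 * b3 - b3 * a2) + (b2 * a3 - a3 * b2)))
      ((1 / 2 : ℚ) • (a0 * b2 + b2 * a0 + (a2 * b0 + b0 * a2) + (a3 * b1 - b1 * a3) + (b3 * a1 - a1 * b3)))
      ((1 / 2 : ℚ) • (a0 * b3 + b3 * a0 + (a3 * b0 + b0 * a3) + (a1 * b2 - b2 * a1) + (b1 * a2 - a2 * b1))) := by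
  rw [Q, hc, hd, comb_mul h0 h1 h2 h3, comb_mul k0 k1 k2 k3]
  simp only [comb, mul_add, mul_sub, mul_smul_comm]
  module

theorem cen_scalar (r : ℚ) : F.Cen (r • 1) := F.cen_one.smul r

variable {F} in
/-- The anticommutator with an axis of the frame. -/
theorem Q_vec {p c : G} {s1 s2 s3 : ℚ} (hp : Z.U p = vec F.e1 F.e2 F.e3 s1 s2 s3)
    {x0 x1 x2 x3 : Module.End ℚ M} (h : Z.U c = F.comb x0 x1 x2 x3) (h0 : F.Cen x0) (h1 : F.Cen x1)
    (h2 : F.Cen x2) (h3 : F.Cen x3) :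
    Z.Q p c = F.comb (-(s1 • x1 + s2 • x2 + s3 • x3)) (s1 • x0) (s2 • x0) (s3 • x0) := by
  rw [F.Q_comb (hp.trans (F.vec_eq s1 s2 s3)) h F.cen_zero (F.cen_scalar _) (F.cen_scalar _)
    (F.cen_scalar _) h0 h1 h2 h3]
  simp only [comb, smul_mul_assoc, mul_smul_comm, one_mul, mul_one, zero_mul, mul_zero, mul_add, mul_sub,
    smul_add, smul_sub, mul_neg]
  module

theorem scalar_eq_comb (r : ℚ) : (r • 1 : Module.End ℚ M) = F.comb (r • 1) 0 0 0 := by simp [comb]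

/-- The data of one axis against one axis of the frame. -/
structure Entry (p c : G) (s1 s2 s3 : ℚ) (x0 x1 x2 x3 : Module.End ℚ M) (ν : ℚ) : Prop where
  sq : Z.Q p c * Z.Q p c = ν • 1
  w_sq : (s1 • x1 + s2 • x2 + s3 • x3) * (s1 • x1 + s2 • x2 + s3 • x3) - (3 : ℚ) • (x0 * x0) = ν • 1
  anti : x0 * (s1 • x1 + s2 • x2 + s3 • x3) + (s1 • x1 + s2 • x2 + s3 • x3) * x0 = 0
  kind : (ν = 9 ∧ x0 = 0 ∧ (c = p ∨ c = p⁻¹)) ∨
    (ν = 1 ∧ x0 = 0 ∧ (Z.Q p c = (1 : ℚ) • 1 ∧ s1 • x1 + s2 • x2 + s3 • x3 = (-1 : ℚ) • 1 ∨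
      Z.Q p c = (-1 : ℚ) • 1 ∧ s1 • x1 + s2 • x2 + s3 • x3 = (1 : ℚ) • 1)) ∨ ν = 5

variable {F} in
theorem entry {p c : G} {s1 s2 s3 : ℚ} (hop : orderOf p = 3)
    (hp : Z.U p = vec F.e1 F.e2 F.e3 s1 s2 s3) (hs1 : s1 ≠ 0) (hs : s1 * s1 + s2 * s2 + s3 * s3 = 3)
    {x0 x1 x2 x3 : Module.End ℚ M} (h : F.Coord c x0 x1 x2 x3) :
    ∃ ν, Entry (Z := Z) p c s1 s2 s3 x0 x1 x2 x3 ν := by
  obtain ⟨ν, hν, hk⟩ := Z.Q_sq hop h.ord
  set w := s1 • x1 + s2 • x2 + s3 • x3 with hw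
  have hwc : F.Cen w := ((h.c1.smul s1).add (h.c2.smul s2)).add (h.c3.smul s3)
  have hQ := Q_vec hp h.eq h.c0 h.c1 h.c2 h.c3
  rw [← hw] at hQ
  have hwn : F.Cen (-w) := by rw [← neg_one_smul ℚ w]; exact hwc.smul (-1)
  have h2 : F.comb (w * w - (s1 * s1 + s2 * s2 + s3 * s3) • (x0 * x0)) (-(s1 • (x0 * w + w * x0)))
      (-(s2 • (x0 * w + w * x0))) (-(s3 • (x0 * w + w * x0))) = F.comb (ν • 1) 0 0 0 := by
    rw [← scalar_eq_comb, ← hν, hQ, comb_mul hwn (h.c0.smul _) (h.c0.smul _) (h.c0.smul _)]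
    simp only [comb, neg_mul, mul_neg, smul_mul_assoc, mul_smul_comm, mul_add, mul_sub]
    module
  have hxw : F.Cen (x0 * w + w * x0) := (h.c0.mul hwc).add (hwc.mul h.c0)
  obtain ⟨r0, r1, -, -⟩ := comb_inj ((hwc.mul hwc).sub ((h.c0.mul h.c0).smul _))
    (by rw [← neg_smul]; exact hxw.smul _) (by rw [← neg_smul]; exact hxw.smul _)
    (by rw [← neg_smul]; exact hxw.smul _) (F.cen_scalar ν) F.cen_zero F.cen_zero F.cen_zero h2
  refine ⟨ν, hν, by rw [← hs, ← hw, r0], ?_, ?_⟩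
  · rw [← hw]
    exact (smul_eq_zero.mp (neg_eq_zero.mp r1)).resolve_left hs1
  rcases hk with ⟨h9, hc⟩ | ⟨h1, hc⟩ | h5
  · refine Or.inl ⟨h9, ?_, hc⟩
    rcases hc with rfl | rfl
    · exact (comb_inj h.c0 h.c1 h.c2 h.c3 F.cen_zero (F.cen_scalar _) (F.cen_scalar _) (F.cen_scalar _)
        (h.eq.symm.trans (hp.trans (F.vec_eq _ _ _)))).1
    · have e : F.comb x0 x1 x2 x3 = F.comb 0 ((-s1) • 1) ((-s2) • 1) ((-s3) • 1) := by
        rw [← h.eq, Z.U_inv hop, hp, F.vec_eq]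
        simp only [comb, mul_smul_comm]
        module
      exact (comb_inj h.c0 h.c1 h.c2 h.c3 F.cen_zero (F.cen_scalar _) (F.cen_scalar _) (F.cen_scalar _) e).1
  · refine Or.inr (Or.inl ⟨h1, ?_, ?_⟩)
    all_goals rcases hc with hc | hc
    · have e := comb_inj hwn (h.c0.smul s1) (h.c0.smul s2) (h.c0.smul s3) (F.cen_scalar _) F.cen_zero
        F.cen_zero F.cen_zero (hQ.symm.trans (hc.trans (F.scalar_eq_comb _)))
      exact (smul_eq_zero.mp e.2.1).resolve_left hs1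
    · have e := comb_inj hwn (h.c0.smul s1) (h.c0.smul s2) (h.c0.smul s3) (F.cen_scalar _) F.cen_zero
        F.cen_zero F.cen_zero (hQ.symm.trans (hc.trans (F.scalar_eq_comb _)))
      exact (smul_eq_zero.mp e.2.1).resolve_left hs1
    · have e := comb_inj hwn (h.c0.smul s1) (h.c0.smul s2) (h.c0.smul s3) (F.cen_scalar _) F.cen_zero
        F.cen_zero F.cen_zero (hQ.symm.trans (hc.trans (F.scalar_eq_comb _)))
      exact Or.inl ⟨hc, by rw [← hw, ← neg_neg w, e.1, neg_smul]⟩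
    · have e := comb_inj hwn (h.c0.smul s1) (h.c0.smul s2) (h.c0.smul s3) (F.cen_scalar _) F.cen_zero
        F.cen_zero F.cen_zero (hQ.symm.trans (hc.trans (F.scalar_eq_comb _)))
      exact Or.inr ⟨hc, by rw [← hw, ← neg_neg w, e.1, ← neg_smul, neg_neg]⟩
  · exact Or.inr (Or.inr h5)

variable {F} in
theorem coord_cycle {c : G} {x0 x1 x2 x3 : Module.End ℚ M} (h : F.Coord c x0 x1 x2 x3) :
    F.cycle.Coord c x0 x2 x3 x1 where
  ord := h.ord
  eq := by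
    rw [h.eq]
    simp only [comb, cycle, e1, e2, e3]
    abel
  c0 := ⟨h.c0.c2, h.c0.c3, h.c0.c1⟩
  c1 := ⟨h.c2.c2, h.c2.c3, h.c2.c1⟩
  c2 := ⟨h.c3.c2, h.c3.c3, h.c3.c1⟩
  c3 := ⟨h.c1.c2, h.c1.c3, h.c1.c1⟩
  k0 := h.k0
  k1 := h.k2
  k2 := h.k3
  k3 := h.k1

variable {F} in
theorem U_conj2 {c : G} {x0 x1 x2 x3 : Module.End ℚ M} (h : Z.U c = F.comb x0 x1 x2 x3) (h0 : F.Cen x0)
    (h1 : F.Cen x1) (h2 : F.Cen x2) (h3 : F.Cen x3) :
    Z.U (F.g2 * c * F.g2⁻¹) = F.comb x0 (-x1) x2 (-x3) := by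
  rw [Z.U_conj, h, F.inv2]
  simp only [comb, mul_add, add_mul, mul_neg, mul_assoc, h0.c2, h1.c2, h2.c2, h3.c2, h0.s2, h1.s2,
    h2.s2, h3.s2, F.t11, F.t22, F.t33, F.t12, F.t23, F.t31, F.t21, F.t32, F.t13, neg_mul]
  module

theorem rho_p1 : Z.ρ F.p1 = (1 / 2 : ℚ) • (F.e1 + F.e2 + F.e3 - 1) := by
  have h : (2 : ℚ) • Z.ρ F.p1 + 1 = (1 : ℚ) • F.e1 + (1 : ℚ) • F.e2 + (1 : ℚ) • F.e3 := F.u1
  linear_combination (norm := module) (1 / 2 : ℚ) • h

theorem rho_p1_inv : Z.ρ F.p1⁻¹ = (1 / 2 : ℚ) • (-F.e1 - F.e2 - F.e3 - 1) := by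
  rw [Z.rho_inv F.o1, F.rho_p1]
  module

variable {F} in
theorem U_conj_p1 {c : G} {x0 x1 x2 x3 : Module.End ℚ M} (h : Z.U c = F.comb x0 x1 x2 x3) (h0 : F.Cen x0)
    (h1 : F.Cen x1) (h2 : F.Cen x2) (h3 : F.Cen x3) :
    Z.U (F.p1⁻¹ * c * F.p1) = F.comb x0 x3 x1 x2 := by
  have e := Z.U_conj F.p1⁻¹ c
  rw [inv_inv] at e
  rw [e, h, F.rho_p1, F.rho_p1_inv]
  simp only [comb, mul_add, add_mul, mul_sub, sub_mul, smul_add, smul_sub, smul_mul_assoc, mul_smul_comm,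
    mul_assoc, F.q11, F.q22, F.q33, F.q12, F.q23, F.q31, F.q21, F.q32, F.q13, F.t11, F.t22, F.t33, F.t12,
    F.t23, F.t31, F.t21, F.t32, F.t13, h0.c1, h0.c2, h0.c3, h1.c1, h1.c2, h1.c3, h2.c1, h2.c2, h2.c3,
    h3.c1, h3.c2, h3.c3, h0.s1, h0.s2, h0.s3, h1.s1, h1.s2, h1.s3, h2.s1, h2.s2, h2.s3, h3.s1, h3.s2,
    h3.s3, mul_neg, neg_mul, mul_one, one_mul]
  module

/-- The standard axes as group elements. -/
def Axis (c : G) : Prop :=
  (c = F.p1 ∨ c = F.p1⁻¹) ∨ (c = F.p2 ∨ c = F.p2⁻¹) ∨ (c = F.p3 ∨ c = F.p3⁻¹) ∨ (c = F.p4 ∨ c = F.p4⁻¹)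

variable {F} in
theorem kill {c : G} {x0 x1 x2 x3 : Module.End ℚ M} (h : F.Coord c x0 x1 x2 x3) (hx1 : x1 = 0)
    (hx3 : x3 = 0) (h22 : x2 * x2 = (2 : ℚ) • 1) (h00 : x0 * x0 = (-1 : ℚ) • 1)
    (h02 : x0 * x2 = -(x2 * x0)) : False := by
  subst hx1 hx3
  have hd : Z.U (F.p1⁻¹ * c * F.p1) = F.comb x0 0 0 x2 := U_conj_p1 h.eq h.c0 h.c1 h.c2 h.c3
  set c' := F.p1⁻¹ * c * F.p1 with hc'
  have hc'o : orderOf c' = 3 := by
    have := orderOf_conj' F.p1⁻¹ c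
    rw [inv_inv] at this
    rw [hc', this, h.ord]
  have hri : Z.ρ c⁻¹ = (1 / 2 : ℚ) • (-Z.U c - 1) := by rw [Z.rho_inv h.ord, U]; module
  have hr : Z.ρ c = (1 / 2 : ℚ) • (Z.U c - 1) := by rw [U]; module
  set W := x2 + x2 * x0 with hW
  have hWc : F.Cen W := h.c2.add (h.c2.mul h.c0)
  have hcn1 : F.Cen (((-1 : ℚ)) • (1 : Module.End ℚ M)) := F.cen_scalar _
  have t00 : ∀ y, x0 * (x0 * y) = (-1 : ℚ) • y := fun y => by rw [← mul_assoc, h00, smul_mul_assoc, one_mul]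
  have t22' : ∀ y, x2 * (x2 * y) = (2 : ℚ) • y := fun y => by rw [← mul_assoc, h22, smul_mul_assoc, one_mul]
  have t02 : ∀ y, x0 * (x2 * y) = -(x2 * (x0 * y)) := fun y => by rw [← mul_assoc, h02, neg_mul, mul_assoc]
  have hUd : Z.U (c⁻¹ * c'⁻¹ * c) = F.comb 0 ((-1 : ℚ) • 1) ((-1 / 2 : ℚ) • W) ((1 / 2 : ℚ) • W) := by
    have e := Z.U_conj c⁻¹ c'⁻¹
    rw [inv_inv] at e
    rw [e, Z.U_inv hc'o, hd, hr, hri, h.eq, hW]
    simp only [comb, mul_add, add_mul, mul_sub, sub_mul, smul_add, smul_sub, smul_mul_assoc, mul_smul_comm,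
      mul_assoc, F.t11, F.t22, F.t33, F.t12, F.t23, F.t31, F.t21, F.t32, F.t13, h.c0.s1, h.c0.s2, h.c0.s3,
      h.c2.s1, h.c2.s2, h.c2.s3, mul_neg, neg_mul, mul_one, one_mul, mul_zero, zero_mul, add_zero, neg_zero,
      h00, h22, h02, t00, t22', t02, smul_neg, F.q11, F.q22, F.q33, F.q12, F.q23, F.q31, F.q21, F.q32, F.q13]
    module
  set d := c⁻¹ * c'⁻¹ * c with hddef
  have hdo : orderOf d = 3 := by
    have := orderOf_conj' c⁻¹ c'⁻¹
    rw [inv_inv] at this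
    rw [hddef, this, orderOf_inv, hc'o]
  obtain ⟨ν, hν, -⟩ := Z.Q_sq F.o3 hdo
  have hQ := Q_vec (F := F) F.u3 hUd F.cen_zero hcn1 (hWc.smul _) (hWc.smul _)
  have hWW : W * W = (4 : ℚ) • 1 := by
    rw [hW]
    simp only [mul_add, add_mul, mul_assoc, h00, h22, h02, t00, t22', t02, mul_neg, smul_mul_assoc,
      mul_smul_comm, mul_one, neg_mul, smul_neg]
    module
  have h5 : W = ((5 - ν) / 2) • (1 : Module.End ℚ M) := by
    have e : Z.Q F.p3 d = W - 1 := by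
      rw [hQ]
      simp only [comb, smul_zero, mul_zero]
      module
    rw [e] at hν
    simp only [mul_sub, sub_mul, mul_one, one_mul, hWW] at hν
    linear_combination (norm := module) (-1 / 2 : ℚ) • hν
  have h6 : x0 * W + W * x0 = 0 := by
    rw [hW]
    simp only [mul_add, add_mul, mul_assoc, h00, h02, t02, mul_smul_comm, mul_one, smul_neg]
    module
  rw [h5, mul_smul_comm, smul_mul_assoc, mul_one, one_mul] at h6
  have h7 : ((5 - ν) / 2) * ((5 - ν) / 2) = 4 := Z.smul_one_inj (by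
    rw [← hWW, h5, smul_mul_assoc, one_mul, smul_smul])
  have h8 : x0 = 0 := by
    have : ((5 - ν) / 2 + (5 - ν) / 2) • x0 = 0 := by rw [add_smul]; exact h6
    refine (smul_eq_zero.mp this).resolve_left fun h0 => ?_
    rw [show (5 - ν) / 2 = 0 by linarith] at h7
    norm_num at h7
  rw [h8, mul_zero] at h00
  exact absurd (Z.eq_zero_of_smul_one h00.symm) (by norm_num)

variable {F} in
/-- The possible values of the squares of the coordinates in the degenerate case. -/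
theorem sq_values {c : G} {x0 x1 x2 x3 : Module.End ℚ M} (h : F.Coord c x0 x1 x2 x3)
    (h00 : x0 * x0 = (-1 : ℚ) • 1) (h02 : x0 * x2 = -(x2 * x0)) (h01 : x0 * x1 = -(x1 * x0))
    (h03 : x0 * x3 = -(x3 * x0)) (h12 : x1 * x2 = 0) (h21 : x2 * x1 = 0) (h13 : x1 * x3 = 0)
    (h31 : x3 * x1 = 0) (h23 : x2 * x3 = 0) (h32 : x3 * x2 = 0)
    (hsum : x1 * x1 + x2 * x2 + x3 * x3 = (2 : ℚ) • 1) :
    x2 = 0 ∨ x2 * x2 = (2 : ℚ) • 1 := by
  set Y := x2 * x2 with hY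
  have hYY : Y * Y = (2 : ℚ) • Y := by
    have e : x2 * (x2 * (x1 * x1 + x2 * x2 + x3 * x3)) = x2 * (x2 * ((2 : ℚ) • 1)) := by rw [hsum]
    simp only [mul_add, mul_smul_comm, mul_one, ← mul_assoc, h21, h23, zero_mul, add_zero, zero_add,
      mul_zero] at e
    rw [hY, ← mul_assoc]
    exact e
  have hc2 : Z.U (F.g2 * c * F.g2⁻¹) = F.comb x0 (-x1) x2 (-x3) := U_conj2 h.eq h.c0 h.c1 h.c2 h.c3
  have n1 : F.Cen (-x1) := by rw [← neg_one_smul ℚ x1]; exact h.c1.smul _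
  have n3 : F.Cen (-x3) := by rw [← neg_one_smul ℚ x3]; exact h.c3.smul _
  have hQ : Z.Q c (F.g2 * c * F.g2⁻¹) = (1 : ℚ) • 1 - (2 : ℚ) • Y := by
    rw [F.Q_comb h.eq hc2 h.c0 h.c1 h.c2 h.c3 h.c0 n1 h.c2 n3]
    simp only [comb, mul_neg, neg_mul, h00, h01, h02, h03, h12, h21, h13, h31, h23, h32, neg_zero,
      add_zero, neg_neg, sub_zero, mul_add, mul_sub, smul_add, smul_sub, smul_neg, smul_zero,
      mul_smul_comm, mul_zero]
    linear_combination (norm := module) hsum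
  rcases Z.pair_cases h.ord (by rw [orderOf_conj']; exact h.ord : orderOf (F.g2 * c * F.g2⁻¹) = 3) with
    ⟨e, -⟩ | ⟨e, -⟩ | e | e | e <;> rw [hQ] at e
  · exact Or.inr (by linear_combination (norm := module) (-1 / 2 : ℚ) • e)
  · exfalso
    have hYv : Y = (-1 : ℚ) • 1 := by linear_combination (norm := module) (-1 / 2 : ℚ) • e
    rw [hYv, smul_mul_assoc, one_mul, smul_smul, smul_smul] at hYY
    exact absurd (Z.smul_one_inj hYY) (by norm_num)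
  · have hYv : Y = 0 := by linear_combination (norm := module) (-1 / 2 : ℚ) • e
    exact Or.inl (Z.eq_zero_of_sq (Or.inr h.k2) hYv)
  · exfalso
    have hYv : Y = (1 : ℚ) • 1 := by linear_combination (norm := module) (-1 / 2 : ℚ) • e
    rw [hYv, smul_mul_assoc, one_mul, smul_smul, smul_smul] at hYY
    exact absurd (Z.smul_one_inj hYY) (by norm_num)
  · exfalso
    simp only [mul_sub, sub_mul, smul_mul_assoc, mul_smul_comm, mul_one, one_mul, hYY] at e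
    have hYv : Y = (1 : ℚ) • 1 := by linear_combination (norm := module) (1 / 4 : ℚ) • e
    rw [hYv, smul_mul_assoc, one_mul, smul_smul, smul_smul] at hYY
    exact absurd (Z.smul_one_inj hYY) (by norm_num)

variable {F} in
/-- The scalar part of every axis vanishes. -/
theorem x0_eq_zero {c : G} {x0 x1 x2 x3 : Module.End ℚ M} (h : F.Coord c x0 x1 x2 x3) : x0 = 0 := by
  by_contra hne
  have five : ∀ (p : G) (s1 s2 s3 : ℚ), orderOf p = 3 → Z.U p = vec F.e1 F.e2 F.e3 s1 s2 s3 → s1 ≠ 0 →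
      s1 * s1 + s2 * s2 + s3 * s3 = 3 →
      (s1 • x1 + s2 • x2 + s3 • x3) * (s1 • x1 + s2 • x2 + s3 • x3) - (3 : ℚ) • (x0 * x0) = (5 : ℚ) • 1 ∧
      x0 * (s1 • x1 + s2 • x2 + s3 • x3) + (s1 • x1 + s2 • x2 + s3 • x3) * x0 = 0 := by
    intro p s1 s2 s3 ho hp hs1 hs
    obtain ⟨ν, E⟩ := entry ho hp hs1 hs h
    rcases E.kind with ⟨-, h0, -⟩ | ⟨-, h0, -⟩ | h5
    · exact absurd h0 hne
    · exact absurd h0 hne
    · exact ⟨by rw [E.w_sq, h5], E.anti⟩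
  obtain ⟨w1, a1⟩ := five _ _ _ _ F.o1 F.u1 (by norm_num) (by norm_num)
  obtain ⟨w2, a2⟩ := five _ _ _ _ F.o2 F.u2 (by norm_num) (by norm_num)
  obtain ⟨w3, a3⟩ := five _ _ _ _ F.o3 F.u3 (by norm_num) (by norm_num)
  obtain ⟨w4, a4⟩ := five _ _ _ _ F.o4 F.u4 (by norm_num) (by norm_num)
  simp only [mul_add, add_mul, smul_mul_assoc, mul_smul_comm] at w1 w2 w3 w4 a1 a2 a3 a4
  have h01 : x0 * x1 = -(x1 * x0) := by linear_combination (norm := module) (1 / 2 : ℚ) • a1 + (1 / 2 : ℚ) • a2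
  have h02 : x0 * x2 = -(x2 * x0) := by linear_combination (norm := module) (1 / 2 : ℚ) • a1 + (1 / 2 : ℚ) • a3
  have h03 : x0 * x3 = -(x3 * x0) := by linear_combination (norm := module) (1 / 2 : ℚ) • a1 + (1 / 2 : ℚ) • a4
  have hX : F.comb (x0 * x0 - x1 * x1 - x2 * x2 - x3 * x3) (x0 * x1 + x1 * x0 + x2 * x3 - x3 * x2)
      (x0 * x2 + x2 * x0 + x3 * x1 - x1 * x3) (x0 * x3 + x3 * x0 + x1 * x2 - x2 * x1) =
      F.comb ((-3 : ℚ) • 1) 0 0 0 := by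
    rw [← scalar_eq_comb, ← comb_mul h.c0 h.c1 h.c2 h.c3, ← h.eq, Z.U_sq h.ord]
  obtain ⟨r0, r1, r2, r3⟩ := comb_inj
    ((((h.c0.mul h.c0).sub (h.c1.mul h.c1)).sub (h.c2.mul h.c2)).sub (h.c3.mul h.c3))
    ((((h.c0.mul h.c1).add (h.c1.mul h.c0)).add (h.c2.mul h.c3)).sub (h.c3.mul h.c2))
    ((((h.c0.mul h.c2).add (h.c2.mul h.c0)).add (h.c3.mul h.c1)).sub (h.c1.mul h.c3))
    ((((h.c0.mul h.c3).add (h.c3.mul h.c0)).add (h.c1.mul h.c2)).sub (h.c2.mul h.c1))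
    (F.cen_scalar _) F.cen_zero F.cen_zero F.cen_zero hX
  have h00 : x0 * x0 = (-1 : ℚ) • 1 := by
    linear_combination (norm := module) (-1 / 8 : ℚ) • (w1 + w2 + w3 + w4) - (1 / 2 : ℚ) • r0
  have h23 : x2 * x3 = 0 := by
    linear_combination (norm := module) (1 / 8 : ℚ) • (w1 + w2 - w3 - w4) + (1 / 2 : ℚ) • r1 - (1 / 2 : ℚ) • h01
  have h32 : x3 * x2 = 0 := by linear_combination (norm := module) h23 - r1 + h01
  have h31 : x3 * x1 = 0 := by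
    linear_combination (norm := module) (1 / 8 : ℚ) • (w1 + w3 - w4 - w2) + (1 / 2 : ℚ) • r2 - (1 / 2 : ℚ) • h02
  have h13 : x1 * x3 = 0 := by linear_combination (norm := module) h31 - r2 + h02
  have h12 : x1 * x2 = 0 := by
    linear_combination (norm := module) (1 / 8 : ℚ) • (w1 + w4 - w2 - w3) + (1 / 2 : ℚ) • r3 - (1 / 2 : ℚ) • h03
  have h21 : x2 * x1 = 0 := by linear_combination (norm := module) h12 - r3 + h03
  have hsum : x1 * x1 + x2 * x2 + x3 * x3 = (2 : ℚ) • 1 := by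
    linear_combination (norm := module) h00 - r0
  have v2 := sq_values h h00 h02 h01 h03 h12 h21 h13 h31 h23 h32 hsum
  have v3 := sq_values (coord_cycle h) h00 h03 h02 h01 h23 h32 h21 h12 h31 h13
    (by rw [← hsum]; abel)
  have v1 := sq_values (coord_cycle (coord_cycle h)) h00 h01 h03 h02 h31 h13 h32 h23 h12 h21
    (by rw [← hsum]; abel)
  have no2 : (2 : ℚ) • (1 : Module.End ℚ M) ≠ 0 := fun e => by
    have := Z.eq_zero_of_smul_one e
    norm_num at this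
  -- exactly one of the three coordinates survives
  rcases v1 with z1 | z1 <;> rcases v2 with z2 | z2 <;> rcases v3 with z3 | z3
  · exact no2 (by rw [← hsum, z1, z2, z3]; simp)
  · exact kill (coord_cycle h) z2 z1 z3 h00 h03
  · exact kill h z1 z3 z2 h00 h02
  · exact no2 (by
      have e := congrArg (fun y => y * (x2 * x2)) z3
      simp only [mul_assoc, smul_mul_assoc, one_mul] at e
      rw [← mul_assoc x3 x2 x2, h32, zero_mul, mul_zero, z2, smul_smul] at e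
      linear_combination (norm := module) (-1 / 2 : ℚ) • e)
  · exact kill (coord_cycle (coord_cycle h)) z3 z2 z1 h00 h01
  · exact no2 (by
      have e := congrArg (fun y => y * (x3 * x3)) z1
      simp only [mul_assoc, smul_mul_assoc, one_mul] at e
      rw [← mul_assoc x1 x3 x3, h13, zero_mul, mul_zero, z3, smul_smul] at e
      linear_combination (norm := module) (-1 / 2 : ℚ) • e)
  · exact no2 (by
      have e := congrArg (fun y => y * (x2 * x2)) z1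
      simp only [mul_assoc, smul_mul_assoc, one_mul] at e
      rw [← mul_assoc x1 x2 x2, h12, zero_mul, mul_zero, z2, smul_smul] at e
      linear_combination (norm := module) (-1 / 2 : ℚ) • e)
  · exact no2 (by
      have e := congrArg (fun y => y * (x2 * x2)) z1
      simp only [mul_assoc, smul_mul_assoc, one_mul] at e
      rw [← mul_assoc x1 x2 x2, h12, zero_mul, mul_zero, z2, smul_smul] at e
      linear_combination (norm := module) (-1 / 2 : ℚ) • e)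

end Frame

end Cfsg.Agent.FPF25.Setting
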