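import Mathlib

/-!
Elements of order three in a finite group acting fixed-point-freely on a rational space with an
invariant positive definite form: the axis `U a = 2 a + 1` and the anticommutator of two axes.
-/

set_option autoImplicit false

namespace Cfsg.Agent.FPF25

/-- A rational fixed-point-free orthogonal representation together with the possible orders of
products of two elements of order three. -/
structure Setting (G M : Type*) [Group G] [AddCommGroup M] [Module ℚ M] where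
  ρ : G →* Module.End ℚ M
  form : M →ₗ[ℚ] M →ₗ[ℚ] ℚ
  pos : ∀ v : M, v ≠ 0 → 0 < form v v
  comm : ∀ u v : M, form u v = form v u
  invar : ∀ (g : G) (u v : M), form (ρ g u) (ρ g v) = form u v
  free : ∀ (g : G) (v : M), g ≠ 1 → ρ g v = v → v = 0
  exists_ne : ∃ v : M, v ≠ 0
  order_mul : ∀ a b : G, orderOf a = 3 → orderOf b = 3 →
    orderOf (a * b) = 1 ∨ orderOf (a * b) = 3 ∨ orderOf (a * b) = 4 ∨ orderOf (a * b) = 6 ∨
      orderOf (a * b) = 10

variable {G M : Type*} [Group G] [AddCommGroup M] [Module ℚ M] (Z : Setting G M)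

namespace Setting

/-- Skew operators. -/
def Skew (X : Module.End ℚ M) : Prop := ∀ u v : M, Z.form (X u) v = -Z.form u (X v)

/-- Symmetric operators. -/
def Symm (X : Module.End ℚ M) : Prop := ∀ u v : M, Z.form (X u) v = Z.form u (X v)

include Z in
theorem smul_one_inj {x y : ℚ} (h : x • (1 : Module.End ℚ M) = y • 1) : x = y := by
  obtain ⟨v, hv⟩ := Z.exists_ne
  have h1 : x • v = y • v := by simpa using LinearMap.congr_fun h v
  exact smul_left_injective ℚ hv h1

include Z in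
theorem eq_zero_of_smul_one {x : ℚ} (h : x • (1 : Module.End ℚ M) = 0) : x = 0 :=
  Z.smul_one_inj (h.trans (zero_smul ℚ _).symm)

theorem self_nonneg (v : M) : 0 ≤ Z.form v v := by
  rcases eq_or_ne v 0 with rfl | hv
  · simp
  · exact (Z.pos v hv).le

theorem skew_sq_nonpos {X : Module.End ℚ M} (hX : Z.Skew X) {κ : ℚ} (h : X * X = κ • 1) : κ ≤ 0 := by
  obtain ⟨v, hv⟩ := Z.exists_ne
  have h1 : X (X v) = κ • v := by simpa [Module.End.mul_apply] using LinearMap.congr_fun h v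
  have h2 := hX v (X v)
  rw [h1, map_smul, smul_eq_mul] at h2
  nlinarith [Z.self_nonneg (X v), Z.pos v hv]

theorem symm_sq_nonneg {X : Module.End ℚ M} (hX : Z.Symm X) {κ : ℚ} (h : X * X = κ • 1) : 0 ≤ κ := by
  obtain ⟨v, hv⟩ := Z.exists_ne
  have h1 : X (X v) = κ • v := by simpa [Module.End.mul_apply] using LinearMap.congr_fun h v
  have h2 := hX v (X v)
  rw [h1, map_smul, smul_eq_mul] at h2
  nlinarith [Z.self_nonneg (X v), Z.pos v hv]

theorem eq_zero_of_sq {X : Module.End ℚ M} (hX : Z.Skew X ∨ Z.Symm X) (h : X * X = 0) : X = 0 := by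
  refine LinearMap.ext fun v => ?_
  have h1 : X (X v) = 0 := by simpa [Module.End.mul_apply] using LinearMap.congr_fun h v
  by_contra hne
  have h2 := Z.pos (X v) hne
  rcases hX with hX | hX <;>
  · have h3 := hX v (X v)
    rw [h1] at h3
    simp only [map_zero, neg_zero] at h3
    linarith

theorem symm_sub {X Y : Module.End ℚ M} (hX : Z.Symm X) (hY : Z.Symm Y) : Z.Symm (X - Y) := fun u v => by
  simp [hX u v, hY u v]

theorem symm_add {X Y : Module.End ℚ M} (hX : Z.Symm X) (hY : Z.Symm Y) : Z.Symm (X + Y) := fun u v => by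
  simp [hX u v, hY u v]

theorem symm_one : Z.Symm 1 := fun _ _ => rfl

theorem symm_smul {X : Module.End ℚ M} (r : ℚ) (hX : Z.Symm X) : Z.Symm (r • X) := fun u v => by
  simp [hX u v]

theorem adjoint (g : G) (u v : M) : Z.form (Z.ρ g u) v = Z.form u (Z.ρ g⁻¹ v) := by
  conv_lhs => rw [show v = Z.ρ g (Z.ρ g⁻¹ v) by
    rw [← Module.End.mul_apply, ← map_mul, mul_inv_cancel, map_one, Module.End.one_apply]]
  exact Z.invar g u _

theorem injective : Function.Injective Z.ρ := by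
  intro g h hgh
  by_contra hne
  obtain ⟨v, hv⟩ := Z.exists_ne
  refine hv (Z.free (g⁻¹ * h) v (fun e => hne (inv_mul_eq_one.mp e)) ?_)
  rw [map_mul, ← hgh, ← map_mul, inv_mul_cancel, map_one, Module.End.one_apply]

theorem sum_pow_eq_zero {g : G} {n : ℕ} (hn : g ^ n = 1) (hg : g ≠ 1) :
    ∑ i ∈ Finset.range n, Z.ρ g ^ i = 0 := by
  refine LinearMap.ext fun v => Z.free g _ hg ?_
  rw [← Module.End.mul_apply]
  congr 1
  have h : Z.ρ g ^ n = 1 := by rw [← map_pow, hn, map_one]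
  have h2 := mul_geom_sum (Z.ρ g) n
  rw [h, sub_self, sub_mul, one_mul, sub_eq_zero] at h2
  exact h2

theorem eq_neg_one {g : G} (hg : g * g = 1) (hg1 : g ≠ 1) : Z.ρ g = -1 := by
  have h := Z.sum_pow_eq_zero (n := 2) (by rw [pow_two, hg]) hg1
  simp only [Finset.sum_range_succ, Finset.sum_range_zero, zero_add, pow_zero, pow_one] at h
  rw [eq_neg_iff_add_eq_zero, add_comm]
  exact h

/-- The axis of an element of order three. -/
def U (a : G) : Module.End ℚ M := (2 : ℚ) • Z.ρ a + 1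

variable {a b : G}

theorem quad (ha : orderOf a = 3) : Z.ρ a * Z.ρ a = -Z.ρ a - 1 := by
  have h := Z.sum_pow_eq_zero (n := 3) (by rw [← ha, pow_orderOf_eq_one])
    (fun e => by rw [e, orderOf_one] at ha; omega)
  simp only [Finset.sum_range_succ, Finset.sum_range_zero, zero_add, pow_zero, pow_one, pow_two] at h
  rw [← sub_eq_zero, ← h]
  abel

theorem rho_inv (ha : orderOf a = 3) : Z.ρ a⁻¹ = -Z.ρ a - 1 := by
  rw [← Z.quad ha, ← map_mul]
  congr 1
  refine inv_eq_of_mul_eq_one_right ?_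
  rw [← pow_two, ← pow_succ']
  have h := pow_orderOf_eq_one a
  rwa [ha] at h

theorem U_sq (ha : orderOf a = 3) : Z.U a * Z.U a = (-3 : ℚ) • 1 := by
  simp only [U, mul_add, add_mul, smul_mul_assoc, mul_smul_comm, mul_one, one_mul, Z.quad ha]
  module

theorem U_inv (ha : orderOf a = 3) : Z.U a⁻¹ = -Z.U a := by
  rw [U, U, Z.rho_inv ha]
  module

theorem U_skew (ha : orderOf a = 3) : Z.Skew (Z.U a) := by
  intro u v
  have h := Z.adjoint a u v
  rw [Z.rho_inv ha] at h
  simp only [U, LinearMap.add_apply, LinearMap.smul_apply, LinearMap.sub_apply, LinearMap.neg_apply,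
    Module.End.one_apply, map_add, map_smul, map_sub, map_neg, smul_eq_mul] at h ⊢
  rw [h]
  ring

theorem U_injective : Function.Injective Z.U := by
  intro g h hgh
  apply Z.injective
  have h1 : (2 : ℚ) • Z.ρ g = (2 : ℚ) • Z.ρ h := add_right_cancel hgh
  exact smul_right_injective (M := Module.End ℚ M) (two_ne_zero : (2 : ℚ) ≠ 0) h1

theorem U_conj (g a : G) : Z.U (g * a * g⁻¹) = Z.ρ g * Z.U a * Z.ρ g⁻¹ := by
  have h : Z.ρ g * Z.ρ g⁻¹ = 1 := by rw [← map_mul, mul_inv_cancel, map_one]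
  simp only [U, map_mul, mul_add, add_mul, smul_mul_assoc, mul_smul_comm, mul_one, h]

theorem orderOf_conj' (g a : G) : orderOf (g * a * g⁻¹) = orderOf a :=
  (MulAut.conj g).orderOf_eq a

/-- The anticommutator of two axes. -/
noncomputable def Q (a b : G) : Module.End ℚ M := (1 / 2 : ℚ) • (Z.U a * Z.U b + Z.U b * Z.U a)

theorem Q_comm (a b : G) : Z.Q a b = Z.Q b a := by rw [Q, Q, add_comm]

theorem Q_inv (hb : orderOf b = 3) : Z.Q a b⁻¹ = -Z.Q a b := by
  rw [Q, Q, Z.U_inv hb, mul_neg, neg_mul, ← neg_add, smul_neg]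

theorem Q_conj (g a b : G) : Z.Q (g * a * g⁻¹) (g * b * g⁻¹) = Z.ρ g * Z.Q a b * Z.ρ g⁻¹ := by
  have h : ∀ x y : Module.End ℚ M, Z.ρ g * x * Z.ρ g⁻¹ * (Z.ρ g * y * Z.ρ g⁻¹) =
      Z.ρ g * (x * y) * Z.ρ g⁻¹ := by
    intro x y
    have h1 : Z.ρ g⁻¹ * Z.ρ g = 1 := by rw [← map_mul, inv_mul_cancel, map_one]
    simp only [mul_assoc]
    rw [← mul_assoc (Z.ρ g⁻¹) (Z.ρ g), h1, one_mul]
  simp only [Q, U_conj, h, mul_add, add_mul, smul_mul_assoc, mul_smul_comm]

theorem Q_conj_scalar (g : G) {a b : G} {r : ℚ} (h : Z.Q a b = r • 1) :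
    Z.Q (g * a * g⁻¹) (g * b * g⁻¹) = r • 1 := by
  rw [Q_conj, h, mul_smul_comm, mul_one, smul_mul_assoc, ← map_mul, mul_inv_cancel, map_one]

theorem Q_eq (ha : orderOf a = 3) (hb : orderOf b = 3) :
    Z.Q a b = (2 : ℚ) • (Z.ρ (a * b) + Z.ρ (a * b)⁻¹) - 1 := by
  rw [Q, mul_inv_rev, map_mul, map_mul, Z.rho_inv ha, Z.rho_inv hb]
  simp only [U, mul_add, add_mul, mul_sub, sub_mul, neg_mul, mul_neg, smul_mul_assoc, mul_smul_comm,
    mul_one, one_mul]
  module

/-- The five possibilities for two axes. -/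
theorem pair_cases (ha : orderOf a = 3) (hb : orderOf b = 3) :
    (Z.Q a b = (-3 : ℚ) • 1 ∧ b = a) ∨ (Z.Q a b = (3 : ℚ) • 1 ∧ b = a⁻¹) ∨
      Z.Q a b = (1 : ℚ) • 1 ∨ Z.Q a b = (-1 : ℚ) • 1 ∨ Z.Q a b * Z.Q a b = (5 : ℚ) • 1 := by
  have hQ := Z.Q_eq ha hb
  set g := a * b with hg
  set P := Z.ρ g with hP
  set P' := Z.ρ g⁻¹ with hP'
  have hPP : P * P' = 1 := by rw [hP, hP', ← map_mul, mul_inv_cancel, map_one]
  have hPP' : P' * P = 1 := by rw [hP, hP', ← map_mul, inv_mul_cancel, map_one]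
  have key : ∀ k : ℕ, 0 < k → k < orderOf g → g ^ k ≠ 1 := fun k h1 h2 =>
    pow_ne_one_of_lt_orderOf h1.ne' h2
  have hneg : ∀ k : ℕ, 0 < k → orderOf g = 2 * k → P ^ k = -1 := fun k hk ho => by
    rw [hP, ← map_pow]
    exact Z.eq_neg_one (by rw [← pow_add, ← two_mul, ← ho, pow_orderOf_eq_one])
      (key k hk (by omega))
  rcases Z.order_mul a b ha hb with h | h | h | h | h
  · have hg1 : g = 1 := orderOf_eq_one_iff.mp h
    refine Or.inr (Or.inl ⟨?_, (inv_eq_of_mul_eq_one_right hg1).symm⟩)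
    rw [hQ, hP, hP', hg1, inv_one, map_one]
    module
  · have hT : P + P' = -1 := by
      rw [hP', Z.rho_inv h, ← hP]
      module
    left
    refine ⟨by rw [hQ, hT]; module, ?_⟩
    -- `a * b⁻¹` is unipotent, hence trivial
    set k := a * b⁻¹ with hk
    have hH : Z.ρ k + Z.ρ k⁻¹ = (2 : ℚ) • 1 := by
      have h1 : Z.ρ k + Z.ρ k⁻¹ = 1 - (P + P') := by
        rw [hk, hP, hP', hg, mul_inv_rev, mul_inv_rev, inv_inv]
        simp only [map_mul, Z.rho_inv ha, Z.rho_inv hb]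
        simp only [mul_sub, sub_mul, neg_mul, mul_neg, mul_one, one_mul]
        module
      rw [h1, hT]
      module
    by_contra hne
    have hk1 : k ≠ 1 := fun e => hne (mul_inv_eq_one.mp (hk.symm.trans e)).symm
    obtain ⟨v, hv⟩ := Z.exists_ne
    have h2 : Z.ρ k v + Z.ρ k⁻¹ v = (2 : ℚ) • v := by simpa using LinearMap.congr_fun hH v
    have h3 : Z.ρ k (Z.ρ k v - v) = Z.ρ k v - v := by
      have h4 := congrArg (Z.ρ k) h2
      rw [map_add, ← Module.End.mul_apply (Z.ρ k) (Z.ρ k⁻¹), ← map_mul, mul_inv_cancel, map_one,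
        Module.End.one_apply, map_smul] at h4
      rw [map_sub]
      rw [eq_sub_of_add_eq h4]
      module
    exact hv (Z.free k v hk1 (sub_eq_zero.mp (Z.free k _ hk1 h3)))
  · have h2 : P * P = -1 := by rw [← pow_two]; exact hneg 2 (by norm_num) h
    have hT : P' = -P := by
      calc P' = P' * -(P * P) := by rw [h2, neg_neg, mul_one]
        _ = -P := by rw [mul_neg, ← mul_assoc, hPP', one_mul]
    refine Or.inr (Or.inr (Or.inr (Or.inl ?_)))
    rw [hQ, hT]
    module
  · have h3 : P * (P * P) = -1 := by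
      rw [← hneg 3 (by norm_num) h, pow_succ', pow_two]
    have h4 := Z.sum_pow_eq_zero (g := g ^ 2) (n := 3)
      (by rw [← pow_mul]; have := pow_orderOf_eq_one g; rwa [h] at this)
      (key 2 (by norm_num) (by rw [h]; norm_num))
    simp only [Finset.sum_range_succ, Finset.sum_range_zero, zero_add, pow_zero, map_pow,
      pow_succ, one_mul, map_mul] at h4
    simp only [← hP, mul_assoc, h3, mul_neg, mul_one] at h4
    have h5 : P' = -(P * P) := by
      calc P' = P' * -(P * (P * P)) := by rw [h3, neg_neg, mul_one]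
        _ = -(P * P) := by rw [mul_neg, ← mul_assoc, hPP', one_mul]
    refine Or.inr (Or.inr (Or.inl ?_))
    rw [hQ, h5]
    linear_combination (norm := module) (-2 : ℚ) • h4
  · have h5' : P * (P * (P * (P * P))) = -1 := by
      rw [← hneg 5 (by norm_num) h]
      simp only [pow_succ, pow_zero, one_mul, mul_assoc]
    have h4 := Z.sum_pow_eq_zero (g := g ^ 2) (n := 5)
      (by rw [← pow_mul]; have := pow_orderOf_eq_one g; rwa [h] at this)
      (key 2 (by norm_num) (by rw [h]; norm_num))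
    simp only [Finset.sum_range_succ, Finset.sum_range_zero, zero_add, pow_zero, map_pow,
      pow_succ, one_mul, map_mul] at h4
    simp only [← hP, mul_assoc, h5', mul_neg, neg_mul, mul_one, one_mul] at h4
    have hc : ∀ x, P' * (P * x) = x := fun x => by rw [← mul_assoc, hPP', one_mul]
    have h6 := congrArg (fun x => P' * (P' * x)) h4
    simp only [mul_add, mul_zero, mul_neg, mul_one, hc, hPP'] at h6
    refine Or.inr (Or.inr (Or.inr (Or.inr ?_)))
    rw [hQ]
    simp only [mul_add, add_mul, mul_sub, sub_mul, smul_mul_assoc, mul_smul_comm, mul_one, one_mul,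
      smul_add, smul_sub, hPP, hPP']
    linear_combination (norm := module) (4 : ℚ) • h6

theorem Q_sq (ha : orderOf a = 3) (hb : orderOf b = 3) :
    ∃ ν : ℚ, Z.Q a b * Z.Q a b = ν • 1 ∧
      ((ν = 9 ∧ (b = a ∨ b = a⁻¹)) ∨
        (ν = 1 ∧ (Z.Q a b = (1 : ℚ) • 1 ∨ Z.Q a b = (-1 : ℚ) • 1)) ∨ ν = 5) := by
  have hs : ∀ r : ℚ, (r • (1 : Module.End ℚ M)) * (r • 1) = (r * r) • 1 := fun r => by
    rw [smul_mul_assoc, one_mul, smul_smul]
  rcases Z.pair_cases ha hb with ⟨h, e⟩ | ⟨h, e⟩ | h | h | h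
  · exact ⟨9, by rw [h, hs]; norm_num, Or.inl ⟨rfl, Or.inl e⟩⟩
  · exact ⟨9, by rw [h, hs]; norm_num, Or.inl ⟨rfl, Or.inr e⟩⟩
  · exact ⟨1, by rw [h, hs]; norm_num, Or.inr (Or.inl ⟨rfl, Or.inl h⟩)⟩
  · exact ⟨1, by rw [h, hs]; norm_num, Or.inr (Or.inl ⟨rfl, Or.inr h⟩)⟩
  · exact ⟨5, h, Or.inr (Or.inr rfl)⟩

theorem rat_sq_ne_five (q : ℚ) : q * q ≠ 5 := fun h => by
  have h1 : IsSquare ((5 : ℕ) : ℚ) := ⟨q, by exact_mod_cast h.symm⟩
  rw [Rat.isSquare_natCast_iff] at h1
  obtain ⟨m, hm⟩ := h1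
  rcases Nat.lt_or_ge m 3 with h2 | h2
  · interval_cases m <;> omega
  · nlinarith

end Setting

end Cfsg.Agent.FPF25
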