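import Cfsg.Agent.FPF25.Zassenhaus

/-!
Nonsolvable groups regular on the nonzero vectors of a space over a prime field.
-/

set_option autoImplicit false

namespace Cfsg.Agent.FPF25

open Subgroup Polynomial
open scoped commutatorElement

/-- A normal subgroup generated by one element of a group transitive on nonzero vectors spans a field. -/
theorem isPrime_ker_aeval {F V : Type*} [Field F] [AddCommGroup V] [Module F V] [Finite V] [Nontrivial V]
    {H : Type*} [Group H] (T : H →* Module.End F V)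
    (htrans : ∀ v w : V, v ≠ 0 → w ≠ 0 → ∃ h : H, T h v = w) (a : H)
    (hn : ∀ g : H, g * a * g⁻¹ ∈ Submonoid.powers a) :
    (RingHom.ker (aeval (T a) : F[X] →ₐ[F] Module.End F V)).IsPrime := by
  -- a nonzero subspace invariant under `a`, minimal
  let Inv : Set (Submodule F V) := {W | W ≠ ⊥ ∧ ∀ w ∈ W, T a w ∈ W}
  obtain ⟨W, ⟨hW0, hWi⟩, hWmin⟩ := (wellFounded_lt (α := Submodule F V)).has_min Inv
    ⟨⊤, fun e => by
      obtain ⟨v, hv⟩ := exists_ne (0 : V)
      exact hv ((Submodule.eq_bot_iff _).mp e v trivial), fun _ _ => trivial⟩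
  obtain ⟨w0, hw0, hw0'⟩ := Submodule.exists_mem_ne_zero_of_ne_bot hW0
  let orb : V → Submodule F V := fun v => LinearMap.range
    ((LinearMap.applyₗ v).comp (aeval (T a) : F[X] →ₐ[F] Module.End F V).toLinearMap)
  have horb : ∀ v w, w ∈ orb v ↔ ∃ f : F[X], aeval (T a) f v = w := fun v w => Iff.rfl
  have hself : ∀ v, v ∈ orb v := fun v => (horb v v).mpr ⟨1, by rw [map_one]; rfl⟩
  -- every nonzero vector lies in a simple invariant subspace
  have key : ∀ v : V, v ≠ 0 → ∀ f : F[X], aeval (T a) f v ≠ 0 → ∃ g : F[X], aeval (T a) g (aeval (T a) f v) = v := by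
    intro v hv f hf
    obtain ⟨h, hh⟩ := htrans w0 v hw0' hv
    set U : Submodule F V := W.map (T h) with hU
    have hUi : ∀ u ∈ U, T a u ∈ U := by
      rintro _ ⟨w, hw, rfl⟩
      obtain ⟨t, ht⟩ := hn h⁻¹
      refine ⟨T (a ^ t) w, ?_, ?_⟩
      · have hpow : ∀ t : ℕ, T (a ^ t) w ∈ W := by
          intro t
          induction t with
          | zero => rw [pow_zero, map_one]; exact hw
          | succ t ih => rw [pow_succ', map_mul]; exact hWi _ ih
        exact hpow t
      · rw [← Module.End.mul_apply, ← map_mul, ← Module.End.mul_apply, ← map_mul]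
        congr 2
        rw [show a ^ t = h⁻¹ * a * h⁻¹⁻¹ from ht]
        group
    have hUpol : ∀ g : F[X], ∀ u ∈ U, aeval (T a) g u ∈ U := by
      intro g
      induction g using Polynomial.induction_on' with
      | add g g' hg hg' => intro u hu; rw [map_add]; exact U.add_mem (hg u hu) (hg' u hu)
      | monomial k c =>
        intro u hu
        rw [aeval_monomial, Algebra.algebraMap_eq_smul_one, smul_mul_assoc, one_mul]
        refine U.smul_mem c ?_
        induction k with
        | zero => rw [pow_zero]; exact hu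
        | succ k ih => rw [pow_succ']; exact hUi _ ih
    have hvU : v ∈ U := ⟨w0, hw0, hh⟩
    set X' := orb (aeval (T a) f v) with hX'
    have hXU : X' ≤ U := fun x hx => by
      obtain ⟨g, rfl⟩ := (horb _ _).mp hx
      exact hUpol g _ (hUpol f v hvU)
    set W' : Submodule F V := W ⊓ X'.comap (T h) with hW'
    have hW'mem : W' ∈ Inv := by
      refine ⟨fun e => ?_, fun w hw => ⟨hWi w hw.1, ?_⟩⟩
      · obtain ⟨w, hw, hwe⟩ := hXU (hself (aeval (T a) f v))
        have h1 : w ∈ W' := ⟨hw, by rw [SetLike.mem_coe, Submodule.mem_comap, hwe]; exact hself _⟩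
        rw [e, Submodule.mem_bot] at h1
        rw [h1, map_zero] at hwe
        exact hf hwe.symm
      · obtain ⟨t, ht⟩ := hn h
        obtain ⟨g, hg⟩ := (horb _ _).mp hw.2
        refine (horb _ _).mpr ⟨Polynomial.X ^ t * g, ?_⟩
        rw [map_mul, map_pow, aeval_X, Module.End.mul_apply, hg, ← map_pow, ← Module.End.mul_apply, ← map_mul,
          ← Module.End.mul_apply, ← map_mul]
        congr 2
        rw [show a ^ t = h * a * h⁻¹ from ht]
        group
    have hWW : W' = W := inf_le_left.eq_of_not_lt (hWmin W' hW'mem)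
    have hvX : v ∈ X' := by
      have h1 : w0 ∈ W' := hWW.symm ▸ hw0
      have := h1.2
      rwa [SetLike.mem_coe, Submodule.mem_comap, hh] at this
    exact (horb _ _).mp hvX
  -- a polynomial killing one nonzero vector kills all
  have hkill : ∀ (f : F[X]) (v : V), v ≠ 0 → aeval (T a) f v = 0 → aeval (T a) f = 0 := by
    intro f v hv hfv
    refine LinearMap.ext fun w => by_contra fun hw => ?_
    rw [LinearMap.zero_apply] at hw
    have hsum : v + w ≠ 0 := fun e => hw (by
      rw [show w = -v from eq_neg_of_add_eq_zero_right e, map_neg, hfv, neg_zero])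
    obtain ⟨g, hg⟩ := key (v + w) hsum f (by rw [map_add, hfv, zero_add]; exact hw)
    rw [map_add, hfv, zero_add, ← Module.End.mul_apply, ← map_mul] at hg
    have hv' : v = aeval (T a) (g * f - 1) w := by
      rw [map_sub, map_one, LinearMap.sub_apply, Module.End.one_apply, hg, add_sub_cancel_right]
    have hne : aeval (T a) (g * f - 1) w ≠ 0 := hv' ▸ hv
    have hw0 : w ≠ 0 := fun e => hw (by rw [e, map_zero])
    obtain ⟨g', hg'⟩ := key w hw0 (g * f - 1) hne
    rw [← hv'] at hg'
    refine hw ?_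
    rw [← hg', ← Module.End.mul_apply, ← map_mul, mul_comm f, map_mul, Module.End.mul_apply, hfv, map_zero]
  refine Ideal.isPrime_iff.mpr ⟨fun e => ?_, fun {f g} hfg => ?_⟩
  · have h1 : (1 : F[X]) ∈ RingHom.ker (aeval (T a) : F[X] →ₐ[F] Module.End F V) := e ▸ Submodule.mem_top
    rw [RingHom.mem_ker, map_one] at h1
    exact one_ne_zero h1
  · rw [RingHom.mem_ker] at hfg ⊢
    by_cases hg : aeval (T a) g = 0
    · exact Or.inr hg
    · obtain ⟨v, hv⟩ : ∃ v, aeval (T a) g v ≠ 0 := by
        by_contra hc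
        push Not at hc
        exact hg (LinearMap.ext hc)
      exact Or.inl (hkill f _ hv (by rw [← Module.End.mul_apply, ← map_mul, hfg]; rfl))

/-- The arithmetic at the end. -/
theorem small_cases : ∀ p : Fin 240, ∀ d : Fin 4, ∀ k : Fin 4, ∀ i : Fin 3, ∀ N : ℕ,
    N = (p.val ^ d.val) ^ k.val - 1 → 7 ≤ p.val → 0 < d.val → 2 ≤ k.val → 0 < i.val → N % (120 * i.val) = 0 →
    Nat.Coprime (N / (120 * i.val)) 30 → (p.val ^ d.val - 1) % (N / (120 * i.val)) = 0 →
    (d.val = 1 ∧ k.val = 2 ∧ i.val = 1 ∧ (p.val = 11 ∧ N / (120 * i.val) = 1 ∨ p.val = 29 ∧ N / (120 * i.val) = 7 ∨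
      p.val = 59 ∧ N / (120 * i.val) = 29)) ∨ ¬ Nat.Coprime p.val 30 ∨ p.val = 119 := by
  simp only [forall_eq]
  decide +kernel

theorem arith {p d k i M a : ℕ} (hp : p.Prime) (hp30 : ¬ p ∣ 30) (hd : 0 < d) (hk : 2 ≤ k) (hi : i = 1 ∨ i = 2)
    (hM : (p ^ d) ^ k - 1 = 120 * i * M) (hc : M.Coprime 30) (ha : a ∣ p ^ d - 1) (haM : a ∣ M)
    (hb : M / a ≤ d) :
    M = a ∧ d = 1 ∧ k = 2 ∧ i = 1 ∧ (p = 11 ∧ M = 1 ∨ p = 29 ∧ M = 7 ∨ p = 59 ∧ M = 29) := by
  have hp7 : 7 ≤ p := by
    by_contra hlt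
    push Not at hlt
    have := hp.two_le
    interval_cases p
    · exact hp30 (by norm_num)
    · exact hp30 (by norm_num)
    · norm_num at hp
    · exact hp30 (by norm_num)
    · norm_num at hp
  set q := p ^ d with hq
  have hq7 : 7 ≤ q := hp7.trans (Nat.le_self_pow (by omega) p)
  have hapos : 0 < a := Nat.pos_of_dvd_of_pos ha (by omega)
  obtain ⟨c, rfl⟩ := haM
  rw [Nat.mul_div_cancel_left c hapos] at hb
  have hale : a ≤ q - 1 := Nat.le_of_dvd (by omega) ha
  have hMle : a * c ≤ (q - 1) * d := Nat.mul_le_mul hale hb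
  -- `q ^ (k - 1) < 240 d`
  have hbound : q ^ (k - 1) < 240 * d := by
    have h1 : q ^ k - 1 ≤ 240 * ((q - 1) * d) := by
      rw [hM]
      exact Nat.mul_le_mul (by omega) hMle
    by_contra hge
    push Not at hge
    have h2 : q * (240 * d) ≤ q ^ k := by
      calc q * (240 * d) ≤ q * q ^ (k - 1) := Nat.mul_le_mul_left q hge
        _ = q ^ k := by rw [← pow_succ', Nat.sub_add_cancel (by omega)]
    have h3 : 240 * ((q - 1) * d) + 240 * d = q * (240 * d) := by
      obtain ⟨q', hq'⟩ := Nat.exists_eq_add_of_le' (show 1 ≤ q by omega)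
      rw [hq', Nat.add_sub_cancel]; ring
    omega
  have hd3 : d ≤ 3 := by
    by_contra hd4
    push Not at hd4
    have h1 : 240 * d ≤ p ^ d := by
      have h7 : ∀ d, 4 ≤ d → 240 * d ≤ 7 ^ d := by
        intro d hd
        induction d, hd using Nat.le_induction with
        | base => norm_num
        | succ n hn ih => rw [pow_succ]; omega
      exact (h7 d hd4).trans (Nat.pow_le_pow_left hp7 d)
    have h2 : q ≤ q ^ (k - 1) := Nat.le_self_pow (by omega) q
    omega
  have hc1 : c = 1 := by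
    have hc' : c.Coprime 30 := hc.coprime_dvd_left (Dvd.intro_left a rfl)
    have hc3 : c ≤ 3 := hb.trans hd3
    interval_cases c
    · norm_num at hc'
    · rfl
    · norm_num at hc'
    · norm_num at hc'
  subst hc1
  rw [mul_one] at hM hc ⊢
  have hk3 : k ≤ 3 := by
    by_contra hk4
    push Not at hk4
    have h1 : q ^ 3 ≤ q ^ (k - 1) := Nat.pow_le_pow_right (by omega) (by omega)
    interval_cases d
    · have : 7 ^ 3 ≤ q ^ 3 := Nat.pow_le_pow_left hq7 3
      omega
    · have : 49 ^ 3 ≤ q ^ 3 := by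
        rw [hq]; exact le_of_eq_of_le (by norm_num) (Nat.pow_le_pow_left (Nat.pow_le_pow_left hp7 2) 3)
      omega
    · have : 343 ^ 3 ≤ q ^ 3 := by
        rw [hq]; exact le_of_eq_of_le (by norm_num) (Nat.pow_le_pow_left (Nat.pow_le_pow_left hp7 3) 3)
      omega
  have hp240 : p < 240 := by
    have h2 : q ≤ q ^ (k - 1) := Nat.le_self_pow (by omega) q
    interval_cases d
    · rw [pow_one] at hq; omega
    · by_contra h; push Not at h
      have : 240 ^ 2 ≤ q := by rw [hq]; exact Nat.pow_le_pow_left h 2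
      omega
    · by_contra h; push Not at h
      have : 240 ^ 3 ≤ q := by rw [hq]; exact Nat.pow_le_pow_left h 3
      omega
  have hipos : 0 < 120 * i := by omega
  have hdiv : ((p ^ d) ^ k - 1) / (120 * i) = a := by rw [hM, Nat.mul_div_cancel_left _ hipos]
  rcases small_cases ⟨p, hp240⟩ ⟨d, by omega⟩ ⟨k, by omega⟩ ⟨i, by omega⟩ _ rfl hp7 hd hk (by dsimp; omega)
    (by dsimp; rw [hM]; exact Nat.mul_mod_right _ _) (by dsimp; rw [hdiv]; exact hc)
    (by dsimp; rw [hdiv]; exact Nat.mod_eq_zero_of_dvd ha) with ⟨e1, e2, e3, e4⟩ | h | h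
  · dsimp at e1 e2 e3 e4
    rw [hdiv] at e4
    exact ⟨rfl, e1, e2, e3, e4⟩
  · dsimp at h
    exact absurd ((Nat.Prime.coprime_iff_not_dvd hp).mpr hp30) h
  · dsimp at h
    subst h
    norm_num at hp

end Cfsg.Agent.FPF25
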