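import Cfsg.Agent.FPF25.IcosData

/-!
The fixed-point-free two-dimensional representation of `SL(2, 5)` over the field with eleven elements.
-/

set_option autoImplicit false

namespace Cfsg.Agent.FPF25.Icos

/-- Entries of a two by two matrix over `ZMod 11`. -/
abbrev Eleven : Type := ZMod 11 × ZMod 11 × ZMod 11 × ZMod 11

/-- The square root of five modulo eleven is four. -/
def red (z : ℤ√5) : ZMod 11 := 3 * ((z.re : ZMod 11) + 4 * (z.im : ZMod 11))

/-- The matrix of a scaled quaternion. -/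
def toEleven (p : Co) : Eleven :=
  (red p.w + red p.y - 3 * red p.z, -red p.x + 3 * red p.y + red p.z,
    red p.x + 3 * red p.y + red p.z, red p.w - red p.y + 3 * red p.z)

/-- The image of the element with index `k`. -/
def mE (k : Fin 120) : Eleven := toEleven (qc k)

/-- The matrix product. -/
def mulE (p q : Eleven) : Eleven :=
  (p.1 * q.1 + p.2.1 * q.2.2.1, p.1 * q.2.1 + p.2.1 * q.2.2.2,
    p.2.2.1 * q.1 + p.2.2.2 * q.2.2.1, p.2.2.1 * q.2.1 + p.2.2.2 * q.2.2.2)

theorem mE_next : ∀ k j, mulE (mE k) (mE (nxt 0 j)) = mE (nxt k j) := by decide +kernel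

theorem mE_zero : mE 0 = (1, 0, 0, 1) := by
  rw [mE, qc_zero]; decide +kernel

theorem mE_free : ∀ k : Fin 120, k ≠ 0 →
    ((mE k).1 - 1) * ((mE k).2.2.2 - 1) - (mE k).2.1 * (mE k).2.2.1 ≠ 0 := by
  decide +kernel

/-- A matrix from its entries. -/
def matE (p : Eleven) : Matrix (Fin 2) (Fin 2) (ZMod 11) := !![p.1, p.2.1; p.2.2.1, p.2.2.2]

theorem matE_mul (p q : Eleven) : matE (mulE p q) = matE p * matE q := by
  simp [matE, mulE, Matrix.mul_fin_two]

/-- The element of `SL(2, 5)` with index `k`. -/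
def sl (k : Fin 120) : Matrix.SpecialLinearGroup (Fin 2) (ZMod 5) :=
  ⟨!![(mc k).1, (mc k).2.1; (mc k).2.2.1, (mc k).2.2.2], by
    rw [Matrix.det_fin_two_of]; exact det_mc k⟩

theorem sl_bijective : Function.Bijective sl := by
  refine ⟨fun a b hab => mc_injective ?_, fun A => ?_⟩
  · have e := congrArg Subtype.val hab
    exact Prod.ext (congrFun (congrFun e 0) 0) (Prod.ext (congrFun (congrFun e 0) 1)
      (Prod.ext (congrFun (congrFun e 1) 0) (congrFun (congrFun e 1) 1)))
  · have hdet : detEnt (A.1 0 0, A.1 0 1, A.1 1 0, A.1 1 1) = 1 := by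
      have := A.2
      rw [Matrix.det_fin_two] at this
      exact this
    refine Exists.elim (mc_surjective _ _ _ _ hdet) fun k hk => ⟨k, Subtype.ext ?_⟩
    show !![_, _; _, _] = A.1
    rw [hk, ← Matrix.eta_fin_two]

theorem sl_next (k : Fin 120) (j : Fin 3) : sl k * sl (nxt 0 j) = sl (nxt k j) := by
  apply Subtype.ext
  show !![_, _; _, _] * !![_, _; _, _] = !![_, _; _, _]
  rw [← mc_next k j, Matrix.mul_fin_two]
  rfl

theorem sl_zero : sl 0 = 1 := by
  apply Subtype.ext
  show !![_, _; _, _] = _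
  rw [mc_zero, Matrix.SpecialLinearGroup.coe_one, Matrix.one_fin_two]

/-- The index of an element. -/
noncomputable def ix : Matrix.SpecialLinearGroup (Fin 2) (ZMod 5) ≃ Fin 120 :=
  (Equiv.ofBijective sl sl_bijective).symm

theorem ix_sl (k : Fin 120) : ix (sl k) = k := (Equiv.ofBijective sl sl_bijective).symm_apply_apply k

theorem mat_mul (k : Fin 120) : ∀ A : Matrix.SpecialLinearGroup (Fin 2) (ZMod 5),
    matE (mE (ix (A * sl k))) = matE (mE (ix A)) * matE (mE k) := by
  induction hn : k.val using Nat.strong_induction_on generalizing k with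
  | _ n ih =>
    intro A
    rcases eq_or_ne k 0 with rfl | hk0
    · rw [sl_zero, mul_one, mE_zero]
      show _ = _ * !![1, 0; 0, 1]
      rw [← Matrix.one_fin_two, mul_one]
    · obtain ⟨hlt, hnx⟩ := par_spec k hk0
      have h1 := ih _ (hn ▸ hlt) _ rfl A
      obtain ⟨k', hk'⟩ := sl_bijective.2 (A * sl (par k).1)
      rw [← hnx, ← sl_next, ← mul_assoc, ← hk', sl_next, ix_sl, ← mE_next k' (par k).2, ← mE_next (par k).1 (par k).2, matE_mul, matE_mul,
        ← mul_assoc, ← h1, ← hk', ix_sl]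

/-- The representation of `SL(2, 5)` on the plane over `ZMod 11`. -/
noncomputable def elevenHom : Matrix.SpecialLinearGroup (Fin 2) (ZMod 5) →*
    Matrix (Fin 2) (Fin 2) (ZMod 11) where
  toFun A := matE (mE (ix A))
  map_one' := by
    rw [← sl_zero, ix_sl, mE_zero]
    exact Matrix.one_fin_two.symm
  map_mul' A B := by
    obtain ⟨k, rfl⟩ := sl_bijective.2 B
    rw [mat_mul, ix_sl]

theorem elevenHom_free {A : Matrix.SpecialLinearGroup (Fin 2) (ZMod 5)} (hA : A ≠ 1)
    {v : Fin 2 → ZMod 11} (hv : (elevenHom A).mulVec v = v) : v = 0 := by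
  have : Fact (Nat.Prime 11) := ⟨by norm_num⟩
  obtain ⟨k, rfl⟩ := sl_bijective.2 A
  have hk : k ≠ 0 := fun e => hA (e ▸ sl_zero)
  by_contra hne
  have hdet : (elevenHom (sl k) - 1).det = 0 :=
    Matrix.exists_mulVec_eq_zero_iff.mp ⟨v, hne, by rw [Matrix.sub_mulVec, Matrix.one_mulVec, hv, sub_self]⟩
  refine mE_free k hk ?_
  rw [← hdet]
  show _ = (matE (mE (ix (sl k))) - 1).det
  rw [ix_sl, matE, Matrix.one_fin_two, Matrix.det_fin_two]
  simp

end Cfsg.Agent.FPF25.Icos
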