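import Cfsg.Agent.FPF25.Zassenhaus
import Cfsg.Agent.Core.Fitting
import Cfsg.Agent.Char.Integral

/-!
Trivial intersection Hall subgroups: action on normal subgroups of coprime order and the solvability of
the normaliser modulo the centraliser.
-/

set_option autoImplicit false

namespace Cfsg.Agent.FPF25

open Subgroup
open scoped commutatorElement

variable {G : Type*} [Group G]

theorem le_normalizer_map_of_characteristic {H : Subgroup G} (K : Subgroup H) [K.Characteristic] :
    normalizer (H : Set G) ≤ normalizer ((K.map H.subtype : Subgroup G) : Set G) := by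
  intro g hg
  have key : ∀ g ∈ normalizer (H : Set G), ∀ x ∈ K.map H.subtype, g * x * g⁻¹ ∈ K.map H.subtype := by
    rintro g hg x ⟨y, hy, rfl⟩
    refine ⟨H.normalizerMonoidHom ⟨g, hg⟩ y, ?_, rfl⟩
    exact (Subgroup.characteristic_iff_map_le.mp inferInstance (H.normalizerMonoidHom ⟨g, hg⟩))
      (mem_map_of_mem _ hy)
  refine mem_normalizer_iff.mpr fun x => ⟨key g hg x, fun hx => ?_⟩
  have := key g⁻¹ (inv_mem hg) _ hx
  simpa [mul_assoc] using this

variable [Finite G]

/-- The automorphisms of a `p`-subgroup of a fixed-point-free group form a solvable group. -/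
theorem HasFPF.isSolvable_mulAut (h : HasFPF G) {p : ℕ} [hp : Fact p.Prime] {P : Subgroup G}
    (hP : IsPGroup p P) : Group.IsSolvable (MulAut P) := by
  by_cases hc : IsCyclic P
  · obtain ⟨a, ha⟩ := hc.exists_generator
    refine Group.isSolvable_of_comm fun σ τ => MulEquiv.ext fun x => ?_
    obtain ⟨i, hi⟩ := mem_zpowers_iff.mp (ha (σ a))
    obtain ⟨j, hj⟩ := mem_zpowers_iff.mp (ha (τ a))
    obtain ⟨k, rfl⟩ := mem_zpowers_iff.mp (ha x)
    rw [MulAut.mul_apply, MulAut.mul_apply]
    simp only [map_zpow, ← hi, ← hj, ← zpow_mul]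
    congr 1
    ring
  · obtain ⟨rfl, -⟩ := (h.cyclic_or_quaternion hP).resolve_left hc
    obtain ⟨a, b, hab⟩ := h.exists_two_generators hP
    obtain ⟨m, hm⟩ := card_mulAut_dvd_of_two_generators hP hab
    obtain ⟨d, e, hd, he, hde⟩ := exists_dvd_and_dvd_of_dvd_mul hm
    obtain ⟨i, -, rfl⟩ := (Nat.dvd_prime_pow Nat.prime_two).mp hd
    rcases (Nat.dvd_prime Nat.prime_three).mp he with rfl | rfl
    · exact Char.isSolvable_of_card_eq 2 3 Nat.prime_two Nat.prime_three _ _ rfl ⟨i, 0, by simpa using hde⟩
    · exact Char.isSolvable_of_card_eq 2 3 Nat.prime_two Nat.prime_three _ _ rfl ⟨i, 1, by simpa using hde⟩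

/-- A group normalising a solvable fixed-point-free subgroup acts on it as a solvable group. -/
theorem HasFPF.derivedSeries_le_centralizer {H : Subgroup G} (h : HasFPF H) [Group.IsSolvable H] :
    ∃ n, ∀ x ∈ derivedSeries (normalizer (H : Set G)) n, (x : G) ∈ centralizer (H : Set G) := by
  classical
  set N := normalizer (H : Set G) with hN
  have hex : ∀ p ∈ (Nat.card H).primeFactors, ∃ n,
      ∀ x ∈ derivedSeries N n, (x : G) ∈ centralizer (((Cfsg.pCore p H).map H.subtype : Subgroup G) : Set G) := by
    intro p hp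
    have := Fact.mk (Nat.prime_of_mem_primeFactors hp)
    have hP : IsPGroup p (Cfsg.pCore p H) := Core.pCore_isPGroup
    have hmA : Group.IsSolvable (MulAut ((Cfsg.pCore p H).map H.subtype : Subgroup G)) := by
      have := h.isSolvable_mulAut hP
      exact Group.isSolvable_of_surjective
        (f := (MulAut.congr ((Cfsg.pCore p H).equivMapOfInjective H.subtype H.subtype_injective)).toMonoidHom)
        (MulEquiv.surjective _)
    obtain ⟨n, hn⟩ := hmA.solvable
    refine ⟨n, fun x hx => ?_⟩
    let f : N →* MulAut ((Cfsg.pCore p H).map H.subtype : Subgroup G) :=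
      ((Cfsg.pCore p H).map H.subtype).normalizerMonoidHom.comp
        (inclusion (le_normalizer_map_of_characteristic (Cfsg.pCore p H)))
    have hfx : f x = 1 := by
      have := map_derivedSeries_le_derivedSeries f n (mem_map_of_mem f hx)
      rwa [hn, mem_bot] at this
    have hker : inclusion (le_normalizer_map_of_characteristic (Cfsg.pCore p H)) x ∈
        ((Cfsg.pCore p H).map H.subtype).normalizerMonoidHom.ker := hfx
    rw [normalizerMonoidHom_ker] at hker
    exact hker
  choose f hf using hex
  set n := (Nat.card H).primeFactors.attach.sup fun p => f p.1 p.2 with hn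
  have hant : Antitone (derivedSeries N) := antitone_nat_of_succ_le fun k => by
    rw [derivedSeries_succ]; exact commutator_le_self _
  have hW : ∀ x ∈ derivedSeries N n, ∀ w ∈ (Cfsg.fittingSubgroup H).map H.subtype, (x : G) * w = w * (x : G) := by
    intro x hx
    have hle : (Cfsg.fittingSubgroup H).map H.subtype ≤ centralizer {(x : G)} := by
      rw [Core.fittingSubgroup_eq_iSup_pCore, Core.iSup_pCore_eq_iSup_primeFactors, Subgroup.map_iSup]
      refine iSup_le fun p => ?_
      intro w hw
      refine mem_centralizer_singleton_iff.mpr (mem_centralizer_iff.mp ?_ w hw)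
      exact hf p.1 p.2 x (hant (Finset.le_sup (f := fun q : {q // q ∈ (Nat.card H).primeFactors} => f q.1 q.2)
        (Finset.mem_attach _ p)) hx)
    exact fun w hw => (mem_centralizer_singleton_iff.mp (hle hw)).symm
  refine ⟨n + 1, fun x hx => ?_⟩
  have hle : derivedSeries N (n + 1) ≤ (centralizer (H : Set G)).subgroupOf N := by
    rw [derivedSeries_succ]
    refine commutator_le.mpr fun a ha b hb => ?_
    show ((⁅a, b⁆ : N) : G) ∈ centralizer (H : Set G)
    have hC : Commute (H.normalizerMonoidHom a) (H.normalizerMonoidHom b) := by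
      set W := (Cfsg.fittingSubgroup H).map H.subtype
      have hd : ∀ c ∈ derivedSeries N n, ∀ y : H, ∃ d : H, d ∈ Cfsg.fittingSubgroup H ∧
          (∀ w ∈ Cfsg.fittingSubgroup H, w * d = d * w) ∧ H.normalizerMonoidHom c y = y * d := by
        intro c hc y
        have hcW : ∀ w ∈ Cfsg.fittingSubgroup H, H.normalizerMonoidHom c w = w := fun w hw => Subtype.ext (by
          show (c : G) * w * (c : G)⁻¹ = w
          exact mul_inv_eq_iff_eq_mul.mpr (hW c hc _ (mem_map_of_mem H.subtype hw)))
        set d := y⁻¹ * H.normalizerMonoidHom c y with hd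
        have hcd : ∀ w ∈ Cfsg.fittingSubgroup H, w * d = d * w := fun w hw => by
          have h1 := hcW (y * w * y⁻¹) (Core.fittingSubgroup_normal.conj_mem w hw y)
          rw [map_mul, map_mul, map_inv, hcW w hw] at h1
          have h2 : d * w * d⁻¹ = w := by
            calc d * w * d⁻¹ = y⁻¹ * (H.normalizerMonoidHom c y * w * (H.normalizerMonoidHom c y)⁻¹) * y := by
                  rw [hd]; group
              _ = w := by rw [h1]; group
          exact (mul_inv_eq_iff_eq_mul.mp h2).symm
        refine ⟨d, Core.centralizer_fittingSubgroup_le (mem_centralizer_iff.mpr hcd), hcd, ?_⟩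
        rw [hd, mul_inv_cancel_left]
      refine MulEquiv.ext fun y => ?_
      obtain ⟨da, hda, hda', ea⟩ := hd a ha y
      obtain ⟨db, hdb, hdb', eb⟩ := hd b hb y
      have fa : H.normalizerMonoidHom a db = db := Subtype.ext (by
        show (a : G) * db * (a : G)⁻¹ = db
        exact mul_inv_eq_iff_eq_mul.mpr (hW a ha _ (mem_map_of_mem H.subtype hdb)))
      have fb : H.normalizerMonoidHom b da = da := Subtype.ext (by
        show (b : G) * da * (b : G)⁻¹ = da
        exact mul_inv_eq_iff_eq_mul.mpr (hW b hb _ (mem_map_of_mem H.subtype hda)))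
      rw [MulAut.mul_apply, MulAut.mul_apply, eb, ea, map_mul, map_mul, ea, eb, fa, fb, mul_assoc, mul_assoc,
        hdb' da hda]
    have hk : (⁅a, b⁆ : N) ∈ H.normalizerMonoidHom.ker := by
      rw [MonoidHom.mem_ker, map_commutatorElement, commutatorElement_eq_one_iff_commute]
      exact hC
    rw [normalizerMonoidHom_ker] at hk
    exact hk
  exact hle hx

/-- A nilpotency-free criterion: a subgroup acting on a coprime solvable group so that the fixed
points of every nontrivial element are those of the whole, and not everything, is fixed-point-free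
somewhere. -/
theorem hasFPF_of_fixed_points {H O : Subgroup G} [Group.IsSolvable O] (hHO : H ≤ normalizer (O : Set G))
    (hcop : (Nat.card H).Coprime (Nat.card O)) (hnc : ¬ O ≤ centralizer (H : Set G))
    (hfix : ∀ x ∈ O, ∀ h ∈ H, h ≠ 1 → h * x = x * h → x ∈ centralizer (H : Set G)) : HasFPF H := by
  classical
  obtain ⟨U, ⟨hUO, hHU, hUnc⟩, hmin⟩ := (wellFounded_lt (α := Subgroup G)).has_min
    {U : Subgroup G | U ≤ O ∧ H ≤ normalizer (U : Set G) ∧ ¬ U ≤ centralizer (H : Set G)} ⟨O, le_rfl, hHO, hnc⟩
  have hUs : Group.IsSolvable U := Group.isSolvable_of_isSolvable_injective (inclusion_injective hUO)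
  have hUcop : (Nat.card H).Coprime (Nat.card U) := hcop.coprime_dvd_right (card_dvd_of_le hUO)
  have hUH : ⁅U, H⁆ = U := by
    have hle : ⁅U, H⁆ ≤ U := Coprime.commutator_le_of_le_normalizer hHU
    refine eq_of_le_of_not_lt hle fun hlt => hmin ⁅U, H⁆
      ⟨hle.trans hUO, normalizer_commutator_ge_right U H, fun hc => hUnc ?_⟩ hlt
    rw [← commutator_eq_bot_iff_le_centralizer, ← Coprime.commutator_commutator_eq hHU hUcop (Or.inr hUs)]
    exact commutator_eq_bot_iff_le_centralizer.mpr hc
  have hUne : U ≠ ⊥ := fun e => hUnc (e ▸ bot_le)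
  have : Nontrivial U := U.nontrivial_iff_ne_bot.mpr hUne
  have : Nontrivial (Abelianization U) := by
    rw [← not_subsingleton_iff_nontrivial]
    intro hs
    exact (Group.IsSolvable.commutator_lt_top_of_nontrivial U).ne
      (QuotientGroup.subgroup_eq_top_of_subsingleton _ hs)
  let α : H →* MulAut U := U.normalizerMonoidHom.comp (inclusion hHU)
  let φ : H →* MulAut (Abelianization U) :=
    { toFun := fun a => (α a).abelianizationCongr
      map_one' := MulEquiv.ext fun v => by
        obtain ⟨u, rfl⟩ := QuotientGroup.mk_surjective v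
        show Abelianization.of (α 1 u) = Abelianization.of u
        rw [map_one]; rfl
      map_mul' := fun a b => MulEquiv.ext fun v => by
        obtain ⟨u, rfl⟩ := QuotientGroup.mk_surjective v
        show Abelianization.of (α (a * b) u) = Abelianization.of (α a (α b u))
        rw [map_mul]; rfl }
  have hφ : ∀ (a : H) (u : U), φ a (Abelianization.of u) = Abelianization.of (α a u) := fun a u => rfl
  have hα : ∀ (a : H) (u : U), ((α a u : U) : G) = (a : G) * u * (a : G)⁻¹ := fun a u => rfl
  have hVcop : (Nat.card H).Coprime (Nat.card (Abelianization U)) :=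
    hUcop.coprime_dvd_right (card_quotient_dvd_card _)
  refine hasFPF_of_isFPF (φ := φ) fun a ha v hv => ?_
  -- a fixed point of `a` is fixed by all of `H`
  have hall : ∀ b : H, φ b v = v := by
    obtain ⟨u, rfl⟩ := QuotientGroup.mk_surjective v
    have hv' : Abelianization.of (α a u) = Abelianization.of u := hv
    set D := (_root_.commutator U).map U.subtype with hD
    have hDU : D ≤ U := map_subtype_le _
    have hDn : zpowers (a : G) ≤ normalizer (D : Set G) :=
      (zpowers_le.mpr (hHU a.2)).trans (le_normalizer_map_of_characteristic (H := U) (_root_.commutator U))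
    have hsv : Group.IsSolvable (zpowers (a : G)) ∨ Group.IsSolvable D :=
      Or.inr (Group.isSolvable_of_isSolvable_injective (inclusion_injective hDU))
    have hmemD : ∀ w : U, Abelianization.of w = 1 → (w : G) ∈ D := fun w hw =>
      mem_map_of_mem _ ((QuotientGroup.eq_one_iff w).mp hw)
    obtain ⟨m, hm, hmc⟩ := Coprime.exists_fixed_mem_leftCoset hDn
      ((hUcop.coprime_dvd_left (card_dvd_of_le (zpowers_le.mpr a.2))).coprime_dvd_right (card_dvd_of_le hDU))
      hsv (k := (u : G)) (fun x hx => by
        obtain ⟨i, rfl⟩ := mem_zpowers_iff.mp hx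
        have hai : Abelianization.of (α (a ^ i) u) = Abelianization.of u := by
          rw [← hφ, map_zpow]
          exact (MulAction.mem_stabilizer_iff (G := MulAut (Abelianization U)) (a := Abelianization.of u)).mp
            (zpow_mem (MulAction.mem_stabilizer_iff.mpr hv) i)
        have := hmemD (u⁻¹ * α (a ^ i) u) (by rw [map_mul, map_inv, hai, inv_mul_cancel])
        rw [MulMemClass.coe_mul, InvMemClass.coe_inv, hα, SubgroupClass.coe_zpow] at this
        exact this)
    have hfix' : (u : G) * m ∈ centralizer (H : Set G) :=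
      hfix _ (hUO (U.mul_mem u.2 (hDU hm))) a a.2 (fun e => ha (Subtype.ext e))
        (mem_centralizer_iff.mp hmc _ (mem_zpowers _))
    intro b
    obtain ⟨m', hm', rfl⟩ := hm
    have hof : Abelianization.of (u * m') = Abelianization.of u := by
      rw [map_mul, show Abelianization.of m' = 1 from (QuotientGroup.eq_one_iff m').mpr hm', mul_one]
    show φ b (Abelianization.of u) = Abelianization.of u
    rw [← hof, hφ]
    congr 1
    apply Subtype.ext
    rw [hα]
    show (b : G) * ((u : G) * (m' : G)) * (b : G)⁻¹ = (u : G) * (m' : G)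
    exact mul_inv_eq_iff_eq_mul.mpr (mem_centralizer_iff.mp hfix' b b.2)
  -- the norm map is trivial
  have := Fintype.ofFinite H
  let π : U →* Abelianization U := ∏ b : H, (φ b).toMonoidHom.comp Abelianization.of
  have hπ : ∀ w, π w = ∏ b : H, φ b (Abelianization.of w) := fun w => by
    simp only [π, MonoidHom.finsetProd_apply]; rfl
  have hπ1 : π = 1 := by
    have hle : ⁅U, H⁆ ≤ π.ker.map U.subtype := by
      refine commutator_le.mpr fun w hw c hc => ?_
      refine ⟨⟨w, hw⟩ * (α ⟨c, hc⟩ ⟨w, hw⟩)⁻¹, ?_, ?_⟩
      · have hinv : π (α ⟨c, hc⟩ ⟨w, hw⟩) = π ⟨w, hw⟩ := by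
          rw [hπ, hπ]
          refine Fintype.prod_equiv (Equiv.mulRight ⟨c, hc⟩) _ _ fun b => ?_
          rw [Equiv.coe_mulRight, map_mul, MulAut.mul_apply, hφ ⟨c, hc⟩]
        rw [SetLike.mem_coe, MonoidHom.mem_ker, map_mul, map_inv, hinv, mul_inv_cancel]
      · simp [commutatorElement_def, hα, mul_assoc]
    rw [hUH] at hle
    refine MonoidHom.ext fun w => ?_
    obtain ⟨w', hw', e⟩ := hle w.2
    rw [← Subtype.ext e]
    exact hw'
  obtain ⟨u, rfl⟩ := QuotientGroup.mk_surjective v
  have h1 : π u = (Abelianization.of u) ^ Nat.card H := by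
    rw [hπ, Finset.prod_congr rfl (fun b _ => show φ b (Abelianization.of u) = Abelianization.of u from hall b), Finset.prod_const, Finset.card_univ, Nat.card_eq_fintype_card]
  rw [hπ1] at h1
  exact orderOf_eq_one_iff.mp (Nat.eq_one_of_dvd_coprimes hVcop
    (orderOf_dvd_of_pow_eq_one h1.symm) (_root_.orderOf_dvd_natCard _))

end Cfsg.Agent.FPF25
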