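import Cfsg.Agent.FPF25.Basics

/-!
The presentation of a fixed-point-free group with cyclic Sylow subgroups.
-/

set_option autoImplicit false

namespace Cfsg.Agent.FPF25

open Subgroup
open scoped commutatorElement

/-- The relations of a metacyclic group. -/
def metaRels (n m r : ℕ) : Set (FreeGroup (Fin 2)) :=
  {FreeGroup.of (0 : Fin 2) ^ n, FreeGroup.of (1 : Fin 2) ^ m,
    (FreeGroup.of (0 : Fin 2))⁻¹ * FreeGroup.of 1 * FreeGroup.of 0 * (FreeGroup.of (1 : Fin 2) ^ r)⁻¹}

theorem exists_normalForm {n m r : ℕ} (hn : 0 < n) (w : PresentedGroup (metaRels n m r)) :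
    ∃ i j : ℤ, w = PresentedGroup.of 1 ^ j * PresentedGroup.of 0 ^ i := by
  set x : PresentedGroup (metaRels n m r) := PresentedGroup.of 0 with hx
  set y : PresentedGroup (metaRels n m r) := PresentedGroup.of 1 with hy
  have h1 : x ^ n = 1 := by
    have h := PresentedGroup.one_of_mem (rels := metaRels n m r) (x := FreeGroup.of (0 : Fin 2) ^ n)
      (Set.mem_insert _ _)
    rwa [map_pow] at h
  have h2 : x⁻¹ * y * x = y ^ r := by
    have h := PresentedGroup.one_of_mem (rels := metaRels n m r)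
      (x := (FreeGroup.of (0 : Fin 2))⁻¹ * FreeGroup.of 1 * FreeGroup.of 0 * (FreeGroup.of (1 : Fin 2) ^ r)⁻¹)
      (Set.mem_insert_of_mem _ (Set.mem_insert_of_mem _ rfl))
    simp only [map_mul, map_inv, map_pow] at h
    exact mul_inv_eq_one.mp h
  have hinv : ∀ z ∈ zpowers y, x⁻¹ * z * x ∈ zpowers y := by
    intro z hz
    obtain ⟨j, rfl⟩ := mem_zpowers_iff.mp hz
    have e : x⁻¹ * y ^ j * x = (x⁻¹ * y * x) ^ j := by
      rw [show x⁻¹ * y * x = x⁻¹ * y * x⁻¹⁻¹ by rw [inv_inv], conj_zpow, inv_inv]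
    rw [e, h2]
    exact zpow_mem (pow_mem (mem_zpowers y) r) j
  have hpow : ∀ k : ℕ, ∀ z ∈ zpowers y, (x ^ k)⁻¹ * z * x ^ k ∈ zpowers y := by
    intro k
    induction k with
    | zero => intro z hz; simpa using hz
    | succ k ih =>
      intro z hz
      rw [pow_succ, mul_inv_rev, show x⁻¹ * (x ^ k)⁻¹ * z * (x ^ k * x) = x⁻¹ * ((x ^ k)⁻¹ * z * x ^ k) * x by group]
      exact hinv _ (ih z hz)
  have hx1 : x ^ (n - 1) = x⁻¹ := eq_inv_of_mul_eq_one_left (by rw [← pow_succ, Nat.sub_add_cancel hn, h1])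
  have hnorm : x ∈ normalizer (zpowers y : Set (PresentedGroup (metaRels n m r))) := by
    refine mem_normalizer_iff.mpr fun z => ⟨fun hz => ?_, fun hz => ?_⟩
    · have := hpow (n - 1) z hz
      rwa [hx1, inv_inv] at this
    · have := hinv _ hz
      rwa [show x⁻¹ * (x * z * x⁻¹) * x = z by group] at this
  have htop : zpowers y ⊔ zpowers x = ⊤ := by
    rw [eq_top_iff, ← PresentedGroup.closure_range_of, closure_le]
    rintro _ ⟨i, rfl⟩
    fin_cases i
    · exact mem_sup_right (mem_zpowers x)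
    · exact mem_sup_left (mem_zpowers y)
  obtain ⟨b, hb, a, ha, rfl⟩ := (Coprime.mem_sup_of_le_normalizer (zpowers_le.mpr hnorm)).mp (htop.ge (mem_top w))
  obtain ⟨i, rfl⟩ := mem_zpowers_iff.mp ha
  obtain ⟨j, rfl⟩ := mem_zpowers_iff.mp hb
  exact ⟨i, j, rfl⟩

/-- A fixed-point-free group with cyclic Sylow subgroups is metacyclic in Burnside's form. -/
theorem HasFPF.exists_presentation {T : Type*} [Group T] [Finite T] [IsZGroup T] (h : HasFPF T) :
    ∃ n m r : ℕ, 0 < n ∧ 0 < m ∧ Nat.Coprime (r - 1) m ∧ Nat.Coprime n m ∧ 1 ≤ r ∧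
      r ^ (n / ∏ p ∈ n.primeFactors, p) % m = 1 % m ∧
      Nonempty (T ≃* PresentedGroup (metaRels n m r)) := by
  classical
  set D := _root_.commutator T with hD
  have hcop : (Nat.card D).Coprime D.index := IsZGroup.coprime_commutator_index (G := T)
  have hDc : IsCyclic D := IsZGroup.isCyclic_commutator (G := T)
  obtain ⟨B, hB⟩ := exists_right_complement'_of_coprime hcop
  have hBc : IsCyclic B := isCyclic_of_injective ((Abelianization.of : T →* _).comp B.subtype) (by
    rw [injective_iff_map_eq_one]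
    intro b hb
    have hbD : (b : T) ∈ D ⊓ B := ⟨(QuotientGroup.eq_one_iff (b : T)).mp hb, b.2⟩
    rw [hB.disjoint.eq_bot, mem_bot] at hbD
    exact Subtype.ext hbD)
  obtain ⟨⟨a, haD⟩, ha⟩ := hDc.exists_generator
  obtain ⟨⟨b, hbB⟩, hb⟩ := hBc.exists_generator
  have hDa : D = zpowers a := le_antisymm (fun z hz => by
    obtain ⟨k, hk⟩ := mem_zpowers_iff.mp (ha ⟨z, hz⟩)
    exact ⟨k, congrArg Subtype.val hk⟩) (zpowers_le.mpr haD)
  have hBb : B = zpowers b := le_antisymm (fun z hz => by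
    obtain ⟨k, hk⟩ := mem_zpowers_iff.mp (hb ⟨z, hz⟩)
    exact ⟨k, congrArg Subtype.val hk⟩) (zpowers_le.mpr hbB)
  set m := orderOf a with hm
  set n := orderOf b with hn
  have hmD : Nat.card D = m := by rw [hDa, Nat.card_zpowers]
  have hnB : Nat.card B = n := by rw [hBb, Nat.card_zpowers]
  have hnm : n.Coprime m := by
    rw [← hnB, ← hB.symm.index_eq_card, ← hmD]; exact hcop.symm
  obtain ⟨r, hr1, hr⟩ : ∃ r : ℕ, 1 ≤ r ∧ b⁻¹ * a * b = a ^ r := by
    have hmem : b⁻¹ * a * b ∈ zpowers a := hDa ▸ (by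
      simpa using (inferInstance : D.Normal).conj_mem a haD b⁻¹)
    obtain ⟨k, hk⟩ := mem_powers_iff_mem_zpowers.mpr hmem
    have hm1 : 0 < m := orderOf_pos a
    refine ⟨k + m, by omega, ?_⟩
    rw [pow_add, hm, pow_orderOf_eq_one, mul_one]
    exact hk.symm
  have hsup : zpowers b ⊔ zpowers a = ⊤ := by rw [← hDa, ← hBb, sup_comm]; exact hB.sup_eq_top
  have hsup' : zpowers a ⊔ zpowers b = ⊤ := by rw [sup_comm]; exact hsup
  -- the action is fixed-point-free on the derived group
  have hr1' : Nat.Coprime (r - 1) m := by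
    set E := zpowers (a ^ (r - 1)) with hE
    have hEa : E ≤ zpowers a := zpowers_le.mpr (pow_mem (mem_zpowers a) _)
    have hconj : ∀ g ∈ ({a, b} : Set T), g⁻¹ * a ^ (r - 1) * g ∈ E := by
      intro g hg
      rcases hg with hg | hg <;> rw [hg]
      · rw [show a⁻¹ * a ^ (r - 1) * a = a ^ (r - 1) by
          rw [mul_assoc, ← pow_succ, pow_succ', inv_mul_cancel_left]]
        exact mem_zpowers _
      · rw [show b⁻¹ * a ^ (r - 1) * b = (b⁻¹ * a * b) ^ (r - 1) by
          rw [show b⁻¹ * a * b = b⁻¹ * a * b⁻¹⁻¹ by rw [inv_inv], conj_pow, inv_inv], hr, ← pow_mul, mul_comm, pow_mul]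
        exact pow_mem (mem_zpowers _) r
    have hEn : E.Normal := by
      rw [← normalizer_eq_top_iff, eq_top_iff, ← hsup]
      have key : ∀ g ∈ ({a, b} : Set T), g ∈ normalizer (E : Set T) := by
        intro g hg
        have h1 : E.map (MulAut.conj g⁻¹).toMonoidHom = E := by
          refine eq_of_le_of_card_ge ?_ (card_map_of_injective (MulAut.conj g⁻¹).injective).ge
          rw [hE, MonoidHom.map_zpowers, zpowers_le]
          show g⁻¹ * a ^ (r - 1) * g⁻¹⁻¹ ∈ _
          rw [inv_inv]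
          exact hconj g hg
        have h2 : g⁻¹ ∈ normalizer (E : Set T) := mem_normalizer_iff_map_conj_eq.mpr h1
        simpa using inv_mem h2
      exact sup_le (zpowers_le.mpr (key b (Set.mem_insert_of_mem _ rfl))) (zpowers_le.mpr (key a (Set.mem_insert _ _)))
    have hab : QuotientGroup.mk' E a * QuotientGroup.mk' E b = QuotientGroup.mk' E b * QuotientGroup.mk' E a := by
      have h1 : QuotientGroup.mk' E (a ^ (r - 1)) = 1 := (QuotientGroup.eq_one_iff _).mpr (mem_zpowers _)
      have h2 : QuotientGroup.mk' E (b⁻¹ * a * b) = QuotientGroup.mk' E a := by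
        rw [hr, ← Nat.sub_add_cancel hr1, pow_succ, map_mul, h1, one_mul]
      rw [map_mul, map_mul, map_inv, mul_assoc, inv_mul_eq_iff_eq_mul] at h2
      exact h2
    have hcom : ∀ u v : T ⧸ E, u * v = v * u := by
      have hgen : ∀ z : T ⧸ E, ∀ w ∈ ({QuotientGroup.mk' E a, QuotientGroup.mk' E b} : Set (T ⧸ E)), z * w = w * z := by
        intro z
        obtain ⟨z, rfl⟩ := QuotientGroup.mk'_surjective E z
        obtain ⟨v, hv, u, hu, rfl⟩ := (Coprime.mem_sup_of_le_normalizer (show zpowers b ≤ normalizer (zpowers a : Set T) by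
          rw [← hDa, normalizer_eq_top]; exact le_top)).mp (hsup'.ge (mem_top z))
        obtain ⟨i, rfl⟩ := mem_zpowers_iff.mp hu
        obtain ⟨j, rfl⟩ := mem_zpowers_iff.mp hv
        rw [map_mul, map_zpow, map_zpow]
        rintro w (rfl | rfl)
        · exact (((Commute.refl _).zpow_left j).mul_left (Commute.zpow_left (Commute.symm hab) i)).eq
        · exact ((Commute.zpow_left hab j).mul_left ((Commute.refl _).zpow_left i)).eq
      intro u v
      obtain ⟨z, rfl⟩ := QuotientGroup.mk'_surjective E v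
      obtain ⟨y, hy, x, hx, rfl⟩ := (Coprime.mem_sup_of_le_normalizer (show zpowers b ≤ normalizer (zpowers a : Set T) by
        rw [← hDa, normalizer_eq_top]; exact le_top)).mp (hsup'.ge (mem_top z))
      obtain ⟨i, rfl⟩ := mem_zpowers_iff.mp hx
      obtain ⟨j, rfl⟩ := mem_zpowers_iff.mp hy
      rw [map_mul, map_zpow, map_zpow]
      exact ((Commute.zpow_right (hgen u _ (Set.mem_insert _ _)) j).mul_right
        (Commute.zpow_right (hgen u _ (Set.mem_insert_of_mem _ rfl)) i)).eq
    have hle : D ≤ E := by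
      rw [hD, _root_.commutator_def]
      refine commutator_le.mpr fun u _ v _ => ?_
      rw [← QuotientGroup.eq_one_iff]
      show QuotientGroup.mk' E ⁅u, v⁆ = 1
      rw [map_commutatorElement, commutatorElement_eq_one_iff_mul_comm]
      exact hcom _ _
    have hcard : m ∣ orderOf (a ^ (r - 1)) := by
      rw [← hmD, ← Nat.card_zpowers]; exact card_dvd_of_le hle
    rw [orderOf_pow, ← hm] at hcard
    have hm1 : 0 < m := orderOf_pos a
    have h1 : m / m.gcd (r - 1) = m := Nat.dvd_antisymm (Nat.div_dvd_of_dvd (Nat.gcd_dvd_left _ _)) hcard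
    rcases Nat.div_eq_self.mp h1 with e | e
    · omega
    · rw [Nat.coprime_iff_gcd_eq_one, Nat.gcd_comm]; exact e
  -- elements of prime order of the complement centralise the derived group
  have hcent : ∀ p : ℕ, p.Prime → p ∣ n → b ^ (n / p) ∈ centralizer (D : Set T) := by
    intro p hp hpn
    have := Fact.mk hp
    set y := b ^ (n / p) with hy
    have hyo : orderOf y = p := orderOf_pow_orderOf_div (orderOf_pos b).ne' hpn
    obtain ⟨q0, k0, hq0, φ, hk0, hφ⟩ := h.exists_isFPF
    have : NeZero k0 := ⟨hk0.ne'⟩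
    have : NeZero q0 := ⟨hq0.out.ne_zero⟩
    have := IsCyclic.isMulCommutative (α := D)
    refine Coprime.le_centralizer_of_fixes_prime_order (A := zpowers y) ?_ ?_ ?_ (mem_zpowers y)
    · rw [normalizer_eq_top]; exact le_top
    · rw [Nat.card_zpowers, hyo]
      exact (hcop.coprime_dvd_right (hB.symm.index_eq_card ▸ hnB.symm ▸ hpn)).symm
    · intro w hw hwp u hu
      have hwa : w ∈ zpowers a := hDa ▸ hw
      have hnw : zpowers y ≤ normalizer ((zpowers w : Subgroup T) : Set T) := by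
        have : (zpowers w : Subgroup T).Normal := by
          refine ⟨fun z hz g => ?_⟩
          have hgz : g * z * g⁻¹ ∈ zpowers a := hDa ▸ (inferInstance : D.Normal).conj_mem z
            (hDa.symm ▸ zpowers_le.mpr hwa hz) g
          exact Fusion.mem_zpowers_of_orderOf_dvd (A := zpowers a) (isCyclic_zpowers a) hgz hwa (by
            rw [Setting.orderOf_conj', ← Nat.card_zpowers w]
            exact Subgroup.orderOf_dvd_natCard _ hz)
        rw [normalizer_eq_top]; exact le_top
      have hne : p ≠ orderOf w := fun e => by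
        have h1 : orderOf w ∣ Nat.card D := Subgroup.orderOf_dvd_natCard D hw
        exact hp.one_lt.ne' (Nat.eq_one_of_dvd_coprimes hnm hpn (e ▸ hmD ▸ h1))
      have hd : zpowers w ⊓ zpowers y = ⊥ := Coprime.inf_eq_bot_of_coprime (by
        rw [Nat.card_zpowers, Nat.card_zpowers, hyo]; exact (Nat.coprime_primes hwp hp).mpr hne.symm)
      have hcard := Coprime.card_sup_eq_mul hnw hd
      rw [Nat.card_zpowers, Nat.card_zpowers, hyo] at hcard
      have hcyc := (hφ.comp (f := (zpowers w ⊔ zpowers y).subtype) Subtype.val_injective).isCyclic_of_card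
        hwp hp hcard
      have := IsCyclic.isMulCommutative (α := (zpowers w ⊔ zpowers y : Subgroup T))
      exact setLike_mul_comm (mem_sup_right (S := zpowers w) hu) (mem_sup_left (mem_zpowers w))
  have hexp : r ^ (n / ∏ p ∈ n.primeFactors, p) % m = 1 % m := by
    have hbn : b ∈ normalizer (D : Set T) := by rw [normalizer_eq_top]; exact mem_top b
    set σ := D.normalizerMonoidHom ⟨b, hbn⟩ with hσ
    set o := orderOf σ with ho
    have hon : o ∣ n := (orderOf_map_dvd _ _).trans (dvd_of_eq (Subgroup.orderOf_mk b hbn))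
    obtain ⟨t, ht⟩ := hon
    have hop : ∀ p ∈ n.primeFactors, o ∣ n / p := fun p hp => by
      refine orderOf_dvd_of_pow_eq_one ?_
      rw [hσ, ← map_pow, ← MonoidHom.mem_ker, normalizerMonoidHom_ker, mem_subgroupOf, SubmonoidClass.coe_pow]
      exact hcent p (Nat.prime_of_mem_primeFactors hp) (Nat.dvd_of_mem_primeFactors hp)
    have hpt : (∏ p ∈ n.primeFactors, p) ∣ t := by
      refine Finset.prod_primes_dvd t (fun p hp => (Nat.prime_of_mem_primeFactors hp).prime) fun p hp => ?_
      obtain ⟨s, hs⟩ := hop p hp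
      have h1 : p * (n / p) = n := Nat.mul_div_cancel' (Nat.dvd_of_mem_primeFactors hp)
      rw [hs, ← mul_assoc, mul_comm p, mul_assoc, ht] at h1
      have hopos : 0 < o := orderOf_pos σ
      exact ⟨s, (Nat.eq_of_mul_eq_mul_left hopos h1).symm⟩
    obtain ⟨u, hu⟩ := hpt
    have hP : 0 < ∏ p ∈ n.primeFactors, p := Finset.prod_pos fun p hp => (Nat.prime_of_mem_primeFactors hp).pos
    have hdiv : n / ∏ p ∈ n.primeFactors, p = o * u := by
      conv_lhs => arg 1; rw [ht, hu]
      rw [mul_left_comm, Nat.mul_div_cancel_left _ hP]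
    rw [hdiv]
    have hs1 : σ ^ (o * u) = 1 := by rw [pow_mul, ho, pow_orderOf_eq_one, one_pow]
    have hiter : ∀ e : ℕ, (b ^ e)⁻¹ * a * b ^ e = a ^ (r ^ e) := by
      intro e
      induction e with
      | zero => simp
      | succ e ih =>
        rw [pow_succ b e, mul_inv_rev, show b⁻¹ * (b ^ e)⁻¹ * a * (b ^ e * b) = b⁻¹ * ((b ^ e)⁻¹ * a * b ^ e) * b by group,
          ih, show b⁻¹ * a ^ r ^ e * b = (b⁻¹ * a * b) ^ r ^ e by
            rw [show b⁻¹ * a * b = b⁻¹ * a * b⁻¹⁻¹ by rw [inv_inv], conj_pow, inv_inv], hr, ← pow_mul, pow_succ']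
    have hfix : b ^ (o * u) ∈ centralizer (D : Set T) := by
      have hk : (⟨b, hbn⟩ : normalizer (D : Set T)) ^ (o * u) ∈ D.normalizerMonoidHom.ker := by
        rw [MonoidHom.mem_ker, map_pow]; exact hs1
      rw [normalizerMonoidHom_ker, mem_subgroupOf, SubmonoidClass.coe_pow] at hk
      exact hk
    have hc : a * b ^ (o * u) = b ^ (o * u) * a := mem_centralizer_iff.mp hfix a haD
    have h2 := hiter (o * u)
    rw [mul_assoc, hc, inv_mul_cancel_left] at h2
    have h3 : a ^ 1 = a ^ r ^ (o * u) := by rw [pow_one]; exact h2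
    exact (pow_eq_pow_iff_modEq.mp h3).symm
  refine ⟨n, m, r, orderOf_pos b, orderOf_pos a, hr1', hnm, hr1, hexp, ?_⟩
  have hrels : ∀ w ∈ metaRels n m r, FreeGroup.lift ![b, a] w = 1 := by
    rintro w (rfl | rfl | rfl)
    · simp [hn, pow_orderOf_eq_one]
    · simp [hm, pow_orderOf_eq_one]
    · simp [hr]
  let F := PresentedGroup.toGroup hrels
  have hF0 : F (PresentedGroup.of 0) = b := by simp [F]
  have hF1 : F (PresentedGroup.of 1) = a := by simp [F]
  refine ⟨(MulEquiv.ofBijective F ⟨?_, ?_⟩).symm⟩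
  · rw [injective_iff_map_eq_one]
    intro w hw
    obtain ⟨i, j, rfl⟩ := exists_normalForm (orderOf_pos b) w
    rw [map_mul, map_zpow, map_zpow, hF0, hF1, mul_eq_one_iff_inv_eq] at hw
    have hmem : b ^ i ∈ D ⊓ B := ⟨hw ▸ D.inv_mem (D.zpow_mem haD j), B.zpow_mem hbB i⟩
    rw [hB.disjoint.eq_bot, mem_bot] at hmem
    have hj : a ^ j = 1 := by rw [hmem] at hw; exact inv_eq_one.mp hw
    obtain ⟨i', rfl⟩ := orderOf_dvd_iff_zpow_eq_one.mpr hmem
    obtain ⟨j', rfl⟩ := orderOf_dvd_iff_zpow_eq_one.mpr hj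
    have e0 := PresentedGroup.one_of_mem (rels := metaRels n m r) (x := FreeGroup.of (0 : Fin 2) ^ n)
      (Set.mem_insert _ _)
    have e1 := PresentedGroup.one_of_mem (rels := metaRels n m r) (x := FreeGroup.of (1 : Fin 2) ^ m)
      (Set.mem_insert_of_mem _ (Set.mem_insert _ _))
    rw [map_pow] at e0 e1
    rw [zpow_mul, zpow_mul, zpow_natCast, zpow_natCast]
    show (PresentedGroup.mk (metaRels n m r) (FreeGroup.of 1) ^ m) ^ j' *
      (PresentedGroup.mk (metaRels n m r) (FreeGroup.of 0) ^ n) ^ i' = 1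
    rw [e0, e1, one_zpow, one_zpow, one_mul]
  · intro t
    obtain ⟨y, hy, x, hx, rfl⟩ := (Coprime.mem_sup_of_le_normalizer (show zpowers b ≤ normalizer (zpowers a : Set T) by
      rw [← hDa, normalizer_eq_top]; exact le_top)).mp (hsup'.ge (mem_top t))
    obtain ⟨i, rfl⟩ := mem_zpowers_iff.mp hx
    obtain ⟨j, rfl⟩ := mem_zpowers_iff.mp hy
    exact ⟨PresentedGroup.of 1 ^ j * PresentedGroup.of 0 ^ i, by rw [map_mul, map_zpow, map_zpow, hF0, hF1]⟩

end Cfsg.Agent.FPF25
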