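import Cfsg.Agent.FPF25.Ico
import Cfsg.Agent.OrderType.Count

/-!
Zassenhaus' theorem: a nonsolvable group acting fixed-point-freely is `SL(2, 5)` up to a factor of
order prime to thirty and index at most two.
-/

set_option autoImplicit false

namespace Cfsg.Agent.FPF25

open Subgroup

variable {G : Type*} [Group G] [Finite G]

theorem not_subsingleton_of_perfect {Q : Type*} [Group Q] [Group.IsSolvable Q] (h : commutator Q = ⊤) :
    Subsingleton Q := by
  by_contra hc
  rw [not_subsingleton_iff_nontrivial] at hc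
  exact (Group.IsSolvable.commutator_lt_top_of_nontrivial Q).ne h

omit [Finite G] in
theorem eq_top_of_perfect (hperf : commutator G = ⊤) (N : Subgroup G) [N.Normal] [Group.IsSolvable (G ⧸ N)] :
    N = ⊤ := by
  have : commutator (G ⧸ N) = ⊤ := by
    rw [← top_le_iff, ← MonoidHom.range_eq_top.mpr (QuotientGroup.mk'_surjective N), MonoidHom.range_eq_map,
      ← hperf, _root_.commutator_def, Subgroup.map_commutator, _root_.commutator_def]
    exact commutator_mono le_top le_top
  have := not_subsingleton_of_perfect this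
  exact QuotientGroup.subgroup_eq_top_of_subsingleton N this

theorem HasFPF.three_dvd (h : HasFPF G) [Nontrivial G] (hperf : commutator G = ⊤) : 3 ∣ Nat.card G := by
  have : Fact (Nat.Prime 2) := ⟨Nat.prime_two⟩
  by_contra h3
  have hc : Cfsg.HasNormalPComplement 2 G := Fusion.hasNormalPComplement_of_frobenius fun Q hQ g hg hgo => by
    refine h.mem_centralizer_of_coprime_six hQ hg (Nat.Coprime.mul_right (m := 2) (n := 3) hgo ?_)
    exact ((Nat.Prime.coprime_iff_not_dvd Nat.prime_three).mpr fun hd =>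
      h3 (hd.trans (_root_.orderOf_dvd_natCard g))).symm
  obtain ⟨N, hN, hcop, k, hk⟩ := Fusion.hasNormalPComplement_iff_exists.mp hc
  have hq : IsPGroup 2 (G ⧸ N) := IsPGroup.of_card (n := k) (by rw [← index_eq_card, hk])
  have := hq.isNilpotent
  have hNtop : N = ⊤ := eq_top_of_perfect hperf N
  rw [hNtop, card_top] at hcop
  have : IsZGroup G := h.isZGroup_of_odd fun hd => by
    have := Nat.eq_one_of_dvd_coprimes hcop hd dvd_rfl
    omega
  exact (IsZGroup.commutator_lt (G := G)).ne hperf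

open scoped IsMulCommutative in
/-- An element of order three of a perfect group is moved off its axis. -/
theorem HasFPF.exists_conj_ne (h : HasFPF G) (hperf : commutator G = ⊤) {a : G} (ha : orderOf a = 3) :
    ∃ g : G, g * a * g⁻¹ ≠ a ∧ g * a * g⁻¹ ≠ a⁻¹ := by
  have : Fact (Nat.Prime 3) := ⟨Nat.prime_three⟩
  by_contra hcon
  push Not at hcon
  have hpm : ∀ g : G, g * a * g⁻¹ = a ∨ g * a * g⁻¹ = a⁻¹ := fun g => (em _).imp id (hcon g)
  have hcent : a ∈ center G := by
    have hle : commutator G ≤ centralizer ({a} : Set G) := by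
      rw [_root_.commutator_def]
      refine commutator_le.mpr fun g _ k _ => mem_centralizer_singleton_iff.mpr ?_
      have key : ∀ x y : G, (x * y) * a * (x * y)⁻¹ = (y * x) * a * (y * x)⁻¹ := fun x y => by
        have e : ∀ x y : G, (x * y) * a * (x * y)⁻¹ = x * (y * a * y⁻¹) * x⁻¹ := fun x y => by group
        rw [e x y, e y x]
        rcases hpm x with e1 | e1 <;> rcases hpm y with e2 | e2 <;>
          simp only [e1, e2, ← conj_inv, inv_inv]
      have h1 := key g⁻¹ k⁻¹
      have h2 : g * k * g⁻¹ * k⁻¹ * a * (g * k * g⁻¹ * k⁻¹)⁻¹ = a := by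
        calc g * k * g⁻¹ * k⁻¹ * a * (g * k * g⁻¹ * k⁻¹)⁻¹
            = (g * k) * ((g⁻¹ * k⁻¹) * a * (g⁻¹ * k⁻¹)⁻¹) * (g * k)⁻¹ := by group
          _ = (g * k) * ((k⁻¹ * g⁻¹) * a * (k⁻¹ * g⁻¹)⁻¹) * (g * k)⁻¹ := by rw [h1]
          _ = a := by group
      rw [commutatorElement_def]
      exact (mul_inv_eq_iff_eq_mul.mp h2)
    rw [hperf] at hle
    exact mem_center_iff.mpr fun g => mem_centralizer_singleton_iff.mp (hle (mem_top g))
  obtain ⟨P, hP⟩ := (IsPGroup.of_card (p := 3) (n := 1) (G := zpowers a)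
    (by rw [Nat.card_zpowers, ha, pow_one])).exists_le_sylow
  have hPc : IsCyclic P := h.isCyclic_of_odd (by norm_num) P.isPGroup'
  let τ : G →* (P : Subgroup G) := MonoidHom.transfer (MonoidHom.id (P : Subgroup G))
  have hτ : τ a = 1 := by
    have hle : commutator G ≤ τ.ker := Abelianization.commutator_subset_ker τ
    rw [hperf] at hle
    exact hle (mem_top a)
  have hkey : ∀ (k : ℕ) (g₀ : G), g₀⁻¹ * a ^ k * g₀ ∈ (P : Subgroup G) → g₀⁻¹ * a ^ k * g₀ = a ^ k :=
    fun k g₀ _ => by rw [mul_assoc, ← mem_center_iff.mp (pow_mem hcent k) g₀, inv_mul_cancel_left]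
  have hτ' : τ a = MonoidHom.id (P : Subgroup G) ⟨a ^ (P : Subgroup G).index,
      MonoidHom.transfer_eq_pow_aux a hkey⟩ :=
    MonoidHom.transfer_eq_pow _ a hkey
  rw [hτ] at hτ'
  have h1 : a ^ (P : Subgroup G).index = 1 := (congrArg Subtype.val hτ').symm
  have h2 := orderOf_dvd_of_pow_eq_one h1
  rw [ha] at h2
  exact P.not_dvd_index h2

variable {M : Type*} [AddCommGroup M] [Module ℚ M]

/-- The configuration exists as soon as there is a nontrivial perfect subgroup. -/
theorem HasFPF.exists_ico (h : HasFPF G) (Z : Setting G M) (D : Subgroup G) [Nontrivial D]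
    (hperf : commutator D = ⊤) : Nonempty (Setting.Ico Z) := by
  classical
  have : Fact (Nat.Prime 3) := ⟨Nat.prime_three⟩
  obtain ⟨a, ha⟩ := exists_prime_orderOf_dvd_card' (G := D) 3 ((h.subgroup D).three_dvd hperf)
  obtain ⟨g, hg1, hg2⟩ := (h.subgroup D).exists_conj_ne hperf ha
  have ha' : orderOf (a : G) = 3 := by rw [orderOf_coe, ha]
  obtain ⟨F⟩ := Setting.exists_frame_of_noncomm Z ha'
    (show orderOf (((g * a * g⁻¹ : D)) : G) = 3 by rw [orderOf_coe, Setting.orderOf_conj', ha])
    (fun e => hg1 (Subtype.ext e)) (fun e => hg2 (Subtype.ext e))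
  by_cases hall : ∀ d : G, orderOf d = 3 → F.Axis d
  · exfalso
    let X := {K : Subgroup G // Nat.card K = 3}
    let pts : Fin 4 → X := ![⟨zpowers F.p1, by rw [Nat.card_zpowers, F.o1]⟩,
      ⟨zpowers F.p2, by rw [Nat.card_zpowers, F.o2]⟩, ⟨zpowers F.p3, by rw [Nat.card_zpowers, F.o3]⟩,
      ⟨zpowers F.p4, by rw [Nat.card_zpowers, F.o4]⟩]
    have hsurj : Function.Surjective pts := by
      rintro ⟨K, hK⟩
      obtain ⟨⟨d, hd⟩, hdo⟩ := exists_prime_orderOf_dvd_card' (G := K) 3 (dvd_of_eq hK.symm)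
      rw [Subgroup.orderOf_mk] at hdo
      have hKd : zpowers d = K := eq_of_le_of_card_ge (zpowers_le.mpr hd) (by rw [hK, Nat.card_zpowers, hdo])
      subst hKd
      rcases hall d hdo with (rfl | rfl) | (rfl | rfl) | (rfl | rfl) | (rfl | rfl)
      exacts [⟨0, rfl⟩, ⟨0, Subtype.ext (by simp [pts])⟩, ⟨1, rfl⟩,
        ⟨1, Subtype.ext (by simp [pts])⟩, ⟨2, rfl⟩, ⟨2, Subtype.ext (by simp [pts])⟩, ⟨3, rfl⟩,
        ⟨3, Subtype.ext (by simp [pts])⟩]
    letI : MulAction D X :=
      { smul := fun x K => ⟨K.1.map (MulAut.conj (x : G)).toMonoidHom, by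
          refine Eq.trans ?_ K.2
          exact (Nat.card_congr (K.1.equivMapOfInjective _ (MulAut.conj (x : G)).injective).toEquiv).symm⟩
        one_smul := fun K => Subtype.ext (by
          show K.1.map _ = K.1
          ext y; simp)
        mul_smul := fun x y K => Subtype.ext (by
          show K.1.map _ = (K.1.map _).map _
          rw [Subgroup.map_map]
          congr 1
          ext z; simp [mul_assoc]) }
    let σ : D →* Equiv.Perm X := MulAction.toPermHom D X
    let ι : X ↪ Fin 4 := ⟨Function.surjInv hsurj, Function.injective_surjInv hsurj⟩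
    have hsol : Group.IsSolvable (Equiv.Perm X) := by
      have := OrderType.s4_solvable
      exact Group.isSolvable_of_isSolvable_injective (Equiv.Perm.viaEmbeddingHom_injective ι)
    have hker : σ.ker = ⊤ := by
      have : Group.IsSolvable (D ⧸ σ.ker) := Group.isSolvable_of_isSolvable_injective
        (QuotientGroup.kerLift_injective σ)
      exact eq_top_of_perfect hperf _
    have hfix : σ g ⟨zpowers (a : G), by rw [Nat.card_zpowers, ha']⟩ =
        ⟨zpowers (a : G), by rw [Nat.card_zpowers, ha']⟩ := by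
      rw [MonoidHom.mem_ker.mp (hker ▸ mem_top g : g ∈ σ.ker)]
      rfl
    have hmap : (zpowers (a : G)).map (MulAut.conj (g : G)).toMonoidHom = zpowers (a : G) :=
      congrArg Subtype.val hfix
    have hmem : (g : G) * a * (g : G)⁻¹ ∈ zpowers (a : G) := hmap ▸ mem_map_of_mem _ (mem_zpowers _)
    obtain ⟨k, hk⟩ := mem_powers_iff_mem_zpowers.mpr hmem
    have hk' : (a : G) ^ k = g * a * (g : G)⁻¹ := hk
    rw [← pow_mod_orderOf, ha'] at hk'
    have hne : ((g : G) * a * (g : G)⁻¹) ≠ 1 := fun e => by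
      have := Setting.orderOf_conj' (g : G) (a : G)
      rw [e, orderOf_one, ha'] at this
      omega
    have : k % 3 < 3 := Nat.mod_lt _ (by norm_num)
    interval_cases hk3 : k % 3
    · exact hne (by simpa using hk'.symm)
    · exact hg1 (Subtype.ext (by simpa using hk'.symm))
    · refine hg2 (Subtype.ext ?_)
      show (g : G) * a * (g : G)⁻¹ = (a : G)⁻¹
      rw [← hk', eq_inv_iff_mul_eq_one, ← pow_succ]
      have h3 := pow_orderOf_eq_one (a : G)
      rwa [ha'] at h3
  · push Not at hall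
    obtain ⟨d, hd, hno⟩ := hall
    obtain ⟨k, -, c, -, hc, hnc, hc1, r, hr, hc2⟩ := F.exists_conj hd hno
    exact ⟨⟨F, c, hc, hnc, hc1, r, hr, hc2⟩⟩

/-- A perfect group with a fixed-point-free representation is `SL(2, 5)`. -/
theorem HasFPF.nonempty_mulEquiv_of_perfect (h : HasFPF G) [Nontrivial G] (hperf : commutator G = ⊤) :
    Nonempty (G ≃* Matrix.SpecialLinearGroup (Fin 2) (ZMod 5)) := by
  obtain ⟨Z⟩ := h.exists_setting
  have hperf' : commutator (⊤ : Subgroup G) = ⊤ := by
    apply Subgroup.map_injective (⊤ : Subgroup G).subtype_injective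
    rw [map_subtype_commutator, ← MonoidHom.range_eq_map, range_subtype, ← _root_.commutator_def]
    exact hperf
  obtain ⟨I⟩ := h.exists_ico Z ⊤ hperf'
  have := I.normal_S
  have hC := I.isZGroup_centralizer h
  set X := I.S ⊔ centralizer (I.S : Set G) with hX
  have hXtop : X = ⊤ := by
    have : Group.IsSolvable (G ⧸ X) := by
      have h2 := I.index_dvd_two h
      rw [← hX] at h2
      rcases (Nat.dvd_prime Nat.prime_two).mp h2 with e | e
      · rw [index_eq_card, Nat.card_eq_one_iff_unique] at e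
        have := e.1
        infer_instance
      · have : Fact (Nat.Prime 2) := ⟨Nat.prime_two⟩
        have : IsCyclic (G ⧸ X) := isCyclic_of_prime_card (p := 2) (by rw [← index_eq_card, e])
        exact Group.isSolvable_of_comm fun a b => (IsCyclic.isMulCommutative).is_comm.comm a b
    exact eq_top_of_perfect hperf X
  have hS : I.S = ⊤ := by
    have : Group.IsSolvable (G ⧸ I.S) := by
      refine Group.isSolvable_of_surjective
        (f := (QuotientGroup.mk' I.S).comp (centralizer (I.S : Set G)).subtype) fun q => ?_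
      obtain ⟨x, rfl⟩ := QuotientGroup.mk'_surjective I.S q
      obtain ⟨s, hs, c, hc, rfl⟩ := mem_sup_of_normal_left.mp (hXtop.ge (mem_top x))
      refine ⟨⟨c, hc⟩, ?_⟩
      show QuotientGroup.mk' I.S c = QuotientGroup.mk' I.S (s * c)
      rw [map_mul, QuotientGroup.mk'_apply, QuotientGroup.mk'_apply, (QuotientGroup.eq_one_iff s).mpr hs, one_mul]
    exact eq_top_of_perfect hperf _
  obtain ⟨e⟩ := I.nonempty_mulEquiv
  exact ⟨((MulEquiv.subgroupCongr hS.symm).symm.trans topEquiv).symm.trans e⟩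

/-- A nonsolvable group has a nontrivial perfect subgroup. -/
theorem exists_perfect_of_not_isSolvable (hns : ¬ Group.IsSolvable G) :
    ∃ D : Subgroup G, Nontrivial D ∧ commutator D = ⊤ := by
  have hant : Antitone (derivedSeries G) := antitone_nat_of_succ_le fun n => by
    rw [derivedSeries_succ]; exact commutator_le_self _
  obtain ⟨n, hn⟩ : ∃ n, derivedSeries G (n + 1) = derivedSeries G n := by
    by_contra hc
    push Not at hc
    have hlt : ∀ n, Nat.card (derivedSeries G n) + n ≤ Nat.card G := by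
      intro n
      induction n with
      | zero => rw [derivedSeries_zero, card_top]; omega
      | succ n ih =>
        have h1 : Nat.card (derivedSeries G (n + 1)) < Nat.card (derivedSeries G n) := by
          refine lt_of_le_of_ne (Nat.le_of_dvd Nat.card_pos (card_dvd_of_le (hant n.le_succ))) fun e => hc n ?_
          exact eq_of_le_of_card_ge (hant n.le_succ) e.ge
        omega
    have := hlt (Nat.card G)
    have : 0 < Nat.card (derivedSeries G (Nat.card G)) := Nat.card_pos
    omega
  refine ⟨derivedSeries G n, ?_, ?_⟩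
  · rw [nontrivial_iff_ne_bot]
    exact fun e => hns ⟨⟨n, e⟩⟩
  · apply Subgroup.map_injective (derivedSeries G n).subtype_injective
    rw [map_subtype_commutator, ← MonoidHom.range_eq_map, range_subtype, ← derivedSeries_succ, hn]

/-- The structure of a nonsolvable group with a fixed-point-free representation. -/
theorem HasFPF.structure_of_not_isSolvable (h : HasFPF G) (hns : ¬ Group.IsSolvable G) :
    ∃ G₀ : Subgroup G, G₀.Normal ∧ (G₀.index = 1 ∨ G₀.index = 2) ∧
      ∃ S M : Subgroup G, S.Normal ∧ S ⊔ M = G₀ ∧ S ⊓ M = ⊥ ∧ (∀ s ∈ S, ∀ x ∈ M, s * x = x * s) ∧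
        Nonempty (S ≃* Matrix.SpecialLinearGroup (Fin 2) (ZMod 5)) ∧
        (∀ (p : ℕ) [Fact p.Prime] (P : Sylow p M), IsCyclic P) ∧ (Nat.card M).Coprime 30 := by
  obtain ⟨D, hDne, hD⟩ := exists_perfect_of_not_isSolvable hns
  obtain ⟨Z⟩ := h.exists_setting
  obtain ⟨I⟩ := h.exists_ico Z D hD
  have hSn := I.normal_S
  set C := centralizer (I.S : Set G) with hC
  have hCz := I.isZGroup_centralizer h
  have hCno : ∀ x ∈ C, orderOf x ≠ 4 := fun x hx =>
    I.no_four h (mem_centralizer_iff.mp hx _ I.g1_mem).symm (mem_centralizer_iff.mp hx _ I.g2_mem).symm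
  have : Fact (Nat.Prime 2) := ⟨Nat.prime_two⟩
  have hsmall : ∀ (Q : Subgroup C), IsPGroup 2 Q → ∀ x ∈ Q, orderOf (x : G) ∣ 2 := by
    intro Q hQ x hx
    obtain ⟨j, hj⟩ := IsPGroup.iff_orderOf.mp hQ ⟨x, hx⟩
    rw [Subgroup.orderOf_mk, ← orderOf_coe] at hj
    rcases j with _ | _ | j
    · rw [hj]; exact one_dvd _
    · rw [hj]; exact dvd_of_eq (pow_one 2)
    · refine absurd ?_ (hCno ((x : G) ^ 2 ^ j) (pow_mem x.2 _))
      rw [orderOf_pow' _ (pow_ne_zero _ two_ne_zero), hj,
        Nat.gcd_eq_right (pow_dvd_pow 2 (by omega)), Nat.pow_div (by omega) two_pos,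
        show j + 1 + 1 - j = 2 by omega]
      rfl
  have hcompl : Cfsg.HasNormalPComplement 2 C := Fusion.hasNormalPComplement_of_frobenius fun Q hQ g _ _ => by
    refine mem_centralizer_iff.mpr fun x hx => ?_
    rcases (Nat.dvd_prime Nat.prime_two).mp (hsmall Q hQ x hx) with e | e
    · rw [orderOf_eq_one_iff] at e
      rw [show x = 1 from Subtype.ext e, one_mul, mul_one]
    · exact Subtype.ext (mem_center_iff.mp (h.mem_center_of_orderOf_two e) (g : G)).symm
  obtain ⟨P, N, hNn, hNP⟩ := hcompl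
  have hNodd : ¬ 2 ∣ Nat.card N := by
    rw [← hNP.index_eq_card]
    exact P.not_dvd_index
  set M0 := N.map C.subtype with hM0
  have hM0C : M0 ≤ C := map_subtype_le _
  have hcardM : Nat.card M0 = Nat.card N :=
    (Nat.card_congr (N.equivMapOfInjective _ C.subtype_injective).toEquiv).symm
  have hsup : I.S ⊔ M0 = I.S ⊔ C := by
    refine le_antisymm (sup_le_sup_left hM0C _) (sup_le le_sup_left fun x hx => ?_)
    obtain ⟨n, hn, t, ht, hnt⟩ := mem_sup_of_normal_left.mp (hNP.sup_eq_top.ge (mem_top (⟨x, hx⟩ : C)))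
    have hx' : (n : G) * (t : G) = x := congrArg Subtype.val hnt
    rw [← hx']
    refine mul_mem (mem_sup_right ⟨n, hn, rfl⟩) (mem_sup_left ?_)
    rcases (Nat.dvd_prime Nat.prime_two).mp (hsmall P P.isPGroup' t ht) with e | e
    · rw [orderOf_eq_one_iff] at e
      rw [e]; exact one_mem _
    · rw [h.eq_of_orderOf_two e (t := I.F.g1 * I.F.g1)
        (by rw [← pow_two, orderOf_pow' _ two_ne_zero, I.orderOf_g1]; rfl)]
      exact mul_mem I.g1_mem I.g1_mem
  have hMcop : (Nat.card M0).Coprime 30 := by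
    have hd : Nat.card M0 ∣ Nat.card C := card_dvd_of_le hM0C
    rw [show 30 = 2 * 3 * 5 by norm_num]
    refine Nat.Coprime.mul_right (Nat.Coprime.mul_right ?_ ?_) ?_
    · rw [hcardM]
      exact ((Nat.Prime.coprime_iff_not_dvd Nat.prime_two).mpr hNodd).symm
    · exact ((Nat.Prime.coprime_iff_not_dvd Nat.prime_three).mpr fun e => I.three_not_dvd (e.trans hd)).symm
    · exact ((Nat.Prime.coprime_iff_not_dvd Nat.prime_five).mpr fun e => I.five_not_dvd h (e.trans hd)).symm
  refine ⟨I.S ⊔ C, inferInstance, (Nat.dvd_prime Nat.prime_two).mp (I.index_dvd_two h), I.S, M0, hSn, hsup,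
    ?_, fun s hs x hx => mem_centralizer_iff.mp (hM0C hx) s hs, I.nonempty_mulEquiv, ?_, hMcop⟩
  · refine eq_bot_iff.mpr fun x ⟨hxS, hxM⟩ => mem_bot.mpr ?_
    have h1 : orderOf x ∣ 2 := orderOf_dvd_of_pow_eq_one (by rw [pow_two]; exact I.sq_eq_one hxS (hM0C hxM))
    have h2 : orderOf x ∣ Nat.card N := hcardM ▸ (orderOf_mk x hxM ▸ _root_.orderOf_dvd_natCard (⟨x, hxM⟩ : M0))
    exact orderOf_eq_one_iff.mp (Nat.eq_one_of_dvd_coprimes
      ((Nat.Prime.coprime_iff_not_dvd Nat.prime_two).mpr hNodd) h1 h2)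
  · intro p _ Q
    have := (h.subgroup M0).isZGroup_of_odd (hcardM ▸ hNodd)
    infer_instance

theorem HasFPF.exists_sl25 (h : HasFPF G) (hns : ¬ Group.IsSolvable G) :
    ∃ K : Subgroup G, Nonempty (K ≃* Matrix.SpecialLinearGroup (Fin 2) (ZMod 5)) := by
  obtain ⟨_, -, -, S, _, -, -, -, -, hS, -⟩ := h.structure_of_not_isSolvable hns
  exact ⟨S, hS⟩

end Cfsg.Agent.FPF25
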